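import Cfsg.Agent.H853.ThC.Local_m3
import Cfsg.Agent.TAB.Eng.Map
import Cfsg.Agent.Characters.CentralCharacter
import Cfsg.Agent.H215.MS.TrFast
import Cfsg.Agent.Lib.BitNetSimple
import Cfsg.Agent.TAB.Use.Defs_m3
import Cfsg.Agent.FastGrp
import Cfsg.Agent.Prune
set_option linter.all false

section
prune_inst 0x7ffffffafbe9bfffffff7fbfffdbfffa13c4cfffe6dffb43ffebebbfdfff13672bc5fba70df4d8ffdef760b410387843fb7eefffe86fdc7ffffdfff41ffbee4ff7ff350151d49c341fbe0fff93f177aa6f3ffffffffffffffffffffffffffffffffffbfeffff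

-- part: TAB/Sm2/Fin
section
prune_inst 0x500064000000000000020000420030000090000080004000020002490002a0400800020000000834200808010008110000000200000000000000000100000020800080080000000000000000000000000000000000000000000000000000000000000
set_option linter.all false
open scoped Cfsg.Agent.FastGrp

/-!
# The table from orthogonal rows of norms one and two (helper3, TAB)

`tab_of_rows` : the rows `A` (norm one) and `B` (norm two) are virtual and pass the check `okRows`; then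
`Tab T (mkRows A B)`.
-/

set_option autoImplicit false

namespace Cfsg.Agent.TAB.Sm2

open Cfsg Cfsg.Agent.TAB.Eng Cfsg.Agent.TAB.Use Cfsg.Agent.Characters Cfsg.Agent.Characters.Core
open Cfsg.Agent.Characters.Brauer Cfsg.Agent.H447.CTab
open scoped ComplexConjugate

universe u

/-- vectors of norm at most three -/
theorem supp_card {I : Type*} [Fintype I] [DecidableEq I] {μ : I → ℤ} {n : ℕ} (hn : n ≤ 3)
    (h : ∑ x, μ x * μ x = n) :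
    (∀ x, μ x ≠ 0 → μ x = 1 ∨ μ x = -1) ∧ (Finset.univ.filter fun x => μ x ≠ 0).card = n := by
  have h1 : ∀ x, μ x ≠ 0 → μ x = 1 ∨ μ x = -1 := fun x hx => by
    have h2 : μ x * μ x ≤ ∑ x, μ x * μ x :=
      Finset.single_le_sum (f := fun x => μ x * μ x) (fun y _ => mul_self_nonneg _) (Finset.mem_univ x)
    have h3 : (n : ℤ) ≤ 3 := by exact_mod_cast hn
    have h4 : μ x < 2 := by nlinarith
    have h5 : -2 < μ x := by nlinarith only [hn, h, h2]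
    omega
  refine ⟨h1, ?_⟩
  have h2 : ∑ x, μ x * μ x = ∑ x, if μ x ≠ 0 then (1 : ℤ) else 0 := Finset.sum_congr rfl fun x _ => by
    by_cases hx : μ x = 0
    · simp [hx]
    · rcases h1 x hx with h3 | h3 <;> simp [h3]
  rw [h2, Finset.sum_boole] at h
  exact_mod_cast h

/-- the rows -/
def rw' (A B : List (List ℤ)) (j : ℕ) : List ℤ := (A ++ B).getD j []

/-- the norms -/
def nm (A : List (List ℤ)) (j : ℕ) : ℕ := if j < A.length then 1 else 2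

/-- twice the common degree of the constituents -/
noncomputable def wt (A B : List (List ℤ)) (j : ℕ) : ℤ :=
  if j < A.length then 2 * nth (rw' A B j) 0 else nth (rw' A B j) 0

/-- the row of the character `i` -/
def ro (A : List (List ℤ)) (i : ℕ) : ℕ := if i < A.length then i else A.length + (i - A.length) / 2

/-- the table -/
noncomputable def mkRows (A B : List (List ℤ)) : Rows where
  deg := (List.range (A.length + 2 * B.length)).map fun i => (wt A B (ro A i)).toNat / 2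
  rel := ((List.range A.length).map fun j => ([(j, 1)], rw' A B j)) ++
    (List.range B.length).map fun j =>
      ([(A.length + 2 * j, 1), (A.length + 2 * j + 1, 1)], rw' A B (A.length + j))

/-- the half sum or the half difference of the rows is not an irreducible character up to sign -/
noncomputable def sepB (D : Dat) (r s : List ℤ) (t : ℕ) : Bool :=
  decide (0 < D.cnt t) && ((nth r t + nth s t) % 2 != 0 ||
    (D.cnt t * (nth r t + nth s t)) % (nth r 0 + nth s 0) != 0 ||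
    (D.cnt t * (nth r t - nth s t)) % (nth r 0 - nth s 0) != 0)

/-- the check -/
noncomputable def okRows (D : Dat) (A B : List (List ℤ)) : Bool :=
  D.cntL.length == D.n && D.ord 0 == 1 &&
  (allL (fun j => decide (0 < nth (rw' A B j) 0) && allL (fun k =>
    decide (ip D (rw' A B j) (rw' A B k) = if j = k then (D.N : ℤ) * nm A j else 0) &&
      (j == k || decide (k < A.length) || (List.range D.n).any (sepB D (rw' A B j) (rw' A B k))))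
      (List.range (j + 1)))
    (List.range (A.length + B.length))) &&
  allL (fun t => decide (((List.range (A.length + B.length)).map fun j => wt A B j * nth (rw' A B j) t).sum =
    if t = 0 then 2 * (D.N : ℤ) else 0)) (List.range D.n)

theorem sum_range_eq' (f : ℕ → ℤ) (n : ℕ) : ((List.range n).map f).sum = ∑ i ∈ Finset.range n, f i := by
  induction n with
  | zero => rfl
  | succ n ih => rw [List.range_succ, List.map_append, List.sum_append, ih, Finset.sum_range_succ]; simp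

variable {G : Type u} [Group G] [Finite G] {D : Dat} {T : TD G D}

/-- integrality of the central characters on the types -/
theorem dvd_of_irr (hm : T.Mass) (h1 : T.ty 1 = 0) {ψ : G → ℂ} (hψ : IsIrrCharacter G ψ) {u : ℕ → ℤ} {e : ℤ}
    (he : e ≠ 0) (h : ∀ g, (u (T.ty g) : ℂ) = e * ψ g) {t : ℕ} (ht : t < D.n) : (D.cnt t * u t) % u 0 = 0 := by
  classical
  have := Fintype.ofFinite G
  have h0 := isIrr_apply_one_ne_zero hψ
  obtain ⟨n, ρ, hρ, rfl⟩ := hψ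
  have h2 := CentralCharacter.isIntegral_sum_int ρ (fun x => if T.ty x = t then 1 else 0) fun x g => by
    rw [T.conj]
  have he' : (e : ℂ) ≠ 0 := by exact_mod_cast he
  have h3 : (u 0 : ℂ) = e * ρ.character 1 := h1 ▸ h 1
  have h4 : (∑ x, (((if T.ty x = t then 1 else 0 : ℤ)) : ℂ) * ρ.character x) * e = (D.cnt t * u t : ℤ) := by
    have h5 := sum_mass hm fun s => if s = t then (u s : ℂ) else 0
    simp only [smul_ite, smul_zero, Finset.sum_ite_eq', Finset.mem_range, ht, if_true, nsmul_eq_mul] at h5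
    rw [Int.cast_mul, Int.cast_natCast, ← h5, Finset.sum_mul]
    refine Finset.sum_congr rfl fun x _ => ?_
    split_ifs
    · rw [h x, Int.cast_one, one_mul, mul_comm]
    · rw [Int.cast_zero, zero_mul, zero_mul]
  have h5 : (u 0 : ℂ) ≠ 0 := h3 ▸ mul_ne_zero he' h0
  rw [← ρ.char_one, ← mul_div_mul_right _ _ he', h4, mul_comm _ (e : ℂ), ← h3] at h2
  obtain ⟨c, hc⟩ := GaloisBasic.exists_int_of_isIntegral h2 ⟨((D.cnt t * u t : ℤ) : ℚ) / u 0, by push_cast; rfl⟩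
  rw [div_eq_iff h5] at hc
  exact Int.emod_eq_zero_of_dvd ⟨c, by rw [mul_comm _ c]; exact_mod_cast hc⟩

/-- **the table from the rows** -/
theorem tab_of_rows (hm : T.Mass) (h1 : T.ty 1 = 0) {A B : List (List ℤ)} (hv : ∀ r ∈ A ++ B, Virt T (nth r))
    (hc : okRows D A B = true) : Tab T (mkRows A B) := by
  classical
  have := Fintype.ofFinite G
  have := finite_irr (G := G)
  have := Fintype.ofFinite (IrrCharacter G)
  simp only [okRows, Bool.and_eq_true, beq_iff_eq] at hc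
  obtain ⟨⟨⟨hl, ho⟩, hc1⟩, hc2⟩ := hc
  set a := A.length with ha
  set m := A.length + B.length with hm'
  have hv' : ∀ j, Virt T (nth (rw' A B j)) := fun j => by
    by_cases hj : j < (A ++ B).length
    · rw [rw', List.getD_eq_getElem _ _ hj]
      exact hv _ (List.getElem_mem hj)
    · rw [rw', List.getD_eq_default _ _ (by omega)]
      exact Virt.const 0
  let μ : ℕ → IrrCharacter G → ℤ := fun j => mu (hv' j)
  have hpos : ∀ j < m, 0 < nth (rw' A B j) 0 := fun j hj => by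
    have h := allL_spec hc1 j (List.mem_range.2 hj)
    rw [Bool.and_eq_true] at h
    exact of_decide_eq_true h.1
  have hjk : ∀ j < m, ∀ k ≤ j, (ip D (rw' A B j) (rw' A B k) = if j = k then (D.N : ℤ) * nm A j else 0) ∧
      (j = k ∨ k < a ∨ ∃ t < D.n, sepB D (rw' A B j) (rw' A B k) t = true) :=
    fun j hj k hk => by
      have h := allL_spec hc1 j (List.mem_range.2 hj)
      rw [Bool.and_eq_true] at h
      have h2 := allL_spec h.2 k (List.mem_range.2 (Nat.lt_succ_of_le hk))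
      simpa only [Bool.and_eq_true, decide_eq_true_eq, Bool.or_eq_true, beq_iff_eq, List.any_eq_true,
        List.mem_range, bne_iff_ne, or_assoc] using h2
  have hG : ∀ j < m, ∀ k ≤ j, ∑ x, μ j x * μ k x = if j = k then (nm A j : ℤ) else 0 := fun j hj k hk => by
    have h2 := inner_of_ip hm hl (v := rw' A B j) (w := rw' A B k) (z := if j = k then (nm A j : ℤ) else 0)
      ((hjk j hj k hk).1.trans (by split_ifs <;> simp))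
    rw [show classInner (fn T (rw' A B j)) (fn T (rw' A B k)) = _ from inner_sum_mu (hv' j) (hv' k)] at h2
    exact_mod_cast h2
  have hS : ∀ j < m, (∀ x, μ j x ≠ 0 → μ j x = 1 ∨ μ j x = -1) ∧
      (Finset.univ.filter fun x => μ j x ≠ 0).card = nm A j := fun j hj =>
    supp_card (by rw [nm]; split_ifs <;> omega) ((hG j hj j le_rfl).trans (if_pos rfl))
  have hnm : ∀ j, nm A j ≤ 2 := fun j => by rw [nm]; split_ifs <;> omega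
  -- disjoint supports
  have hdis : ∀ j < m, ∀ k < j, ∀ x, μ j x ≠ 0 → μ k x = 0 := fun j hj k hk x hx => by
    by_contra hx'
    have h2 := (hG j hj k hk.le).trans (if_neg hk.ne')
    obtain ⟨y, hy, hy'⟩ : ∃ y, y ≠ x ∧ μ j y * μ k y ≠ 0 := by
      by_contra h3
      push Not at h3
      rw [Finset.sum_eq_single x (fun y _ hy => h3 y hy) fun h => absurd (Finset.mem_univ x) h] at h2
      exact mul_ne_zero hx hx' h2
    have h3 : ∀ i < m, μ i x ≠ 0 → μ i y ≠ 0 → (Finset.univ.filter fun z => μ i z ≠ 0) = {y, x} ∧ nm A i = 2 :=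
      fun i hi h4 h5 => by
        have h6 : ({y, x} : Finset _) ⊆ Finset.univ.filter fun z => μ i z ≠ 0 := by
          intro z hz
          rw [Finset.mem_insert, Finset.mem_singleton] at hz
          rcases hz with rfl | rfl <;> simpa only [_root_.ne_eq, _root_.Finset.mem_filter, _root_.Finset.mem_univ, _root_.true_and]
        have h7 := Finset.card_le_card h6
        have h8 := hnm i
        rw [Finset.card_pair hy, (hS i hi).2] at h7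
        exact ⟨(Finset.eq_of_subset_of_card_le h6 (by rw [Finset.card_pair hy, (hS i hi).2]; exact h8)).symm,
          by omega⟩
    obtain ⟨h4, -⟩ := h3 j hj hx (left_ne_zero_of_mul hy')
    obtain ⟨h5, h6⟩ := h3 k (by omega) hx' (right_ne_zero_of_mul hy')
    rcases (hjk j hj k hk.le).2 with h7 | h7 | ⟨t, ht, h7⟩
    · omega
    · rw [nm, if_pos h7] at h6
      omega
    · have h9 : ∀ i < m, (Finset.univ.filter fun z => μ i z ≠ 0) = {y, x} → ∀ g, (nth (rw' A B i) (T.ty g) : ℂ) =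
          μ i y * (y : G → ℂ) g + μ i x * (x : G → ℂ) g := fun i _ h g => by
        rw [apply_mu (hv' i) g, ← Finset.sum_pair (f := fun z : IrrCharacter G => (μ i z : ℂ) * (z : G → ℂ) g) hy,
          ← h, Finset.sum_filter]
        refine Finset.sum_congr rfl fun z _ => ?_
        split_ifs with h10
        · rfl
        · rw [show mu (hv' i) z = 0 from not_not.1 h10, Int.cast_zero, zero_mul]
      have h10 : μ j y * μ k y + μ j x * μ k x = 0 := by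
        rw [← h2, ← Finset.sum_pair (f := fun z => μ j z * μ k z) hy, ← h4, Finset.sum_filter]
        refine Finset.sum_congr rfl fun z _ => ?_
        split_ifs with h10
        · rfl
        · rw [not_not.1 h10, zero_mul]
      have h11 : ∀ s : ℤ, s = 1 ∨ s = -1 → ∃ (z : IrrCharacter G) (e : ℤ), e ≠ 0 ∧ ∀ g,
          ((nth (rw' A B j) (T.ty g) + s * nth (rw' A B k) (T.ty g) : ℤ) : ℂ) = (2 * e : ℤ) * (z : G → ℂ) g := by
        intro s hs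
        have h12 : (μ j y + s * μ k y = 2 * μ j y ∧ μ j x + s * μ k x = 0) ∨
            (μ j y + s * μ k y = 0 ∧ μ j x + s * μ k x = 2 * μ j x) := by
          rcases (hS j hj).1 x hx with h13 | h13 <;> rcases (hS k (by omega)).1 x hx' with h14 | h14 <;>
            rcases (hS j hj).1 y (left_ne_zero_of_mul hy') with h15 | h15 <;>
            rcases (hS k (by (clear * - hv' hj hk; omega))).1 y (right_ne_zero_of_mul hy') with h16 | h16 <;>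
            rcases hs with rfl | rfl <;> rw [h13, h14, h15, h16] at h10 ⊢ <;> (clear * - hv' h10; omega)
        have h13 : ∀ g, ((nth (rw' A B j) (T.ty g) + s * nth (rw' A B k) (T.ty g) : ℤ) : ℂ) =
            (μ j y + s * μ k y : ℤ) * (y : G → ℂ) g + (μ j x + s * μ k x : ℤ) * (x : G → ℂ) g := fun g => by
          push_cast
          rw [h9 j hj h4 g, h9 k (by omega) h5 g]
          ring
        rcases h12 with ⟨h14, h15⟩ | ⟨h14, h15⟩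
        · exact ⟨y, μ j y, left_ne_zero_of_mul hy', fun g => by rw [h13, h14, h15, Int.cast_zero, zero_mul, add_zero]⟩
        · exact ⟨x, μ j x, hx, fun g => by rw [h13, h14, h15, Int.cast_zero, zero_mul, zero_add]⟩
      simp only [sepB, Bool.and_eq_true, decide_eq_true_eq, Bool.or_eq_true, bne_iff_ne] at h7
      obtain ⟨h7, (h8 | h8) | h8⟩ := h7
      · rw [← hm.2 t ht] at h7
        obtain ⟨⟨g, rfl⟩⟩ := (Nat.card_pos_iff.1 h7).1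
        obtain ⟨z, e, -, h12⟩ := h11 1 (Or.inl rfl)
        refine h8 (even_of_integral (x := (e : ℂ) * (z : G → ℂ) g) ((isIntegral_algebraMap (R := ℤ) (A := ℂ)
          (x := e)).mul (GaloisBasic.isIntegral_apply (isIrr_isCharacter z.2) _)) ?_)
        have h13 := h12 g
        rw [one_mul] at h13
        rw [h13]
        push_cast
        ring
      · obtain ⟨z, e, he, h12⟩ := h11 1 (Or.inl rfl)
        simp only [one_mul] at h12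
        exact h8 (dvd_of_irr (u := fun t => nth (rw' A B j) t + nth (rw' A B k) t) hm h1 z.2
          (mul_ne_zero two_ne_zero he) h12 ht)
      · obtain ⟨z, e, he, h12⟩ := h11 (-1) (Or.inr rfl)
        simp only [neg_mul, one_mul, ← sub_eq_add_neg] at h12
        exact h8 (dvd_of_irr (u := fun t => nth (rw' A B j) t - nth (rw' A B k) t) hm h1 z.2
          (mul_ne_zero two_ne_zero he) h12 ht)
  have huniq : ∀ j < m, ∀ k < m, ∀ x, μ j x ≠ 0 → μ k x ≠ 0 → j = k := fun j hj k hk x hx hx' => by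
    rcases lt_trichotomy j k with h | h | h
    · exact absurd (hdis k hk j h x hx') hx
    · exact h
    · exact absurd (hdis j hj k h x hx) hx'
  -- the regular character
  have hreg : ∀ (x : IrrCharacter G) (d : ℕ), (x : G → ℂ) 1 = d → ∑ j ∈ Finset.range m, wt A B j * μ j x = 2 * d :=
    fun x d hd => by
      have h2 : (∑ j ∈ Finset.range m, (wt A B j : ℂ) • fn T (rw' A B j)) =
          fun g => if g = 1 then 2 * (Nat.card G : ℂ) else 0 := by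
        funext g
        have h3 := of_decide_eq_true (allL_spec hc2 _ (List.mem_range.2 (T.lt g)))
        rw [sum_range_eq'] at h3
        have h4 : T.ty g = 0 ↔ g = 1 := ⟨fun h => by
          have h5 := T.ord g
          rwa [h, ho, orderOf_eq_one_iff] at h5, fun h => h ▸ h1⟩
        have h5 := congrArg (Int.cast : ℤ → ℂ) h3
        simp only [h4, Int.cast_sum, Int.cast_mul, Int.cast_ite, Int.cast_natCast, Int.cast_ofNat,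
          Int.cast_zero, ← hm.1] at h5
        rw [Finset.sum_apply]
        exact h5
      have h3 := congrArg (fun f => classInner f (x : G → ℂ)) h2
      simp only [classInner_sum_left, classInner_smul_left] at h3
      rw [Finset.sum_congr rfl fun j _ => congrArg _ (inner_mu (hv' j) x), classInner_def,
        Finset.sum_eq_single 1 (fun g _ hg => by rw [if_neg hg, zero_mul]) fun h => absurd (Finset.mem_univ _) h,
        if_pos rfl, hd, Complex.conj_natCast, mul_comm 2, mul_assoc, inv_mul_cancel_left₀ card_ne_zero_complex] at h3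
      exact_mod_cast h3
  have hw : ∀ j < m, 0 < wt A B j := fun j hj => by
    have := hpos j hj
    rw [wt]
    split_ifs <;> omega
  have hone : ∀ j < m, ∀ x, μ j x ≠ 0 → μ j x = 1 ∧ (x : G → ℂ) 1 = ((wt A B j).toNat / 2 : ℕ) :=
    fun j hj x hx => by
      obtain ⟨d, hd0, hd⟩ := isIrr_apply_one x.2
      have h2 := hreg x d hd
      rw [Finset.sum_eq_single j (fun k hk hkj => by
        by_cases h3 : μ k x = 0
        · rw [h3, mul_zero]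
        · exact absurd (huniq k (Finset.mem_range.1 hk) j hj x h3 hx) hkj)
        fun h => absurd (Finset.mem_range.2 hj) h] at h2
      have h3 := hw j hj
      rcases (hS j hj).1 x hx with h4 | h4
      · rw [h4] at h2
        refine ⟨h4, hd.trans (congrArg _ ?_)⟩
        omega
      · rw [h4] at h2
        omega
  have hex : ∀ j, ∃ p : IrrCharacter G × IrrCharacter G, j < m →
      (∀ x, μ j x ≠ 0 ↔ x = p.1 ∨ x = p.2) ∧ (p.1 = p.2 ↔ j < a) := fun j => by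
    by_cases hj : j < m
    · have h2 := (hS j hj).2
      by_cases hja : j < a
      · rw [nm, if_pos hja, Finset.card_eq_one] at h2
        obtain ⟨x, hx⟩ := h2
        refine ⟨(x, x), fun _ => ⟨fun y => ?_, by simpa⟩⟩
        simpa only [Finset.mem_filter, Finset.mem_univ, true_and, Finset.mem_singleton, or_self]
          using Finset.ext_iff.1 hx y
      · rw [nm, if_neg hja, Finset.card_eq_two] at h2
        obtain ⟨x, y, hxy, hx⟩ := h2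
        refine ⟨(x, y), fun _ => ⟨fun z => ?_, iff_of_false hxy hja⟩⟩
        simpa only [Finset.mem_filter, Finset.mem_univ, true_and, Finset.mem_singleton, Finset.mem_insert]
          using Finset.ext_iff.1 hx z
    · exact ⟨(⟨1, isIrr_one⟩, ⟨1, isIrr_one⟩), fun h => absurd h hj⟩
  choose p hp using hex
  let ξ : ℕ → IrrCharacter G := fun i => if (i - a) % 2 = 0 then (p (ro A i)).1 else (p (ro A i)).2
  have hn : (mkRows A B).n = a + 2 * B.length := by simp [Rows.n, mkRows, ha]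
  have hro : ∀ i < a + 2 * B.length, ro A i < m := fun i hi => by
    rw [ro]
    split_ifs <;> omega
  have hξ : ∀ i < a + 2 * B.length, μ (ro A i) (ξ i) ≠ 0 := fun i hi => by
    rw [(hp _ (hro i hi)).1]
    simp only [ξ]
    split_ifs <;> simp
  have hval : ∀ j < m, ∀ g, (nth (rw' A B j) (T.ty g) : ℂ) =
      ∑ x ∈ ({(p j).1, (p j).2} : Finset (IrrCharacter G)), (x : G → ℂ) g := fun j hj g => by
    rw [apply_mu (hv' j) g, ← Finset.sum_subset (Finset.subset_univ {(p j).1, (p j).2}) fun x _ hx => ?_]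
    · refine Finset.sum_congr rfl fun x hx => ?_
      rw [Finset.mem_insert, Finset.mem_singleton, ← (hp j hj).1] at hx
      rw [show mu (hv' j) x = 1 from (hone j hj x hx).1, Int.cast_one, one_mul]
    · rw [Finset.mem_insert, Finset.mem_singleton, ← (hp j hj).1, not_not] at hx
      rw [show mu (hv' j) x = 0 from hx, Int.cast_zero, zero_mul]
  refine ⟨fun i => ξ i, ⟨fun i _ => (ξ i).2, fun i hi k hk h => ?_, fun ψ hψ => ?_, fun i hi => ?_⟩, ?_⟩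
  · rw [hn] at hi hk
    have h2 : ξ i = ξ k := Subtype.ext h
    have h3 := huniq _ (hro i hi) _ (hro k hk) _ (hξ i hi) (h2 ▸ hξ k hk)
    have h4 := (hp _ (hro i hi)).2
    simp only [ξ, ← h3] at h2
    have h5 : ro A i < a ∨ (i - a) % 2 = (k - a) % 2 := by
      split_ifs at h2 with h6 h7 h7
      · omega
      · exact Or.inl (h4.1 h2)
      · exact Or.inl (h4.1 h2.symm)
      · (clear * - h6 h7; solve | lia | omega)
    simp only [ro, ← ha] at h3 h5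
    split_ifs at h3 h5 <;> omega
  · obtain ⟨d, hd0, hd⟩ := isIrr_apply_one hψ
    have h2 := hreg ⟨ψ, hψ⟩ d hd
    obtain ⟨j, hj, h3⟩ := Finset.exists_ne_zero_of_sum_ne_zero (h2 ▸ (by omega : (2 : ℤ) * d ≠ 0))
    rw [Finset.mem_range] at hj
    have h4 := ((hp j hj).1 _).1 (right_ne_zero_of_mul h3)
    rw [hn]
    by_cases hja : j < a
    · refine ⟨j, by omega, ?_⟩
      have h5 : ro A j = j := if_pos hja
      have h6 := (hp j hj).2.2 hja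
      simp only [ξ, h5, ← h6, ite_self, or_self] at h4 ⊢
      exact congrArg Subtype.val h4
    · rcases h4 with h4 | h4
      · refine ⟨a + 2 * (j - a), by omega, ?_⟩
        have h5 : ro A (a + 2 * (j - a)) = j := by rw [ro, if_neg (by omega)]; (clear * - hn hψ hja; omega)
        simp only [ξ, h5]
        rw [if_pos (by omega)]
        exact congrArg Subtype.val h4
      · refine ⟨a + 2 * (j - a) + 1, by omega, ?_⟩
        have h5 : ro A (a + 2 * (j - a) + 1) = j := by rw [ro, if_neg (by omega)]; (clear * - hn hψ hja; omega)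
        simp only [ξ, h5]
        rw [if_neg (by omega)]
        exact congrArg Subtype.val h4
  · rw [hn] at hi
    rw [(hone _ (hro i hi) _ (hξ i hi)).2, Rows.d, mkRows, List.getD_eq_getElem _ _ (by simpa using hi),
      List.getElem_map, List.getElem_range]
  · intro r hr g
    rcases List.mem_append.1 hr with hr | hr
    · obtain ⟨j, hj, rfl⟩ := List.mem_map.1 hr
      rw [List.mem_range] at hj
      have h5 : ro A j = j := if_pos hj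
      have h6 := (hp j (by omega)).2.2 hj
      rw [← nth_eq, hval j (by omega), ← h6]
      simp only [ξ, h5, ← h6, _root_.List.map_cons, _root_.Int.cast_one, _root_.ite_self, _root_.one_mul, _root_.List.map_nil, _root_.List.sum_cons, _root_.List.sum_nil, _root_.add_zero, _root_.Finset.mem_singleton, _root_.Finset.insert_eq_of_mem, _root_.Finset.sum_singleton]
    · obtain ⟨j, hj, rfl⟩ := List.mem_map.1 hr
      rw [List.mem_range] at hj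
      have h5 : ro A (a + 2 * j) = a + j := by rw [ro, if_neg (by omega)]; omega
      have h6 : ro A (a + 2 * j + 1) = a + j := by rw [ro, if_neg (by omega)]; omega
      have h7 : (p (a + j)).1 ≠ (p (a + j)).2 := fun h => by
        have := (hp (a + j) (by omega)).2.1 h
        omega
      have h8 : (a + 2 * j - a) % 2 = 0 := by omega
      have h9 : ¬ (a + 2 * j + 1 - a) % 2 = 0 := by omega
      rw [← nth_eq, hval (a + j) (by omega), Finset.sum_pair h7]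
      simp only [ξ, ← ha, h5, h6, List.map_cons, List.map_nil, List.sum_cons, List.sum_nil, if_pos h8, if_neg h9,
        Int.cast_one, one_mul, add_zero]

end Cfsg.Agent.TAB.Sm2

/-! ### Packed rows (helper56) -/

namespace Cfsg.Agent.TAB.Pk

open Cfsg.Agent.TAB.Eng Cfsg.Agent.TAB.Sm2 Finset

/-- the check; `sep` separates the rows of norm two -/
noncomputable def rowsF (D : Dat) (A B : List (List ℤ)) (sep : ℕ → ℕ → Bool) : Bool :=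
  D.cntL.length == D.n && D.ord 0 == 1 &&
  (allL (fun j => decide (0 < nth (rw' A B j) 0) && allL (sep j) (List.range (j + 1)))
    (List.range (A.length + B.length)) &&
    gramF D.cntL (A ++ B) ((List.range (A.length + B.length)).map fun j => D.N * nm A j)) &&
  linF (A ++ B) ((List.range (A.length + B.length)).map fun j => (Sm2.wt A B j).toNat)
    ((List.range D.n).map fun t => if t = 0 then 2 * D.N else 0)

theorem rows_of {D : Dat} {A B : List (List ℤ)} {sep : ℕ → ℕ → Bool} (h : rowsF D A B sep = true) :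
    (D.cntL.length == D.n && D.ord 0 == 1 &&
    (allL (fun j => decide (0 < nth (rw' A B j) 0) && allL (fun k =>
      decide (ip D (rw' A B j) (rw' A B k) = if j = k then (D.N : ℤ) * nm A j else 0) && sep j k) (List.range (j + 1)))
      (List.range (A.length + B.length))) &&
    allL (fun t => decide (((List.range (A.length + B.length)).map fun j => Sm2.wt A B j * nth (rw' A B j) t).sum =
      if t = 0 then 2 * (D.N : ℤ) else 0)) (List.range D.n)) = true := by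
  simp only [rowsF, Bool.and_eq_true] at h ⊢
  obtain ⟨⟨h0, h1, h2⟩, h3⟩ := h
  have h4 := fun j hj => Bool.and_eq_true _ _ ▸ allL_spec h1 j hj
  have hl : (A ++ B).length = A.length + B.length := List.length_append
  refine ⟨⟨h0, allL_of fun j hj => Bool.and_eq_true _ _ ▸ ⟨(h4 j hj).1, allL_of fun k hk =>
    Bool.and_eq_true _ _ ▸ ⟨decide_eq_true ?_, allL_spec (h4 j hj).2 k hk⟩⟩⟩, allL_of fun t ht => decide_eq_true ?_⟩
  · rw [List.mem_range] at hj hk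
    have h5 := gram h2 j (hl ▸ hj) k (by omega)
    rwa [getD_range _ _ hj, ntd_getD, ntd_getD, Nat.cast_mul] at h5
  · have h5 := lin h3 t (by simpa using ht)
    rw [getD_range _ _ (List.mem_range.1 ht), hl] at h5
    rw [sum_rg]
    refine (sum_congr rfl fun j hj => ?_).trans (h5.trans (by split_ifs <;> simp))
    have h6 := of_decide_eq_true (h4 j (List.mem_range.2 (mem_range.1 hj))).1
    rw [getD_range _ _ (mem_range.1 hj), ntd_getD, Int.toNat_of_nonneg]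
    · rfl
    · show 0 ≤ if j < A.length then 2 * nth (rw' A B j) 0 else nth (rw' A B j) 0
      split_ifs <;> omega

end Cfsg.Agent.TAB.Pk

private theorem dce_7b65107e8d84 : _root_.True := by
  try have : _root_.True := by simp only [_root_.Cfsg.Agent.TAB.Sm2.wt.eq_1]
  try have : _root_.True := by simp only [_root_.Cfsg.Agent.TAB.Sm2.sepB.eq_1]
  try have : _root_.True := by simp only [_root_.Cfsg.Agent.TAB.Sm2.rw'.eq_1]
  try have : _root_.True := by simp only [_root_.Cfsg.Agent.TAB.Sm2.ro.eq_1]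
  try have : _root_.True := by simp only [_root_.Cfsg.Agent.TAB.Sm2.okRows.eq_1]
  try have : _root_.True := by simp only [_root_.Cfsg.Agent.TAB.Sm2.nm.eq_1]
  try have : _root_.True := by simp only [_root_.Cfsg.Agent.TAB.Use.Rows.d.eq_1]
  try have : _root_.True := by simp only [_root_.Cfsg.Agent.TAB.Use.Rows.n.eq_1]
  try have : _root_.True := by simp only [_root_.Cfsg.Agent.TAB.Sm2.mkRows.eq_1]
  exact _root_.True.intro
end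

-- part: DZ3/Spor/Tr
section
set_option linter.all false
open scoped Cfsg.Agent.FastGrp

/-!
# Traces of powers of words in `Co0`, with the whole matrix packed in one number (helper11)

`NN g` holds the matrix of `g` (times eight, plus sixteen) as digits in base `32`; one letter costs 24 products.
-/

set_option autoImplicit false
set_option maxHeartbeats 200000

namespace Cfsg.Agent.DZ3.Spor.Tr

open Cfsg Finset
open Cfsg.Agent.SporadicA.GolayBase (idx pt idx_lt pt_idx idx_pt sum_pt)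
open Cfsg.Agent.SporadicStructure.Co0Base (e8 e8_coe eight_mul_co0 co0_sqNorm)
open Cfsg.Agent.Co2Type.Mono (tr8)
open Cfsg.Agent.Lib.BitNetSimple (force force_eq)

/-- digits in base `b` -/
def pk (b : ℕ) (f : ℕ → ℕ) (n : ℕ) : ℕ := ∑ k ∈ range n, f k * b ^ k

theorem pk_succ (b : ℕ) (f : ℕ → ℕ) (n : ℕ) : pk b f (n + 1) = f 0 + b * pk b (fun k => f (k + 1)) n := by
  unfold pk
  rw [sum_range_succ', mul_sum, add_comm, pow_zero, mul_one]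
  congr 1
  exact sum_congr rfl fun k _ => by ring

theorem pk_lt {b : ℕ} (n : ℕ) : ∀ {f : ℕ → ℕ}, (∀ k, f k < b) → pk b f n < b ^ n := by
  induction n with
  | zero => intro f _; simp [pk]
  | succ n ih =>
    intro f h
    have h1 := ih (f := fun k => f (k + 1)) fun k => h _
    have h2 := h 0
    rw [pk_succ, pow_succ']
    calc f 0 + b * pk b (fun k => f (k + 1)) n < b + b * pk b (fun k => f (k + 1)) n := by omega
      _ = b * (pk b (fun k => f (k + 1)) n + 1) := by ring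
      _ ≤ b * b ^ n := Nat.mul_le_mul_left _ h1

theorem pk_mod {b : ℕ} {f : ℕ → ℕ} (h : f 0 < b) (n : ℕ) : pk b f (n + 1) % b = f 0 := by
  rw [pk_succ, Nat.add_mul_mod_self_left, Nat.mod_eq_of_lt h]

theorem pk_div {b : ℕ} {f : ℕ → ℕ} (h : f 0 < b) (n : ℕ) : pk b f (n + 1) / b = pk b (fun k => f (k + 1)) n := by
  rw [pk_succ, Nat.add_mul_div_left _ _ (by omega), Nat.div_eq_of_lt h, zero_add]

theorem pk_dig {b : ℕ} (n : ℕ) : ∀ {f : ℕ → ℕ}, (∀ k, f k < b) → ∀ j < n, pk b f n / b ^ j % b = f j := by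
  induction n with
  | zero => intro f _ j hj; omega
  | succ n ih =>
    intro f h j hj
    cases j with
    | zero => rw [pow_zero, Nat.div_one, pk_mod (h 0)]
    | succ j =>
      rw [pow_succ', ← Nat.div_div_eq_div_mul, pk_div (h 0)]
      exact ih (f := fun k => f (k + 1)) (fun k => h _) j (by omega)

/-- eight times the entries -/
noncomputable def E (g : Co0) (i j : ℕ) : ℤ := ((g • e8 (pt j) : leechLattice) : GolayPt → ℤ) (pt i)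

theorem E_abs (g : Co0) (i j : ℕ) : |E g i j| ≤ 8 := by
  refine Cfsg.Agent.CoOneType.CoEval.abs_le_of_norm ?_ _
  rw [co0_sqNorm]
  exact Cfsg.Agent.CoOneType.CoEval.sqNorm_e8 _

theorem E_mul (a g : Co0) (i k : ℕ) : 8 * E (a * g) i k = ∑ j ∈ range 24, E a i j * E g j k := by
  unfold E
  rw [mul_smul, eight_mul_co0, sum_pt]
  exact sum_congr rfl fun j _ => mul_comm _ _

theorem tr8_eq (g : Co0) : tr8 g = ∑ i ∈ range 24, E g i i := by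
  unfold tr8
  rw [sum_pt]
  rfl

/-- the digits -/
noncomputable def dg (g : Co0) (i j : ℕ) : ℕ := (E g i j + 16).toNat

theorem dg_cast (g : Co0) (i j : ℕ) : (dg g i j : ℤ) = E g i j + 16 := by
  have := abs_le.1 (E_abs g i j)
  unfold dg
  omega

theorem dg_lt (g : Co0) (i j : ℕ) : dg g i j < 32 := by
  have := abs_le.1 (E_abs g i j)
  have := dg_cast g i j
  omega

/-- the base of the rows -/
def BB : ℕ := 0x1000000000000000000000000000000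

theorem BB_eq : BB = 32 ^ 24 := by norm_num [BB]

theorem BB_two : (2 : ℕ) ^ 120 = BB := by norm_num [BB]

/-- the rows -/
noncomputable def ro (g : Co0) (i : ℕ) : ℕ := pk 32 (dg g i) 24

theorem ro_lt (g : Co0) (i : ℕ) : ro g i < BB := by
  rw [BB_eq]
  exact pk_lt 24 (dg_lt g i)

/-- the matrix -/
noncomputable def NN (g : Co0) : ℕ := pk BB (ro g) 24

/-- products of the rows with the entries of a list, and the sum of the rows -/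
noncomputable def loop {α : Type} (c : List ℕ) : ℕ → ℕ → ℕ → (ℕ → ℕ → α) → α :=
  List.rec (fun _ P S κ => κ P S) (fun x _ ih n P S κ => force (Nat.mod n BB) fun r =>
    force (Nat.shiftRight n 120) fun n' => force (Nat.add P (Nat.mul x r)) fun P' => force (Nat.add S r) fun S' =>
      ih n' P' S' κ) c

theorem loop_eq {α : Type} (c : List ℕ) : ∀ (f : ℕ → ℕ), (∀ k, f k < BB) → ∀ (P S : ℕ) (κ : ℕ → ℕ → α),
    loop c (pk BB f c.length) P S κ =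
      κ (P + ∑ j ∈ range c.length, c.getD j 0 * f j) (S + ∑ j ∈ range c.length, f j) := by
  induction c with
  | nil => intro f _ P S κ; rfl
  | cons x c ih =>
    intro f hf P S κ
    have e : ∀ n, loop (x :: c) n P S κ = loop c (n >>> 120) (P + x * (n % BB)) (S + n % BB) κ := by
      intro n
      show force (Nat.mod n BB) (fun r => force (Nat.shiftRight n 120) fun n' =>
        force (Nat.add P (Nat.mul x r)) fun P' => force (Nat.add S r) fun S' => loop c n' P' S' κ) = _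
      rw [force_eq, force_eq, force_eq, force_eq]
      rfl
    have hB := BB_two
    rw [e, List.length_cons, Nat.shiftRight_eq_div_pow, hB, pk_mod (hf 0), pk_div (hf 0),
      ih _ (fun k => hf _), sum_range_succ', sum_range_succ', List.getD_cons_zero]
    simp only [List.getD_cons_succ]
    congr 1 <;> ring

/-- ones in base `32` -/
def on1 : ℕ := pk 32 (fun _ => 1) 24

/-- ones in the base of the rows -/
def on2 : ℕ := pk BB (fun _ => 1) 24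

/-- the packed columns of a matrix, followed by three constants -/
def wide (A : ℕ → ℕ → ℤ) : List ℕ := (List.range 24).map fun j => pk BB (fun i => (A i j + 8).toNat) 24

/-- one letter; `K0 = 3200 * on1 * on2`, `K1 = 8 * on2`, `s = 16 * on1 * c.sum` -/
noncomputable def step {α : Type} (K0 K1 : ℕ) (c : List ℕ) (s n : ℕ) (κ : ℕ → α) : α :=
  loop c n K0 0 fun P S => force (Nat.shiftRight (Nat.sub P (Nat.add (Nat.mul K1 S) s)) 3) κ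

theorem key_abs (n : ℕ) (a g h : ℕ → ℕ → ℤ) (B b : ℤ) (hh : ∀ i k, 8 * h i k = ∑ j ∈ range n, a i j * g j k) :
    (128 + 128 * n) * (∑ k ∈ range n, b ^ k) * (∑ i ∈ range n, B ^ i) +
      ∑ j ∈ range n, (∑ i ∈ range n, (a i j + 8) * B ^ i) * (∑ k ∈ range n, (g j k + 16) * b ^ k) =
    8 * ∑ i ∈ range n, (∑ k ∈ range n, (h i k + 16) * b ^ k) * B ^ i +
      (8 * (∑ i ∈ range n, B ^ i) * ∑ j ∈ range n, ∑ k ∈ range n, (g j k + 16) * b ^ k +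
        16 * (∑ k ∈ range n, b ^ k) * ∑ j ∈ range n, ∑ i ∈ range n, (a i j + 8) * B ^ i) := by
  have hr : ∀ (f : ℕ → ℤ) (c x : ℤ), ∑ k ∈ range n, (f k + c) * x ^ k =
      ∑ k ∈ range n, f k * x ^ k + c * ∑ k ∈ range n, x ^ k := by
    intro f c x
    rw [mul_sum, ← sum_add_distrib]
    exact sum_congr rfl fun k _ => by ring
  have h2 : 8 * ∑ i ∈ range n, (∑ k ∈ range n, h i k * b ^ k) * B ^ i =
      ∑ j ∈ range n, (∑ i ∈ range n, a i j * B ^ i) * (∑ k ∈ range n, g j k * b ^ k) := by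
    simp only [sum_mul_sum]
    rw [mul_sum, sum_comm]
    refine sum_congr rfl fun i _ => ?_
    rw [sum_comm, ← mul_assoc, mul_sum, sum_mul]
    refine sum_congr rfl fun k _ => ?_
    rw [← mul_assoc, hh, sum_mul, sum_mul]
    exact sum_congr rfl fun j _ => by ring
  simp only [hr]
  rw [mul_add, h2]
  generalize ∑ k ∈ range n, b ^ k = o1
  generalize ∑ i ∈ range n, B ^ i = o2
  have h5 : 128 * (n : ℤ) * o1 * o2 = ∑ j ∈ range n, 128 * o1 * o2 := by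
    rw [sum_const, card_range, nsmul_eq_mul]
    ring
  have h6 : ∑ j ∈ range n, 128 * o1 * o2 + ∑ j ∈ range n, (∑ i ∈ range n, a i j * B ^ i + 8 * o2) *
      (∑ k ∈ range n, g j k * b ^ k + 16 * o1) =
      ∑ j ∈ range n, (∑ i ∈ range n, a i j * B ^ i) * (∑ k ∈ range n, g j k * b ^ k) +
      (8 * o2 * ∑ j ∈ range n, (∑ k ∈ range n, g j k * b ^ k + 16 * o1) +
        16 * o1 * ∑ j ∈ range n, (∑ i ∈ range n, a i j * B ^ i + 8 * o2)) := by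
    rw [mul_sum, mul_sum, ← sum_add_distrib, ← sum_add_distrib, ← sum_add_distrib]
    exact sum_congr rfl fun j _ => by ring
  rw [← h5] at h6
  linear_combination h6

theorem pk_cast (b : ℕ) (f : ℕ → ℕ) (n : ℕ) : ((pk b f n : ℕ) : ℤ) = ∑ k ∈ range n, (f k : ℤ) * (b : ℤ) ^ k := by
  unfold pk
  rw [Nat.cast_sum]
  exact sum_congr rfl fun k _ => by rw [Nat.cast_mul, Nat.cast_pow]

theorem sum_getD (l : List ℕ) : l.sum = ∑ j ∈ range l.length, l.getD j 0 := by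
  induction l with
  | nil => rfl
  | cons x l ih => rw [List.sum_cons, List.length_cons, sum_range_succ', ih, add_comm]; rfl

theorem ro_cast (h : Co0) (j : ℕ) : ((ro h j : ℕ) : ℤ) = ∑ k ∈ range 24, (E h j k + 16) * ((32 : ℕ) : ℤ) ^ k := by
  rw [ro, pk_cast]
  exact sum_congr rfl fun k _ => by rw [dg_cast]

theorem on1_cast : ((on1 : ℕ) : ℤ) = ∑ k ∈ range 24, ((32 : ℕ) : ℤ) ^ k := by
  rw [on1, pk_cast]
  exact sum_congr rfl fun k _ => by rw [Nat.cast_one, one_mul]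

theorem on2_cast : ((on2 : ℕ) : ℤ) = ∑ k ∈ range 24, (BB : ℤ) ^ k := by
  rw [on2, pk_cast]
  exact sum_congr rfl fun k _ => by rw [Nat.cast_one, one_mul]

theorem wide_length (A : ℕ → ℕ → ℤ) : (wide A).length = 24 := by rw [wide, List.length_map, List.length_range]

theorem wide_cast {a : Co0} {A : ℕ → ℕ → ℤ} (hA : ∀ i < 24, ∀ j < 24, E a i j = A i j) {j : ℕ} (hj : j < 24) :
    (((wide A).getD j 0 : ℕ) : ℤ) = ∑ i ∈ range 24, (E a i j + 8) * (BB : ℤ) ^ i := by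
  have e : (wide A).getD j 0 = pk BB (fun i => (A i j + 8).toNat) 24 := by
    rw [List.getD_eq_getElem _ _ (by rw [wide_length]; exact hj)]
    simp only [wide, List.getElem_map, List.getElem_range]
  rw [e, pk_cast]
  refine sum_congr rfl fun i hi => ?_
  have h1 := abs_le.1 (E_abs a i j)
  rw [← hA i (mem_range.1 hi) j hj, Int.toNat_of_nonneg (by omega)]

attribute [irreducible] pk BB on1 on2 wide E dg

theorem key {a : Co0} {A : ℕ → ℕ → ℤ} (hA : ∀ i < 24, ∀ j < 24, E a i j = A i j) (g : Co0) :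
    3200 * on1 * on2 + ∑ j ∈ range 24, (wide A).getD j 0 * ro g j =
      8 * NN (a * g) + (8 * on2 * (0 + ∑ j ∈ range 24, ro g j) + 16 * on1 * (wide A).sum) := by
  have h1 := key_abs 24 (E a) (E g) (E (a * g)) (BB : ℤ) ((32 : ℕ) : ℤ) (E_mul a g)
  rw [← on1_cast, ← on2_cast] at h1
  simp only [← ro_cast] at h1
  have h2 : ∑ j ∈ range 24, (∑ i ∈ range 24, (E a i j + 8) * (BB : ℤ) ^ i) * (ro g j : ℤ) =
      ((∑ j ∈ range 24, (wide A).getD j 0 * ro g j : ℕ) : ℤ) := by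
    rw [Nat.cast_sum]
    exact sum_congr rfl fun j hj => by rw [Nat.cast_mul, wide_cast hA (mem_range.1 hj)]
  have h3 : ∑ j ∈ range 24, ∑ i ∈ range 24, (E a i j + 8) * (BB : ℤ) ^ i = (((wide A).sum : ℕ) : ℤ) := by
    rw [sum_getD, wide_length, Nat.cast_sum]
    exact sum_congr rfl fun j hj => by rw [wide_cast hA (mem_range.1 hj)]
  rw [h2, h3, ← pk_cast, ← Nat.cast_sum] at h1
  rw [zero_add, NN]
  generalize ∑ j ∈ range 24, (wide A).getD j 0 * ro g j = x at h1 ⊢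
  generalize ∑ j ∈ range 24, ro g j = y at h1 ⊢
  generalize pk BB (ro (a * g)) 24 = z at h1 ⊢
  generalize (wide A).sum = t at h1 ⊢
  generalize on1 = u at h1 ⊢
  generalize on2 = v at h1 ⊢
  zify
  push_cast at h1
  linarith

theorem step_eq {α : Type} {a : Co0} {A : ℕ → ℕ → ℤ} (hA : ∀ i < 24, ∀ j < 24, E a i j = A i j) (g : Co0)
    (κ : ℕ → α) : step (3200 * on1 * on2) (8 * on2) (wide A) (16 * on1 * (wide A).sum) (NN g) κ = κ (NN (a * g)) := by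
  unfold step
  have h6 := loop_eq (wide A) (ro g) (ro_lt g) (3200 * on1 * on2) 0 (fun P S =>
    force (Nat.shiftRight (Nat.sub P (Nat.add (Nat.mul (8 * on2) S) (16 * on1 * (wide A).sum))) 3) κ)
  rw [wide_length] at h6
  have h7 : ∀ x y z t : ℕ, Nat.shiftRight (Nat.sub (8 * x + (y * z + t)) (Nat.add (Nat.mul y z) t)) 3 = x := by
    intro x y z t
    show (8 * x + (y * z + t) - (y * z + t)) >>> 3 = x
    rw [Nat.add_sub_cancel, Nat.shiftRight_eq_div_pow]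
    omega
  rw [NN, h6, force_eq, key hA, h7]

/-- the data represent the letter -/
def St (K0 K1 : ℕ) (c : List ℕ) (s : ℕ) (a : Co0) : Prop :=
  ∀ (α : Type) (g : Co0) (κ : ℕ → α), step K0 K1 c s (NN g) κ = κ (NN (a * g))

theorem st_wide {a : Co0} {A : ℕ → ℕ → ℤ} (hA : ∀ i < 24, ∀ j < 24, E a i j = A i j) :
    St (3200 * on1 * on2) (8 * on2) (wide A) (16 * on1 * (wide A).sum) a := fun _ g κ => step_eq hA g κ

attribute [irreducible] step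

/-- a word -/
noncomputable def run {α : Type} (K0 K1 : ℕ) (C : ℕ → List ℕ) (s : ℕ → ℕ) (w : List ℕ) : ℕ → (ℕ → α) → α :=
  List.rec (fun n κ => κ n) (fun i _ ih n κ => ih n fun m => step K0 K1 (C i) (s i) m κ) w

theorem run_eq {α : Type} {e : ℕ → Co0} {K0 K1 : ℕ} {C : ℕ → List ℕ} {s : ℕ → ℕ}
    (hA : ∀ l, St K0 K1 (C l) (s l) (e l)) (w : List ℕ) (g : Co0) :
    ∀ κ : ℕ → α, run K0 K1 C s w (NN g) κ = κ (NN ((w.map e).prod * g)) := by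
  induction w with
  | nil => intro κ; rw [List.map_nil, List.prod_nil, one_mul]; rfl
  | cons l w ih =>
    intro κ
    show run K0 K1 C s w (NN g) (fun m => step K0 K1 (C l) (s l) m κ) = _
    rw [ih, hA l, List.map_cons, List.prod_cons, mul_assoc]

/-- the sum of the diagonal digits -/
noncomputable def diag (n : ℕ) (k : ℕ) : ℕ :=
  Nat.rec 0 (fun i ih => Nat.add ih (Nat.mod (Nat.shiftRight (Nat.mod (Nat.shiftRight n (Nat.mul 120 i)) BB)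
    (Nat.mul 5 i)) 32)) k

theorem diag_eq (g : Co0) : (diag (NN g) 24 : ℤ) = tr8 g + 384 := by
  have key : ∀ k ≤ 24, diag (NN g) k = ∑ i ∈ range k, dg g i i := by
    intro k
    induction k with
    | zero => intro _; rfl
    | succ k ih =>
      intro hk
      rw [sum_range_succ, ← ih (by omega)]
      show diag (NN g) k + ((NN g >>> (120 * k)) % BB) >>> (5 * k) % 32 = _
      have hB := BB_two
      have h5 : (2 : ℕ) ^ 5 = 32 := by norm_num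
      rw [Nat.shiftRight_eq_div_pow, Nat.shiftRight_eq_div_pow, pow_mul, pow_mul, h5, hB, NN,
        pk_dig 24 (ro_lt g) k (by omega), ro, pk_dig 24 (dg_lt g k) k (by omega)]
  rw [key 24 le_rfl, tr8_eq]
  push_cast
  simp only [dg_cast]
  rw [sum_add_distrib, sum_const, card_range]
  norm_num

/-- the diagonal sums of the first powers of a word -/
noncomputable def trs (K0 K1 : ℕ) (C : ℕ → List ℕ) (s : ℕ → ℕ) (w : List ℕ) (K : ℕ) : ℕ → List ℕ :=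
  Nat.rec (fun _ => []) (fun _ ih n => run K0 K1 C s w n fun m => force (diag m 24) fun t => t :: ih m) K

theorem trs_eq {e : ℕ → Co0} {K0 K1 : ℕ} {C : ℕ → List ℕ} {s : ℕ → ℕ} (hA : ∀ l, St K0 K1 (C l) (s l) (e l))
    (w : List ℕ) (K : ℕ) : ∀ g : Co0, trs K0 K1 C s w K (NN g) =
      (List.range K).map fun k => (tr8 ((w.map e).prod ^ (k + 1) * g) + 384).toNat := by
  induction K with
  | zero => intro g; rfl
  | succ K ih =>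
    intro g
    show run K0 K1 C s w (NN g) (fun m => force (diag m 24) fun t => t :: trs K0 K1 C s w K m) = _
    rw [run_eq hA, force_eq, ih, List.range_succ_eq_map, List.map_cons, List.map_map, zero_add, pow_one, ← diag_eq,
      Int.toNat_natCast]
    refine congrArg _ (List.map_congr_left fun k _ => ?_)
    show _ = (tr8 ((w.map e).prod ^ (k + 1 + 1) * g) + 384).toNat
    rw [← mul_assoc, ← pow_succ]

/-- the identity matrix -/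
def N1 : ℕ := pk BB (fun i => pk 32 (fun j => if i = j then 24 else 16) 24) 24

theorem pk_congr {b n : ℕ} {f g : ℕ → ℕ} (h : ∀ k < n, f k = g k) : pk b f n = pk b g n := by
  unfold pk
  exact sum_congr rfl fun k hk => by rw [h k (mem_range.1 hk)]

theorem N1_eq : N1 = NN 1 := by
  unfold N1 NN
  refine pk_congr fun i hi => ?_
  unfold ro
  refine pk_congr fun j hj => ?_
  unfold dg E
  rw [one_smul, e8_coe]
  by_cases h : i = j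
  · subst h
    rw [if_pos rfl, Pi.single_eq_same]
    rfl
  · rw [if_neg h, Pi.single_eq_of_ne]
    · rfl
    · intro h'
      apply h
      rw [← idx_pt hi, h', idx_pt hj]

attribute [irreducible] N1 NN diag

/-- strict evaluation of a list -/
noncomputable def frc {α : Type} (l : List ℕ) : (List ℕ → α) → α :=
  List.rec (fun κ => κ []) (fun x _ ih κ => force x fun y => ih fun l' => κ (y :: l')) l

theorem frc_eq {α : Type} (l : List ℕ) : ∀ κ : List ℕ → α, frc l κ = κ l := by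
  induction l with
  | nil => intro κ; rfl
  | cons x l ih =>
    intro κ
    show force x (fun y => frc l fun l' => κ (y :: l')) = _
    rw [force_eq, ih]

/-- one of three -/
noncomputable def sel {α : Type} (a b c : α) (l : ℕ) : α := Nat.rec a (fun k _ => Nat.rec b (fun _ _ => c) k) l

/-- the diagonal sums of the first `K` powers of the words of a list, three letters -/
noncomputable def tabV (k0 k1 k2 n0 : ℕ) (a b c : List ℕ) (K : ℕ) (ws : List (List ℕ)) : List (List ℕ) :=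
  force k0 fun K0 => force k1 fun K1 => force k2 fun K2 => force n0 fun n =>
    frc a fun c0 => frc b fun c1 => frc c fun c2 =>
      force (K2 * c0.sum) fun s0 => force (K2 * c1.sum) fun s1 => force (K2 * c2.sum) fun s2 =>
        ws.map fun w => trs K0 K1 (sel c0 c1 c2) (sel s0 s1 s2) w K n

theorem tabV_eq {e : ℕ → Co0} {k0 k1 k2 n0 : ℕ} {a b c : List ℕ} (h0 : St k0 k1 a (k2 * a.sum) (e 0))
    (h1 : St k0 k1 b (k2 * b.sum) (e 1)) (h2 : ∀ l, St k0 k1 c (k2 * c.sum) (e (l + 2))) (hn : n0 = NN 1) (K : ℕ)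
    (ws : List (List ℕ)) : tabV k0 k1 k2 n0 a b c K ws =
      ws.map fun w => (List.range K).map fun k => (tr8 ((w.map e).prod ^ (k + 1)) + 384).toNat := by
  unfold tabV
  simp only [force_eq, frc_eq]
  refine List.map_congr_left fun w _ => ?_
  rw [hn, trs_eq (e := e)]
  · simp only [mul_one]
  · intro l
    match l with
    | 0 => exact h0
    | 1 => exact h1
    | l + 2 => exact h2 l

attribute [irreducible] tabV

/-- the same with the constants -/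
noncomputable def tab (A0 A1 A2 : ℕ → ℕ → ℤ) (K : ℕ) (ws : List (List ℕ)) : List (List ℕ) :=
  tabV (3200 * on1 * on2) (8 * on2) (16 * on1) N1 (wide A0) (wide A1) (wide A2) K ws

/-- **traces of the powers of words** -/
theorem tab_sound {e : ℕ → Co0} {A0 A1 A2 : ℕ → ℕ → ℤ} (h0 : ∀ i < 24, ∀ j < 24, E (e 0) i j = A0 i j)
    (h1 : ∀ i < 24, ∀ j < 24, E (e 1) i j = A1 i j) (h2 : ∀ l, ∀ i < 24, ∀ j < 24, E (e (l + 2)) i j = A2 i j)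
    (K : ℕ) (ws : List (List ℕ)) :
    tab A0 A1 A2 K ws = ws.map fun w => (List.range K).map fun k => (tr8 ((w.map e).prod ^ (k + 1)) + 384).toNat :=
  tabV_eq (st_wide h0) (st_wide h1) (fun l => st_wide (h2 l)) N1_eq K ws

/-- the entries of an element given by its rows -/
theorem E_of_rep {g : Co0} {R : List (List ℤ)} (h : Cfsg.Agent.CoOneType.CoEval.Rep g R) :
    ∀ i < 24, ∀ j < 24, E g i j = (R.getD i []).getD j 0 := by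
  intro i hi j hj
  have h1 := congrFun (h.act (e8 (pt j))) (pt i)
  unfold E
  refine Eq.trans h1 ?_
  show dotInt _ _ / 8 = _
  rw [e8_coe, dotInt, sum_eq_single (pt j)]
  · rw [Pi.single_eq_same, Int.mul_ediv_cancel_left _ (by norm_num)]
    show (R.getD (idx (pt i)) []).getD (idx (pt j)) 0 = _
    rw [idx_pt hi, idx_pt hj]
  · intro p _ hp
    rw [Pi.single_eq_of_ne hp, zero_mul]
  · intro h2
    exact absurd (mem_univ _) h2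

end Cfsg.Agent.DZ3.Spor.Tr

private theorem dce_743fc5b9d4c7 : _root_.True := by
  try have : _root_.True := by simp only [_root_.Cfsg.Agent.DZ3.Spor.Tr.on1.eq_1]
  try have : _root_.True := by simp only [_root_.Cfsg.Agent.DZ3.Spor.Tr.BB.eq_1]
  try have : _root_.True := by simp only [_root_.Cfsg.Agent.DZ3.Spor.Tr.NN.eq_1]
  try have : _root_.True := by simp only [_root_.Cfsg.Agent.DZ3.Spor.Tr.on2.eq_1]
  try have : _root_.True := by simp only [_root_.Cfsg.Agent.DZ3.Spor.Tr.ro.eq_1]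
  try have : _root_.True := by simp only [_root_.Cfsg.Agent.DZ3.Spor.Tr.wide.eq_1]
  try have : _root_.True := by simp only [_root_.Cfsg.Agent.DZ3.Spor.Tr.pk.eq_1]
  exact _root_.True.intro
end

-- part: TAB/Co/Gen
section
set_option linter.all false
open scoped Cfsg.Agent.FastGrp

/-!
# Types and seeds from class representatives (helper88, TAB, Conway groups)

* `keyG` : the key of a generalized character; `ty_of_vals` : the type from the values on the powers;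
* `RC x g` : `g` is conjugate to a generator of `⟨x⟩`;
* `Seeded G D seeds` : a type function with exact numbers, for which the seeds are generalized characters;
* `seeded_of`, `seeded_of_rc`, `Seeded.comap`.
-/

set_option autoImplicit false

namespace Cfsg.Agent.TAB.Co

open Cfsg Cfsg.Agent.TAB.Eng Cfsg.Agent.Characters

universe u v

variable {G : Type u} [Group G]

theorem gen_conj {χ : G → ℂ} (hχ : IsGeneralizedCharacter G χ) (g h : G) : χ (h * g * h⁻¹) = χ g := by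
  obtain ⟨α, β, hα, hβ, rfl⟩ := hχ
  rw [Pi.sub_apply, Pi.sub_apply, Core.isCharacter_isClassFunction hα g h, Core.isCharacter_isClassFunction hβ g h]

theorem gen_gal [Finite G] {χ : G → ℂ} (hχ : IsGeneralizedCharacter G χ) {g : G} {k : ℕ}
    (hk : Nat.Coprime k (orderOf g)) {z : ℤ} (hz : χ g = z) : χ (g ^ k) = z := by
  obtain ⟨α, β, hα, hβ, rfl⟩ := hχ
  obtain ⟨σ, hσ⟩ := GaloisBasic.exists_ringEquiv_pow (orderOf_pos g).ne' hk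
  have h1 := GaloisBasic.map_apply (σ : ℂ →+* ℂ) hσ hα (orderOf_pos g).ne' (pow_orderOf_eq_one g)
  have h2 := GaloisBasic.map_apply (σ : ℂ →+* ℂ) hσ hβ (orderOf_pos g).ne' (pow_orderOf_eq_one g)
  rw [Pi.sub_apply] at hz ⊢
  rw [← h1, ← h2, ← map_sub, hz, map_intCast]

/-- the key of a generalized character -/
def keyG [Finite G] {χ : G → ℂ} (hχ : IsGeneralizedCharacter G χ) : Key G ℤ where
  P g a := χ g = a
  func _ _ _ ha hb := by exact_mod_cast ha.symm.trans hb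
  conj g h _ ha := (gen_conj hχ g h).trans ha
  gal _ _ _ hk ha := gen_gal hχ hk ha

/-- the proper powers are recognized as non-trivial -/
noncomputable def okOrd (D : Dat) (val : ℕ → ℤ) : Bool :=
  allL (fun i => decide (0 < D.ord i) && allL (fun d => d == 0 || D.ord i % d != 0 ||
    (D.pw i).any fun p => p.1 == d && val p.2 != val 0) (List.range (D.ord i))) (List.range D.n)

variable {D : Dat} {val : ℕ → ℤ} {K : Key G ℤ}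

theorem ty_of_vals (hO : okOrd D val = true) (h1 : K.P 1 (val 0)) {i : ℕ} (hi : i < D.n) {g : G}
    (hg : g ^ D.ord i = 1) (hv : ∀ p ∈ D.pw i, K.P (g ^ p.1) (val p.2)) : Ty K D val i g := by
  refine ⟨?_, hv⟩
  have h2 := allL_spec hO i (List.mem_range.2 hi)
  rw [Bool.and_eq_true, decide_eq_true_eq] at h2
  have h3 : orderOf g ∣ D.ord i := orderOf_dvd_of_pow_eq_one hg
  refine (Nat.le_of_dvd h2.1 h3).eq_or_lt.resolve_right fun h4 => ?_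
  have h5 := allL_spec h2.2 _ (List.mem_range.2 h4)
  have h6 : orderOf g ≠ 0 := fun h => by
    rw [h, zero_dvd_iff] at h3
    omega
  simp only [Bool.or_eq_true, beq_iff_eq, h6, bne_iff_ne, ne_eq, Nat.mod_eq_zero_of_dvd h3, not_true_eq_false,
    or_self, false_or, List.any_eq_true, Bool.and_eq_true] at h5
  obtain ⟨p, hp, h7, h8⟩ := h5
  have h9 := hv p hp
  rw [h7, pow_orderOf_eq_one] at h9
  exact h8 (K.func _ _ _ h9 h1)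

/-- the rational class -/
def RC (x g : G) : Prop := ∃ k, Nat.Coprime k (orderOf x) ∧ IsConj (x ^ k) g

theorem RC.of_conj {x g : G} (h : IsConj x g) : RC x g := ⟨1, Nat.coprime_one_left _, by rwa [pow_one]⟩

theorem RC.of_inv [Finite G] {x g : G} (h : IsConj x⁻¹ g) : RC x g := by
  have h0 := orderOf_pos x
  refine ⟨orderOf x - 1, ?_, ?_⟩
  · obtain ⟨m, hm⟩ : ∃ m, orderOf x = m + 1 := ⟨orderOf x - 1, by omega⟩
    rw [hm, Nat.add_sub_cancel]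
    exact (Nat.coprime_self_add_right.2 (Nat.coprime_one_right m))
  · have h1 : x⁻¹ = x ^ (orderOf x - 1) := by
      rw [inv_eq_iff_mul_eq_one, ← pow_succ', Nat.sub_add_cancel h0, pow_orderOf_eq_one]
    rwa [← h1]

theorem ty_rc {i : ℕ} {x g : G} (hx : Ty K D val i x) (h : RC x g) : Ty K D val i g := by
  obtain ⟨k, hk, h⟩ := h
  refine Ty.isConj ⟨(hk.symm.orderOf_pow).trans hx.1, fun p hp => ?_⟩ h
  rw [← pow_mul, mul_comm, pow_mul]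
  exact K.gal _ _ _ (hk.coprime_dvd_right (orderOf_pow_dvd _)) (hx.2 p hp)

theorem gen_rc [Finite G] {χ : G → ℂ} (hχ : IsGeneralizedCharacter G χ) {x g : G} (h : RC x g) {z : ℤ}
    (hz : χ x = z) : χ g = z := by
  obtain ⟨k, hk, h⟩ := h
  obtain ⟨c, rfl⟩ := isConj_iff.1 h
  rw [gen_conj hχ, gen_gal hχ hk hz]

theorem le_rc_one [Finite G] {x : G} {c : ℕ} (hc : Nat.card (Subgroup.centralizer ({x} : Set G)) ≤ c) :
    Nat.card G / c ≤ Nat.card {g : G // RC x g} := by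
  have h1 : Nat.card G / c ≤ Nat.card {g : G // IsConj x g} := by
    apply Nat.div_le_of_le_mul
    rw [← card_class x, mul_comm]
    exact Nat.mul_le_mul_right _ hc
  refine h1.trans (Nat.card_le_card_of_injective (fun g => ⟨g.1, RC.of_conj g.2⟩) fun a b hab => ?_)
  exact Subtype.ext (congrArg Subtype.val hab :)

theorem le_rc_two [Finite G] {x y : G} {c : ℕ} (hc : Nat.card (Subgroup.centralizer ({x} : Set G)) ≤ c)
    (hd : Nat.card (Subgroup.centralizer ({y} : Set G)) ≤ c) (hy : RC x y) (hxy : ¬ IsConj x y) :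
    2 * (Nat.card G / c) ≤ Nat.card {g : G // RC x g} := by
  have key : ∀ z : G, Nat.card (Subgroup.centralizer ({z} : Set G)) ≤ c →
      Nat.card G / c ≤ Nat.card {g : G // IsConj z g} := fun z he => by
    apply Nat.div_le_of_le_mul
    rw [← card_class z, mul_comm]
    exact Nat.mul_le_mul_right _ he
  rw [two_mul]
  refine (Nat.add_le_add (key x hc) (key y hd)).trans ?_
  rw [← Nat.card_sum]
  obtain ⟨k, hk, hy⟩ := hy
  refine Nat.card_le_card_of_injective (Sum.elim (fun g => ⟨g.1, RC.of_conj g.2⟩)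
    (fun g => ⟨g.1, k, hk, hy.trans g.2⟩)) ?_
  rintro (a | a) (b | b) hab
  · exact congrArg Sum.inl (Subtype.ext (congrArg Subtype.val hab :))
  · have h1 : a.1 = b.1 := congrArg Subtype.val hab
    exact absurd (a.2.trans (h1 ▸ b.2.symm)) hxy
  · have h1 : a.1 = b.1 := congrArg Subtype.val hab
    exact absurd (b.2.trans (h1 ▸ a.2.symm)) hxy
  · exact congrArg Sum.inr (Subtype.ext (congrArg Subtype.val hab :))

/-- a type function with the exact numbers, for which the seeds are generalized characters -/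
def Seeded (G : Type u) [Group G] (D : Dat) (seeds : List (List ℤ)) : Prop :=
  ∃ T : TD G D, T.Mass ∧ ∀ sd ∈ seeds, Virt T (nth sd)

/-- the values of the characters at `x` are those of the seeds at the type `t` -/
def Vals (F : List (G → ℂ)) (seeds : List (List ℤ)) (t : ℕ) (x : G) : Prop :=
  List.Forall₂ (fun (χ : G → ℂ) sd => χ x = (nth sd t : ℤ)) F seeds

theorem forall₂_all {ι : Type*} {α β : Type*} {P : ι → α → β → Prop} (i0 : ι) :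
    ∀ {l : List α} {m : List β}, (∀ i, List.Forall₂ (P i) l m) → ∀ b ∈ m, ∃ a ∈ l, ∀ i, P i a b
  | [], m, h => fun b hb => by
    cases h i0
    cases hb
  | a :: l, [], _ => fun b hb => by cases hb
  | a :: l, c :: m, h => fun b hb => by
    rcases List.mem_cons.1 hb with rfl | hb
    · exact ⟨a, List.mem_cons_self, fun i => (List.forall₂_cons.1 (h i)).1⟩
    · obtain ⟨a', h1, h2⟩ := forall₂_all i0 (fun i => (List.forall₂_cons.1 (h i)).2) b hb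
      exact ⟨a', List.mem_cons_of_mem _ h1, h2⟩

/-- boxes and a cover -/
theorem seeded_of [Finite G] (h1 : D.okPow = true) (h2 : D.okSep val = true) (h3 : D.okSum = true)
    (hN : Nat.card G = D.N) (hb : ∀ i < D.n, Box K D val i) {F : List (G → ℂ)} {seeds : List (List ℤ)}
    (hF : ∀ χ ∈ F, IsGeneralizedCharacter G χ)
    (hc : ∀ g : G, ∃ t < D.n, ∃ x, Ty K D val t x ∧ RC x g ∧ Vals F seeds t x) : Seeded G D seeds := by
  obtain ⟨T, hm, hT⟩ := exists_td h1 h2 h3 hN hb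
  refine ⟨T, hm, fun sd hs => ?_⟩
  have h4 : ∀ g : G, List.Forall₂ (fun (χ : G → ℂ) sd => χ ∈ F → χ g = (nth sd (T.ty g) : ℤ)) F seeds := fun g => by
    obtain ⟨t, ht, x, h5, h6, h7⟩ := hc g
    rw [(hT g t ht).2 (ty_rc h5 h6)]
    exact h7.imp fun χ sd h8 h9 => gen_rc (hF χ h9) h6 h8
  obtain ⟨χ, h5, h6⟩ := forall₂_all 1 h4 sd hs
  have h7 : (fun g => (nth sd (T.ty g) : ℂ)) = χ := funext fun g => (h6 g h5).symm
  rw [Virt, h7]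
  exact hF χ h5

/-- transport -/
theorem Seeded.comap {H : Type v} [Group H] (e : G ≃* H) {seeds : List (List ℤ)} (h : Seeded H D seeds) :
    Seeded G D seeds := by
  obtain ⟨T, hm, hs⟩ := h
  refine ⟨⟨fun g => T.ty (e g), fun g => T.lt _, fun g c => ?_, fun g => ?_, fun g k => ?_⟩,
    ⟨(Nat.card_congr e.toEquiv).trans hm.1, fun i hi => ?_⟩, fun sd hsd => ?_⟩
  · rw [map_mul, map_mul, map_inv, T.conj]
  · rw [← T.ord, e.orderOf_eq]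
  · rw [map_pow, T.pow]
  · rw [← hm.2 i hi]
    exact Nat.card_congr (e.toEquiv.subtypeEquiv fun g => Iff.rfl)
  · exact H651.isGeneralizedCharacter_comp_hom e.toMonoidHom (hs sd hsd)

end Cfsg.Agent.TAB.Co
end

-- part: TAB/Co/Fin
section
prune_inst 0x5040640000000000000240005e02b200009000088000400002000ec98d02a0410920b200000008e422c408310008110000500200000000000000011800800008800080080800100000002000010000000000000000000000000000000000004010000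
set_option linter.all false
open scoped Cfsg.Agent.FastGrp

/-!
# From seeds to the table (helper88, TAB; `tab_of_rows'` is the theorem of helper3 with a finer test for two pairs)

* `tab_of_rows'` : two rows of norm two are separated if half of their sum violates `f (g ^ 2) ≡ f g ^ 2` modulo two;
* `good_of_certs`, `virt_of_certs` : lists of local certificates;
* `Seeded.tab`.
-/

set_option autoImplicit false

namespace Cfsg.Agent.TAB.Co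

open Cfsg Cfsg.Agent.TAB.Eng Cfsg.Agent.TAB.Use Cfsg.Agent.Characters Cfsg.Agent.Characters.Core
open Cfsg.Agent.Characters.Brauer Cfsg.Agent.H447.CTab Cfsg.Agent.TAB.Sm2
open scoped ComplexConjugate

universe u

/-- eight times `δ` of half the sum -/
noncomputable def dl (D : Dat) (v w : List ℤ) (t : ℕ) : ℤ :=
  2 * (nth v (D.pwf t 2) + nth w (D.pwf t 2)) - (nth v t + nth w t) ^ 2

/-- the check -/
noncomputable def okRows' (D : Dat) (A B : List (List ℤ)) : Bool :=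
  D.cntL.length == D.n && D.ord 0 == 1 &&
  (allL (fun j => decide (0 < nth (rw' A B j) 0) && allL (fun k =>
    decide (ip D (rw' A B j) (rw' A B k) = if j = k then (D.N : ℤ) * nm A j else 0) &&
      (j == k || decide (k < A.length) || (List.range D.n).any fun t =>
        decide (0 < D.cnt t) && dl D (rw' A B j) (rw' A B k) t % 8 != 0)) (List.range (j + 1)))
    (List.range (A.length + B.length))) &&
  allL (fun t => decide (((List.range (A.length + B.length)).map fun j => wt A B j * nth (rw' A B j) t).sum =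
    if t = 0 then 2 * (D.N : ℤ) else 0)) (List.range D.n)

variable {G : Type u} [Group G] [Finite G] {D : Dat} {T : TD G D}

/-- **the table from the rows** -/
theorem tab_of_rows' (hm : T.Mass) (h1 : T.ty 1 = 0) {A B : List (List ℤ)} (hv : ∀ r ∈ A ++ B, Virt T (nth r))
    (hc : okRows' D A B = true) : Tab T (mkRows A B) := by
  classical
  have := Fintype.ofFinite G
  have := finite_irr (G := G)
  have := Fintype.ofFinite (IrrCharacter G)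
  simp only [okRows', Bool.and_eq_true, beq_iff_eq] at hc
  obtain ⟨⟨⟨hl, ho⟩, hc1⟩, hc2⟩ := hc
  set a := A.length with ha
  set m := A.length + B.length with hm'
  have hv' : ∀ j, Virt T (nth (rw' A B j)) := fun j => by
    by_cases hj : j < (A ++ B).length
    · rw [rw', List.getD_eq_getElem _ _ hj]
      exact hv _ (List.getElem_mem hj)
    · rw [rw', List.getD_eq_default _ _ (by omega)]
      exact Virt.const 0
  let μ : ℕ → IrrCharacter G → ℤ := fun j => mu (hv' j)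
  have hpos : ∀ j < m, 0 < nth (rw' A B j) 0 := fun j hj => by
    have h := allL_spec hc1 j (List.mem_range.2 hj)
    rw [Bool.and_eq_true] at h
    exact of_decide_eq_true h.1
  have hjk : ∀ j < m, ∀ k ≤ j, (ip D (rw' A B j) (rw' A B k) = if j = k then (D.N : ℤ) * nm A j else 0) ∧
      (j = k ∨ k < a ∨ ∃ t < D.n, 0 < D.cnt t ∧ dl D (rw' A B j) (rw' A B k) t % 8 ≠ 0) :=
    fun j hj k hk => by
      have h := allL_spec hc1 j (List.mem_range.2 hj)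
      rw [Bool.and_eq_true] at h
      have h2 := allL_spec h.2 k (List.mem_range.2 (Nat.lt_succ_of_le hk))
      simpa only [Bool.and_eq_true, decide_eq_true_eq, Bool.or_eq_true, beq_iff_eq, List.any_eq_true,
        List.mem_range, bne_iff_ne, or_assoc] using h2
  have hG : ∀ j < m, ∀ k ≤ j, ∑ x, μ j x * μ k x = if j = k then (nm A j : ℤ) else 0 := fun j hj k hk => by
    have h2 := inner_of_ip hm hl (v := rw' A B j) (w := rw' A B k) (z := if j = k then (nm A j : ℤ) else 0)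
      ((hjk j hj k hk).1.trans (by split_ifs <;> simp))
    rw [show classInner (fn T (rw' A B j)) (fn T (rw' A B k)) = _ from inner_sum_mu (hv' j) (hv' k)] at h2
    exact_mod_cast h2
  have hS : ∀ j < m, (∀ x, μ j x ≠ 0 → μ j x = 1 ∨ μ j x = -1) ∧
      (Finset.univ.filter fun x => μ j x ≠ 0).card = nm A j := fun j hj =>
    supp_card (by rw [nm]; split_ifs <;> omega) ((hG j hj j le_rfl).trans (if_pos rfl))
  have hnm : ∀ j, nm A j ≤ 2 := fun j => by rw [nm]; split_ifs <;> omega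
  -- disjoint supports
  have hdis : ∀ j < m, ∀ k < j, ∀ x, μ j x ≠ 0 → μ k x = 0 := fun j hj k hk x hx => by
    by_contra hx'
    have h2 := (hG j hj k hk.le).trans (if_neg hk.ne')
    obtain ⟨y, hy, hy'⟩ : ∃ y, y ≠ x ∧ μ j y * μ k y ≠ 0 := by
      by_contra h3
      push Not at h3
      rw [Finset.sum_eq_single x (fun y _ hy => h3 y hy) fun h => absurd (Finset.mem_univ x) h] at h2
      exact mul_ne_zero hx hx' h2
    have h3 : ∀ i < m, μ i x ≠ 0 → μ i y ≠ 0 → (Finset.univ.filter fun z => μ i z ≠ 0) = {y, x} ∧ nm A i = 2 :=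
      fun i hi h4 h5 => by
        have h6 : ({y, x} : Finset _) ⊆ Finset.univ.filter fun z => μ i z ≠ 0 := by
          intro z hz
          rw [Finset.mem_insert, Finset.mem_singleton] at hz
          rcases hz with rfl | rfl <;> simpa only [_root_.ne_eq, _root_.Finset.mem_filter, _root_.Finset.mem_univ, _root_.true_and]
        have h7 := Finset.card_le_card h6
        have h8 := hnm i
        rw [Finset.card_pair hy, (hS i hi).2] at h7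
        exact ⟨(Finset.eq_of_subset_of_card_le h6 (by rw [Finset.card_pair hy, (hS i hi).2]; exact h8)).symm,
          by omega⟩
    obtain ⟨h4, -⟩ := h3 j hj hx (left_ne_zero_of_mul hy')
    obtain ⟨h5, h6⟩ := h3 k (by omega) hx' (right_ne_zero_of_mul hy')
    rcases (hjk j hj k hk.le).2 with h7 | h7 | ⟨t, ht, h7, h8⟩
    · omega
    · rw [nm, if_pos h7] at h6
      omega
    · rw [← hm.2 t ht] at h7
      obtain ⟨⟨g, rfl⟩⟩ := (Nat.card_pos_iff.1 h7).1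
      have h9 : ∀ z, ∃ c : ℤ, μ j z + μ k z = c + c := fun z => by
        have h10 : μ j z ≠ 0 ↔ μ k z ≠ 0 := by
          have h11 := Finset.ext_iff.1 (h4.trans h5.symm) z
          simpa only [Finset.mem_filter, Finset.mem_univ, true_and] using h11
        by_cases h11 : μ j z = 0
        · have h12 : μ k z = 0 := by
            by_contra h12
            exact h10.2 h12 h11
          exact ⟨0, by rw [h11, h12]⟩
        · refine ⟨(μ j z + μ k z) / 2, ?_⟩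
          rcases (hS j hj).1 z h11 with h12 | h12 <;> rcases (hS k (by omega)).1 z (h10.1 h11) with h13 | h13 <;>
            (clear * - hv' h12 h13; omega)
      choose c hc using h9
      have h10 : IsGeneralizedCharacter G (∑ z : IrrCharacter G, c z • (z : G → ℂ)) :=
        Subring.sum_mem (genRing G) fun z _ => zsmul_mem (S := Subring (G → ℂ)) (K := genRing G)
          (isGeneralizedCharacter_of_isCharacter (isIrr_isCharacter z.2)) _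
      have h11 : ∀ x : G, (∑ z : IrrCharacter G, c z • (z : G → ℂ)) x =
          ((nth (rw' A B j) (T.ty x) + nth (rw' A B k) (T.ty x) : ℤ) : ℂ) / 2 := fun x => by
        rw [Int.cast_add, apply_mu (hv' j) x, apply_mu (hv' k) x, ← Finset.sum_add_distrib, Finset.sum_apply,
          Finset.sum_div]
        refine Finset.sum_congr rfl fun z _ => ?_
        rw [← add_mul, ← Int.cast_add, show mu (hv' j) z + mu (hv' k) z = c z + c z from hc z, Pi.smul_apply,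
          zsmul_eq_mul]
        push_cast
        ring
      have h12 := gen_integral (gen_delta h10 Nat.prime_two) g
      simp only [h11, T.pow] at h12
      obtain ⟨q, hq⟩ := GaloisBasic.exists_int_of_isIntegral h12
        ⟨(dl D (rw' A B j) (rw' A B k) (T.ty g) : ℚ) / 8, by rw [dl]; push_cast; ring⟩
      have h13 : ((dl D (rw' A B j) (rw' A B k) (T.ty g) : ℤ) : ℂ) = ((8 * q : ℤ) : ℂ) := by
        rw [dl]
        push_cast at hq ⊢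
        linear_combination 8 * hq
      have h14 : dl D (rw' A B j) (rw' A B k) (T.ty g) = 8 * q := by exact_mod_cast h13
      omega
  have huniq : ∀ j < m, ∀ k < m, ∀ x, μ j x ≠ 0 → μ k x ≠ 0 → j = k := fun j hj k hk x hx hx' => by
    rcases lt_trichotomy j k with h | h | h
    · exact absurd (hdis k hk j h x hx') hx
    · exact h
    · exact absurd (hdis j hj k h x hx) hx'
  -- the regular character
  have hreg : ∀ (x : IrrCharacter G) (d : ℕ), (x : G → ℂ) 1 = d → ∑ j ∈ Finset.range m, wt A B j * μ j x = 2 * d :=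
    fun x d hd => by
      have h2 : (∑ j ∈ Finset.range m, (wt A B j : ℂ) • fn T (rw' A B j)) =
          fun g => if g = 1 then 2 * (Nat.card G : ℂ) else 0 := by
        funext g
        have h3 := of_decide_eq_true (allL_spec hc2 _ (List.mem_range.2 (T.lt g)))
        rw [sum_range_eq'] at h3
        have h4 : T.ty g = 0 ↔ g = 1 := ⟨fun h => by
          have h5 := T.ord g
          rwa [h, ho, orderOf_eq_one_iff] at h5, fun h => h ▸ h1⟩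
        have h5 := congrArg (Int.cast : ℤ → ℂ) h3
        simp only [h4, Int.cast_sum, Int.cast_mul, Int.cast_ite, Int.cast_natCast, Int.cast_ofNat,
          Int.cast_zero, ← hm.1] at h5
        rw [Finset.sum_apply]
        exact h5
      have h3 := congrArg (fun f => classInner f (x : G → ℂ)) h2
      simp only [classInner_sum_left, classInner_smul_left] at h3
      rw [Finset.sum_congr rfl fun j _ => congrArg _ (inner_mu (hv' j) x), classInner_def,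
        Finset.sum_eq_single 1 (fun g _ hg => by rw [if_neg hg, zero_mul]) fun h => absurd (Finset.mem_univ _) h,
        if_pos rfl, hd, Complex.conj_natCast, mul_comm 2, mul_assoc, inv_mul_cancel_left₀ card_ne_zero_complex] at h3
      exact_mod_cast h3
  have hw : ∀ j < m, 0 < wt A B j := fun j hj => by
    have := hpos j hj
    rw [wt]
    split_ifs <;> omega
  have hone : ∀ j < m, ∀ x, μ j x ≠ 0 → μ j x = 1 ∧ (x : G → ℂ) 1 = ((wt A B j).toNat / 2 : ℕ) :=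
    fun j hj x hx => by
      obtain ⟨d, hd0, hd⟩ := isIrr_apply_one x.2
      have h2 := hreg x d hd
      rw [Finset.sum_eq_single j (fun k hk hkj => by
        by_cases h3 : μ k x = 0
        · rw [h3, mul_zero]
        · exact absurd (huniq k (Finset.mem_range.1 hk) j hj x h3 hx) hkj)
        fun h => absurd (Finset.mem_range.2 hj) h] at h2
      have h3 := hw j hj
      rcases (hS j hj).1 x hx with h4 | h4
      · rw [h4] at h2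
        refine ⟨h4, hd.trans (congrArg _ ?_)⟩
        omega
      · rw [h4] at h2
        omega
  have hex : ∀ j, ∃ p : IrrCharacter G × IrrCharacter G, j < m →
      (∀ x, μ j x ≠ 0 ↔ x = p.1 ∨ x = p.2) ∧ (p.1 = p.2 ↔ j < a) := fun j => by
    by_cases hj : j < m
    · have h2 := (hS j hj).2
      by_cases hja : j < a
      · rw [nm, if_pos hja, Finset.card_eq_one] at h2
        obtain ⟨x, hx⟩ := h2
        refine ⟨(x, x), fun _ => ⟨fun y => ?_, by simpa⟩⟩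
        simpa only [Finset.mem_filter, Finset.mem_univ, true_and, Finset.mem_singleton, or_self]
          using Finset.ext_iff.1 hx y
      · rw [nm, if_neg hja, Finset.card_eq_two] at h2
        obtain ⟨x, y, hxy, hx⟩ := h2
        refine ⟨(x, y), fun _ => ⟨fun z => ?_, iff_of_false hxy hja⟩⟩
        simpa only [Finset.mem_filter, Finset.mem_univ, true_and, Finset.mem_singleton, Finset.mem_insert]
          using Finset.ext_iff.1 hx z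
    · exact ⟨(⟨1, isIrr_one⟩, ⟨1, isIrr_one⟩), fun h => absurd h hj⟩
  choose p hp using hex
  let ξ : ℕ → IrrCharacter G := fun i => if (i - a) % 2 = 0 then (p (ro A i)).1 else (p (ro A i)).2
  have hn : (mkRows A B).n = a + 2 * B.length := by simp [Rows.n, mkRows, ha]
  have hro : ∀ i < a + 2 * B.length, ro A i < m := fun i hi => by
    rw [ro]
    split_ifs <;> omega
  have hξ : ∀ i < a + 2 * B.length, μ (ro A i) (ξ i) ≠ 0 := fun i hi => by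
    rw [(hp _ (hro i hi)).1]
    simp only [ξ]
    split_ifs <;> simp
  have hval : ∀ j < m, ∀ g, (nth (rw' A B j) (T.ty g) : ℂ) =
      ∑ x ∈ ({(p j).1, (p j).2} : Finset (IrrCharacter G)), (x : G → ℂ) g := fun j hj g => by
    rw [apply_mu (hv' j) g, ← Finset.sum_subset (Finset.subset_univ {(p j).1, (p j).2}) fun x _ hx => ?_]
    · refine Finset.sum_congr rfl fun x hx => ?_
      rw [Finset.mem_insert, Finset.mem_singleton, ← (hp j hj).1] at hx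
      rw [show mu (hv' j) x = 1 from (hone j hj x hx).1, Int.cast_one, one_mul]
    · rw [Finset.mem_insert, Finset.mem_singleton, ← (hp j hj).1, not_not] at hx
      rw [show mu (hv' j) x = 0 from hx, Int.cast_zero, zero_mul]
  refine ⟨fun i => ξ i, ⟨fun i _ => (ξ i).2, fun i hi k hk h => ?_, fun ψ hψ => ?_, fun i hi => ?_⟩, ?_⟩
  · rw [hn] at hi hk
    have h2 : ξ i = ξ k := Subtype.ext h
    have h3 := huniq _ (hro i hi) _ (hro k hk) _ (hξ i hi) (h2 ▸ hξ k hk)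
    have h4 := (hp _ (hro i hi)).2
    simp only [ξ, ← h3] at h2
    have h5 : ro A i < a ∨ (i - a) % 2 = (k - a) % 2 := by
      split_ifs at h2 with h6 h7 h7
      · omega
      · exact Or.inl (h4.1 h2)
      · exact Or.inl (h4.1 h2.symm)
      · omega
    simp only [ro, ← ha] at h3 h5
    split_ifs at h3 h5 <;> omega
  · obtain ⟨d, hd0, hd⟩ := isIrr_apply_one hψ
    have h2 := hreg ⟨ψ, hψ⟩ d hd
    obtain ⟨j, hj, h3⟩ := Finset.exists_ne_zero_of_sum_ne_zero (h2 ▸ (by omega : (2 : ℤ) * d ≠ 0))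
    rw [Finset.mem_range] at hj
    have h4 := ((hp j hj).1 _).1 (right_ne_zero_of_mul h3)
    rw [hn]
    by_cases hja : j < a
    · refine ⟨j, by omega, ?_⟩
      have h5 : ro A j = j := if_pos hja
      have h6 := (hp j hj).2.2 hja
      simp only [ξ, h5, ← h6, ite_self, or_self] at h4 ⊢
      exact congrArg Subtype.val h4
    · rcases h4 with h4 | h4
      · refine ⟨a + 2 * (j - a), by omega, ?_⟩
        have h5 : ro A (a + 2 * (j - a)) = j := by rw [ro, if_neg (by omega)]; (clear * - hn hψ hja; omega)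
        simp only [ξ, h5]
        rw [if_pos (by omega)]
        exact congrArg Subtype.val h4
      · refine ⟨a + 2 * (j - a) + 1, by omega, ?_⟩
        have h5 : ro A (a + 2 * (j - a) + 1) = j := by rw [ro, if_neg (by omega)]; (clear * - hn hψ hja; omega)
        simp only [ξ, h5]
        rw [if_neg (by omega)]
        exact congrArg Subtype.val h4
  · rw [hn] at hi
    rw [(hone _ (hro i hi) _ (hξ i hi)).2, Rows.d, mkRows, List.getD_eq_getElem _ _ (by simpa using hi),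
      List.getElem_map, List.getElem_range]
  · intro r hr g
    rcases List.mem_append.1 hr with hr | hr
    · obtain ⟨j, hj, rfl⟩ := List.mem_map.1 hr
      rw [List.mem_range] at hj
      have h5 : ro A j = j := if_pos hj
      have h6 := (hp j (by omega)).2.2 hj
      rw [← nth_eq, hval j (by omega), ← h6]
      simp only [ξ, h5, ← h6, _root_.List.map_cons, _root_.Int.cast_one, _root_.ite_self, _root_.one_mul, _root_.List.map_nil, _root_.List.sum_cons, _root_.List.sum_nil, _root_.add_zero, _root_.Finset.mem_singleton, _root_.Finset.insert_eq_of_mem, _root_.Finset.sum_singleton]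
    · obtain ⟨j, hj, rfl⟩ := List.mem_map.1 hr
      rw [List.mem_range] at hj
      have h5 : ro A (a + 2 * j) = a + j := by rw [ro, if_neg (by omega)]; omega
      have h6 : ro A (a + 2 * j + 1) = a + j := by rw [ro, if_neg (by omega)]; omega
      have h7 : (p (a + j)).1 ≠ (p (a + j)).2 := fun h => by
        have := (hp (a + j) (by omega)).2.1 h
        omega
      have h8 : (a + 2 * j - a) % 2 = 0 := by omega
      have h9 : ¬ (a + 2 * j + 1 - a) % 2 = 0 := by omega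
      rw [← nth_eq, hval (a + j) (by omega), Finset.sum_pair h7]
      simp only [ξ, ← ha, h5, h6, List.map_cons, List.map_nil, List.sum_cons, List.sum_nil, if_pos h8, if_neg h9,
        Int.cast_one, one_mul, add_zero]

/-- there is a certificate for the section -/
def hasC (CL : List (ℕ × ℕ × List Cert)) (l s : ℕ) : Bool := CL.any fun y => y.1 == l && y.2.2.any fun c => c.s == s

theorem good_of_certs (hN : Nat.card G = D.N) {seeds rows : List (List ℤ)} (hsd : ∀ sd ∈ seeds, Virt T (nth sd))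
    {CL : List (ℕ × ℕ × List Cert)} (h : ∀ y ∈ CL, chkP D y.1 y.2.1 (y.1 ^ y.2.1) seeds y.2.2 rows = true) {l s : ℕ}
    (hc : hasC CL l s = true) : ∀ r ∈ rows, Eng.Good T l s (nth r) := by
  simp only [hasC, List.any_eq_true, Bool.and_eq_true, beq_iff_eq] at hc
  obtain ⟨y, hy, rfl, c, hc, rfl⟩ := hc
  exact good_of_chkP hN (h y hy) hsd _ (List.mem_map_of_mem hc)

/-- all the sections have certificates, with the possible exception of the section `s` of the prime `l` -/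
def allC (PL : List (ℕ × ℕ × List ℕ)) (CL : List (ℕ × ℕ × List Cert)) (l s : ℕ) : Bool :=
  PL.all fun x => x.2.2.all fun t => hasC CL x.1 t || (x.1 == l && t == s)

theorem virt_of_certs' (hN : Nat.card G = D.N) {PL : List (ℕ × ℕ × List ℕ)} (hP : okPrimes D PL = true)
    {CL : List (ℕ × ℕ × List Cert)} {l s : ℕ} (hA : allC PL CL l s = true) {f : ℕ → ℤ}
    (h1 : ∀ l s, hasC CL l s = true → Eng.Good T l s f) (h2 : Eng.Good T l s f) : Virt T f := by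
  refine virt_of_good hN hP fun x hx t ht => ?_
  have h3 := List.all_eq_true.1 (List.all_eq_true.1 hA x hx) t ht
  simp only [Bool.or_eq_true, Bool.and_eq_true, beq_iff_eq] at h3
  rcases h3 with h3 | ⟨h3, h4⟩
  · exact h1 _ _ h3
  · rwa [h3, h4]

theorem virt_of_certs (hN : Nat.card G = D.N) {PL : List (ℕ × ℕ × List ℕ)} (hP : okPrimes D PL = true)
    {seeds rows : List (List ℤ)} (hsd : ∀ sd ∈ seeds, Virt T (nth sd)) {CL : List (ℕ × ℕ × List Cert)}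
    (h : ∀ y ∈ CL, chkP D y.1 y.2.1 (y.1 ^ y.2.1) seeds y.2.2 rows = true)
    (hA : (PL.all fun x => x.2.2.all fun t => hasC CL x.1 t) = true) : ∀ r ∈ rows, Virt T (nth r) := fun r hr =>
  virt_of_good hN hP fun x hx t ht =>
    good_of_certs hN hsd h (List.all_eq_true.1 (List.all_eq_true.1 hA x hx) t ht) r hr

/-- only the type `0` has order one, all types are inhabited -/
def okOne (D : Dat) : Bool := (List.range D.n).all fun i => (i == 0 || D.ord i != 1) && decide (0 < D.cnt i)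

/-- **the table** -/
theorem tab_of_virt (hm : T.Mass) (h1 : okOne D = true) {A B : List (List ℤ)} (hv : ∀ r ∈ A ++ B, Virt T (nth r))
    (hc : okRows' D A B = true) : Inh T ∧ Tab T (mkRows A B) := by
  have h2 : ∀ i < D.n, (i = 0 ∨ D.ord i ≠ 1) ∧ 0 < D.cnt i := fun i hi => by
    simpa only [Bool.and_eq_true, Bool.or_eq_true, beq_iff_eq, bne_iff_ne, decide_eq_true_eq] using
      List.all_eq_true.1 h1 i (List.mem_range.2 hi)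
  refine ⟨inh_of_mass hm fun i hi => (h2 i hi).2, tab_of_rows' hm ?_ hv hc⟩
  exact (h2 _ (T.lt 1)).1.resolve_right fun h => h ((T.ord 1).symm.trans orderOf_one)

end Cfsg.Agent.TAB.Co

private theorem dce_7d13c23b82e9 : _root_.True := by
  try have : _root_.True := by simp only [_root_.Cfsg.Agent.TAB.Co.okRows'.eq_1]
  try have : _root_.True := by simp only [_root_.Cfsg.Agent.TAB.Co.dl.eq_1]
  try have : _root_.True := by simp only [_root_.Cfsg.Agent.TAB.Co.hasC.eq_1]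
  exact _root_.True.intro
end

-- part: TAB/Co2/Dat
section
prune_inst 0x5041640000000804000240005ec3b3000190004b8001414402000ec98d43a0418f20b270021089f4bafc787bc04811000179023800002000be00411b00800cafeae2b63cbe041f0006c0e885590c00000000000000000000000000000000004010000
set_option linter.all false
open scoped Cfsg.Agent.FastGrp
private noncomputable def lq26c691ef6b {T : Sort _} (f :
    ((Int) → (Int)) →
    type_of% (@_root_.List.cons.{0} (Int)) →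
    type_of% (@_root_.List.cons.{0}) →
    type_of% (@_root_.Prod.mk.{0, 0}) →
    type_of% (@_root_.List.nil.{0}) →
    ((Nat) → (Nat)) →
    type_of% (@_root_.List.cons.{0} (Nat)) →
    type_of% (@_root_.Cfsg.Agent.TAB.Eng.Op.lin) →
    ((List (Prod Nat Nat)) → (List (Prod Nat Nat))) →
    ((List Int) → (List Int)) →
    type_of% (@_root_.List.cons.{0} (List (Prod Nat Nat))) →
    type_of% (@_root_.List.cons.{0} (List Int)) →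
    type_of% (@_root_.Cfsg.Agent.TAB.Eng.Op.gen) →
    type_of% (@_root_.Cfsg.Agent.TAB.Eng.Cert.mk) →
    type_of% (@_root_.Cfsg.Agent.TAB.Eng.Op.one) →
    ((Cfsg.Agent.TAB.Eng.Op) → (Cfsg.Agent.TAB.Eng.Op)) →
    type_of% (@_root_.Cfsg.Agent.TAB.Eng.Op.mul) →
    type_of% (@_root_.List.cons.{0} (Cfsg.Agent.TAB.Eng.Op)) → T) : T :=
  f (fun x => x) (@_root_.List.cons.{0} (Int)) (@_root_.List.cons.{0}) (@_root_.Prod.mk.{0, 0}) (@_root_.List.nil.{0}) (fun x => x) (@_root_.List.cons.{0} (Nat)) (@_root_.Cfsg.Agent.TAB.Eng.Op.lin) (fun x => x) (fun x => x) (@_root_.List.cons.{0} (List (Prod Nat Nat))) (@_root_.List.cons.{0} (List Int)) (@_root_.Cfsg.Agent.TAB.Eng.Op.gen) (@_root_.Cfsg.Agent.TAB.Eng.Cert.mk) (@_root_.Cfsg.Agent.TAB.Eng.Op.one) (fun x => x) (@_root_.Cfsg.Agent.TAB.Eng.Op.mul) (@_root_.List.cons.{0} (Cfsg.Agent.TAB.Eng.Op))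

/-!
# The table of `Co2` : numerical data and certificates (helper88, TAB)

The types are 0:1a 1:2a 2:2b 3:2c 4:3a 5:3b 6:4a 7:4b 8:4c 9:4d 10:4e 11:4f 12:4g 13:5a 14:5b 15:6a 16:6b 17:6c 18:6d 19:6e
20:6f 21:7a 22:8a 23:8b 24:8c 25:8d 26:8e 27:8f 28:9a 29:10a 30:10b 31:10c 32:11a 33:12a 34:12b 35:12c 36:12d
37:12e 38:12f 39:12g 40:12h 41:14a 42:14bc 43:15a 44:15bc 45:16a 46:16b 47:18a 48:20a 49:20b 50:23ab 51:24a
52:24b 53:28a 54:30a 55:30bc.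
-/

set_option autoImplicit false
set_option maxRecDepth 100000

namespace Cfsg.Agent.TAB.Co2

open Cfsg Cfsg.Agent.TAB.Eng Cfsg.Agent.TAB.Use Cfsg.Agent.TAB.Co Cfsg.Agent.TAB.Sm2

/-- the types -/
def D : Dat where
n := 56
N := 42305421312000
ordL := (beta% delta% lq26c691ef6b fun _ _ c _ f g h _ _ _ _ _ _ _ _ _ _ _ =>
 (let d:=(let d:=(let d:=(h (20 :type_of% (g _))<|h (23 :type_of% (g _))<|h (24 :type_of% (g _))<|h (24 :type_of% (g _))<|h (28 :type_of% (g _))<|h (30 :type_of% (g _))<|h (30 :type_of% (g _))<|f);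
 (h (14 :type_of% (g _))<|h (15 :type_of% (g _))<|h (15 :type_of% (g _))<|h (16 :type_of% (g _))<|h (16 :type_of% (g _))<|h (18 :type_of% (g _))<|h (20 :type_of% (g _))<|d));
 (let d:=(h (12 :type_of% (g _))<|h (12 :type_of% (g _))<|h (12 :type_of% (g _))<|h (12 :type_of% (g _))<|h (12 :type_of% (g _))<|h (12 :type_of% (g _))<|h (14 :type_of% (g _))<|
 d);
 (h (9 :type_of% (g _))<|h (10 :type_of% (g _))<|h (10 :type_of% (g _))<|h (10 :type_of% (g _))<|h (11 :type_of% (g _))<|h (12 :type_of% (g _))<|h (12 :type_of% (g _))<|d)));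
 (let d:=(let d:=(h (7 :type_of% (g _))<|h (8 :type_of% (g _))<|h (8 :type_of% (g _))<|h (8 :type_of% (g _))<|h (8 :type_of% (g _))<|h (8 :type_of% (g _))<|h (8 :type_of% (g _))<|d);
 (h (5 :type_of% (g _))<|h (6 :type_of% (g _))<|h (6 :type_of% (g _))<|h (6 :type_of% (g _))<|h (6 :type_of% (g _))<|h (6 :type_of% (g _))<|h (6 :type_of% (g _))<|d));
 (let d:=(h (4 :type_of% (g _))<|h (4 :type_of% (g _))<|h (4 :type_of% (g _))<|h (4 :type_of% (g _))<|h (4 :type_of% (g _))<|h (4 :type_of% (g _))<|h (5 :type_of% (g _))<|d);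
 (c (1 :type_of% (g _))<|c (2 :type_of% (g _))<|c (2 :type_of% (g _))<|c (2 :type_of% (g _))<|c (3 :type_of% (g _))<|c (3 :type_of% (g _))<|c (4 :type_of% (g _))<|d)))))
cntL := (beta% delta% lq26c691ef6b fun _ _ c _ f g h _ _ _ _ _ _ _ _ _ _ _ =>
 (let d:=(let d:=(let d:=(h (2115271065600 :type_of% (g _))<|h (3678732288000 :type_of% (g _))<|h (1762725888000 :type_of% (g _))<|h (1762725888000 :type_of% (g _))<|
 h (1510907904000 :type_of% (g _))<|h (1410180710400 :type_of% (g _))<|h (2820361420800 :type_of% (g _))<|f);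
 (h (3021815808000 :type_of% (g _))<|h (1410180710400 :type_of% (g _))<|
 h (2820361420800 :type_of% (g _))<|h (1322044416000 :type_of% (g _))<|h (1322044416000 :type_of% (g _))<|h (2350301184000 :type_of% (g _))<|h (2115271065600 :type_of% (g _))<|d));
 (let d:=(h (146893824000 :type_of% (g _))<|h (146893824000 :type_of% (g _))<|h (440681472000 :type_of% (g _))<|h (440681472000 :type_of% (g _))<|h (881362944000 :type_of% (g _))<|h (881362944000 :type_of% (g _))<|h (755453952000 :type_of% (g _))<|d);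
 (h (783433728000 :type_of% (g _))<|h (352545177600 :type_of% (g _))<|h (705090355200 :type_of% (g _))<|h (1057635532800 :type_of% (g _))<|h (3845947392000 :type_of% (g _))<|h (48964608000 :type_of% (g _))<|
 h (146893824000 :type_of% (g _))<|d)));
 (let d:=(let d:=(h (755453952000 :type_of% (g _))<|h (55085184000 :type_of% (g _))<|h (55085184000 :type_of% (g _))<|
 h (82627776000 :type_of% (g _))<|h (82627776000 :type_of% (g _))<|h (165255552000 :type_of% (g _))<|h (661022208000 :type_of% (g _))<|d);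
 (h (70509035520 :type_of% (g _))<|h (7344691200 :type_of% (g _))<|h (8160768000 :type_of% (g _))<|h (9792921600 :type_of% (g _))<|h (12241152000 :type_of% (g _))<|h (73446912000 :type_of% (g _))<|h (146893824000 :type_of% (g _))<|d));
 (let d:=(h (344282400 :type_of% (g _))<|h (573804000 :type_of% (g _))<|h (860706000 :type_of% (g _))<|h (6885648000 :type_of% (g _))<|h (6885648000 :type_of% (g _))<|h (33051110400 :type_of% (g _))<|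
 h (14101807104 :type_of% (g _))<|d);
 (c (1 :type_of% (g _))<|c (56925 :type_of% (g _))<|c (1024650 :type_of% (g _))<|c (28690200 :type_of% (g _))<|c (90675200 :type_of% (g _))<|c (272025600 :type_of% (g _))<|c (13662000 :type_of% (g _))<|d)))))
pwL := (beta% delta% lq26c691ef6b fun _ _ c e f _ _ _ j _ l _ _ _ _ _ _ _ =>
 (let d:=(let d:=(let d:=(l ((c (e 1 49)<|c (e 2 29)<|c (e 4 13)<|c (e 5 7)<|c (e 10 2)<|f) :type_of% (j _))<|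
 l ((c (e 1 50)<|f) :type_of% (j _))<|
 l ((c (e 1 51)<|c (e 2 36)<|c (e 3 23)<|c (e 4 18)<|c (e 6 6)<|c (e 8 5)<|c (e 12 1)<|f) :type_of% (j _))<|
 l ((c (e 1 52)<|c (e 2 35)<|c (e 3 22)<|c (e 4 15)<|c (e 6 8)<|c (e 8 4)<|c (e 12 2)<|f) :type_of% (j _))<|
 l ((c (e 1 53)<|c (e 2 41)<|c (e 4 21)<|c (e 7 6)<|c (e 14 1)<|f) :type_of% (j _))<|
 l ((c (e 1 54)<|c (e 2 43)<|c (e 3 30)<|c (e 5 17)<|c (e 6 14)<|c (e 10 5)<|c (e 15 1)<|f) :type_of% (j _))<|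
 l ((c (e 1 55)<|c (e 2 44)<|c (e 3 29)<|c (e 5 15)<|c (e 6 13)<|c (e 10 4)<|c (e 15 2)<|f) :type_of% (j _))<|f);
 (l ((c (e 1 42)<|c (e 2 21)<|c (e 7 2)<|f) :type_of% (j _))<|
 l ((c (e 1 43)<|c (e 3 14)<|c (e 5 5)<|f) :type_of% (j _))<|
 l ((c (e 1 44)<|c (e 3 13)<|c (e 5 4)<|f) :type_of% (j _))<|
 l ((c (e 1 45)<|c (e 2 25)<|c (e 4 9)<|c (e 8 1)<|f) :type_of% (j _))<|
 l ((c (e 1 46)<|c (e 2 24)<|c (e 4 9)<|c (e 8 1)<|f) :type_of% (j _))<|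
 l ((c (e 1 47)<|c (e 2 28)<|c (e 3 16)<|c (e 6 4)<|c (e 9 1)<|f) :type_of% (j _))<|
 l ((c (e 1 48)<|c (e 2 31)<|c (e 4 14)<|c (e 5 12)<|c (e 10 3)<|f) :type_of% (j _))<|
 d));
 (let d:=(l ((c (e 1 35)<|c (e 2 15)<|c (e 3 8)<|c (e 4 4)<|c (e 6 2)<|f) :type_of% (j _))<|
 l ((c (e 1 36)<|c (e 2 18)<|c (e 3 6)<|c (e 4 5)<|c (e 6 1)<|f) :type_of% (j _))<|
 l ((c (e 1 37)<|c (e 2 19)<|c (e 3 7)<|c (e 4 5)<|c (e 6 2)<|f) :type_of% (j _))<|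
 l ((c (e 1 38)<|c (e 2 16)<|c (e 3 9)<|c (e 4 4)<|c (e 6 1)<|f) :type_of% (j _))<|
 l ((c (e 1 39)<|c (e 2 19)<|c (e 3 10)<|c (e 4 5)<|c (e 6 2)<|f) :type_of% (j _))<|
 l ((c (e 1 40)<|c (e 2 15)<|c (e 3 11)<|c (e 4 4)<|c (e 6 2)<|f) :type_of% (j _))<|
 l ((c (e 1 41)<|c (e 2 21)<|c (e 7 1)<|f) :type_of% (j _))<|
 d);
 (l ((c (e 1 28)<|c (e 3 4)<|f) :type_of% (j _))<|
 l ((c (e 1 29)<|c (e 2 13)<|c (e 5 2)<|f) :type_of% (j _))<|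
 l ((c (e 1 30)<|c (e 2 14)<|c (e 5 1)<|f) :type_of% (j _))<|
 l ((c (e 1 31)<|c (e 2 14)<|c (e 5 3)<|f) :type_of% (j _))<|
 l ((c (e 1 32)<|f) :type_of% (j _))<|
 l ((c (e 1 33)<|c (e 2 16)<|c (e 3 6)<|c (e 4 4)<|c (e 6 1)<|f) :type_of% (j _))<|
 l ((c (e 1 34)<|c (e 2 19)<|c (e 3 8)<|c (e 4 5)<|c (e 6 2)<|f) :type_of% (j _))<|
 d)));
 (let d:=(let d:=(l ((c (e 1 21)<|f) :type_of% (j _))<|
 l ((c (e 1 22)<|c (e 2 8)<|c (e 4 2)<|f) :type_of% (j _))<|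
 l ((c (e 1 23)<|c (e 2 6)<|c (e 4 1)<|f) :type_of% (j _))<|
 l ((c (e 1 24)<|c (e 2 9)<|c (e 4 1)<|f) :type_of% (j _))<|
 l ((c (e 1 25)<|c (e 2 9)<|c (e 4 1)<|f) :type_of% (j _))<|
 l ((c (e 1 26)<|c (e 2 8)<|c (e 4 2)<|f) :type_of% (j _))<|
 l ((c (e 1 27)<|c (e 2 11)<|c (e 4 2)<|f) :type_of% (j _))<|
 d);
 (l ((c (e 1 14)<|f) :type_of% (j _))<|
 l ((c (e 1 15)<|c (e 2 4)<|c (e 3 2)<|f) :type_of% (j _))<|
 l ((c (e 1 16)<|c (e 2 4)<|c (e 3 1)<|f) :type_of% (j _))<|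
 l ((c (e 1 17)<|c (e 2 5)<|c (e 3 1)<|f) :type_of% (j _))<|
 l ((c (e 1 18)<|c (e 2 5)<|c (e 3 1)<|f) :type_of% (j _))<|
 l ((c (e 1 19)<|c (e 2 5)<|c (e 3 2)<|f) :type_of% (j _))<|
 l ((c (e 1 20)<|c (e 2 5)<|c (e 3 3)<|f) :type_of% (j _))<|
 d));
 (let d:=(l ((c (e 1 7)<|c (e 2 2)<|f) :type_of% (j _))<|
 l ((c (e 1 8)<|c (e 2 2)<|f) :type_of% (j _))<|
 l ((c (e 1 9)<|c (e 2 1)<|f) :type_of% (j _))<|
 l ((c (e 1 10)<|c (e 2 2)<|f) :type_of% (j _))<|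
 l ((c (e 1 11)<|c (e 2 2)<|f) :type_of% (j _))<|
 l ((c (e 1 12)<|c (e 2 3)<|f) :type_of% (j _))<|
 l ((c (e 1 13)<|f) :type_of% (j _))<|
 d);
 (c (f :type_of% (j _))<|
 c ((c (e 1 1)<|f) :type_of% (j _))<|
 c ((c (e 1 2)<|f) :type_of% (j _))<|
 c ((c (e 1 3)<|f) :type_of% (j _))<|
 c ((c (e 1 4)<|f) :type_of% (j _))<|
 c ((c (e 1 5)<|f) :type_of% (j _))<|
 c ((c (e 1 6)<|c (e 2 1)<|f) :type_of% (j _))<|
 d)))))

/-- the values of the key -/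
def valL : List ℤ := (beta% delta% lq26c691ef6b fun a b c _ f _ _ _ _ _ _ _ _ _ _ _ _ _ =>
 (let d:=(let d:=(let d:=(b (0 :type_of% (a _))<|b (0 :type_of% (a _))<|b (1 :type_of% (a _))<|b (1 :type_of% (a _))<|b (0 :type_of% (a _))<|b (1 :type_of% (a _))<|b (0 :type_of% (a _))<|f);
 (b (0 :type_of% (a _))<|b (1 :type_of% (a _))<|b (0 :type_of% (a _))<|b (2 :type_of% (a _))<|b (0 :type_of% (a _))<|b (2 :type_of% (a _))<|b (0 :type_of% (a _))<|d));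
 (let d:=(b (5 :type_of% (a _))<|b (1 :type_of% (a _))<|
 b (1 :type_of% (a _))<|b (1 :type_of% (a _))<|b (3 :type_of% (a _))<|b (1 :type_of% (a _))<|b (4 :type_of% (a _))<|d);
 (b (2 :type_of% (a _))<|b (0 :type_of% (a _))<|b (4 :type_of% (a _))<|b (2 :type_of% (a _))<|b (1 :type_of% (a _))<|b (1 :type_of% (a _))<|b (5 :type_of% (a _))<|d)));
 (let d:=(let d:=(b (4 :type_of% (a _))<|b (10 :type_of% (a _))<|b (4 :type_of% (a _))<|b (0 :type_of% (a _))<|b (4 :type_of% (a _))<|b (6 :type_of% (a _))<|b (2 :type_of% (a _))<|d);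
 (b (10 :type_of% (a _))<|b (5 :type_of% (a _))<|b (5 :type_of% (a _))<|b (11 :type_of% (a _))<|b (17 :type_of% (a _))<|b (5 :type_of% (a _))<|b (7 :type_of% (a _))<|d));
 (let d:=(b (40 :type_of% (a _))<|b (32 :type_of% (a _))<|b (4 :type_of% (a _))<|b (12 :type_of% (a _))<|b (16 :type_of% (a _))<|b (0 :type_of% (a _))<|b (0 :type_of% (a _))<|d);
 (c (2300 :type_of% (a _))<|c (284 :type_of% (a _))<|c (140 :type_of% (a _))<|c (52 :type_of% (a _))<|c (5 :type_of% (a _))<|c (41 :type_of% (a _))<|c (28 :type_of% (a _))<|d)))))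

/-- the seeds : the characters of degrees 23 and 2300 -/
def seeds : List (List ℤ) := (beta% delta% lq26c691ef6b fun a b c _ f _ _ _ _ _ _ _ _ _ _ _ _ _ =>
 (c (let d:=(let d:=(let d:=(b (0 :type_of% (a _))<|b (0 :type_of% (a _))<|b (-1 :type_of% (a _))<|b (0 :type_of% (a _))<|b (0 :type_of% (a _))<|b (-2 :type_of% (a _))<|b (-1 :type_of% (a _))<|f);
 (b (0 :type_of% (a _))<|
 b (0 :type_of% (a _))<|b (1 :type_of% (a _))<|b (-1 :type_of% (a _))<|b (1 :type_of% (a _))<|b (0 :type_of% (a _))<|b (-1 :type_of% (a _))<|d));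
 (let d:=(b (0 :type_of% (a _))<|b (1 :type_of% (a _))<|b (1 :type_of% (a _))<|b (2 :type_of% (a _))<|b (-1 :type_of% (a _))<|b (0 :type_of% (a _))<|b (-2 :type_of% (a _))<|d);
 (b (2 :type_of% (a _))<|b (2 :type_of% (a _))<|b (1 :type_of% (a _))<|b (-1 :type_of% (a _))<|b (1 :type_of% (a _))<|b (-2 :type_of% (a _))<|b (-3 :type_of% (a _))<|d)));
 (let d:=(let d:=(b (2 :type_of% (a _))<|b (-3 :type_of% (a _))<|b (-1 :type_of% (a _))<|b (-1 :type_of% (a _))<|b (3 :type_of% (a _))<|b (1 :type_of% (a _))<|b (1 :type_of% (a _))<|d);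
 (b (3 :type_of% (a _))<|b (4 :type_of% (a _))<|b (0 :type_of% (a _))<|b (3 :type_of% (a _))<|b (-3 :type_of% (a _))<|b (1 :type_of% (a _))<|b (-1 :type_of% (a _))<|d));
 (let d:=(b (-5 :type_of% (a _))<|b (3 :type_of% (a _))<|b (-1 :type_of% (a _))<|b (-1 :type_of% (a _))<|b (3 :type_of% (a _))<|b (-1 :type_of% (a _))<|b (-2 :type_of% (a _))<|d);
 (c (23 :type_of% (a _))<|c (-9 :type_of% (a _))<|c (7 :type_of% (a _))<|c (-1 :type_of% (a _))<|c (-4 :type_of% (a _))<|c (5 :type_of% (a _))<|c (7 :type_of% (a _))<|d))))<|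
 c (let d:=(let d:=(let d:=(b (0 :type_of% (a _))<|b (0 :type_of% (a _))<|b (1 :type_of% (a _))<|b (1 :type_of% (a _))<|b (0 :type_of% (a _))<|b (1 :type_of% (a _))<|b (0 :type_of% (a _))<|f);
 (b (0 :type_of% (a _))<|b (1 :type_of% (a _))<|
 b (0 :type_of% (a _))<|b (2 :type_of% (a _))<|b (0 :type_of% (a _))<|b (2 :type_of% (a _))<|b (0 :type_of% (a _))<|d));
 (let d:=(b (5 :type_of% (a _))<|b (1 :type_of% (a _))<|b (1 :type_of% (a _))<|b (1 :type_of% (a _))<|b (3 :type_of% (a _))<|b (1 :type_of% (a _))<|b (4 :type_of% (a _))<|d);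
 (b (2 :type_of% (a _))<|b (0 :type_of% (a _))<|b (4 :type_of% (a _))<|b (2 :type_of% (a _))<|b (1 :type_of% (a _))<|b (1 :type_of% (a _))<|b (5 :type_of% (a _))<|d)));
 (let d:=(let d:=(b (4 :type_of% (a _))<|b (10 :type_of% (a _))<|b (4 :type_of% (a _))<|b (0 :type_of% (a _))<|b (4 :type_of% (a _))<|b (6 :type_of% (a _))<|b (2 :type_of% (a _))<|d);
 (b (10 :type_of% (a _))<|b (5 :type_of% (a _))<|b (5 :type_of% (a _))<|b (11 :type_of% (a _))<|b (17 :type_of% (a _))<|b (5 :type_of% (a _))<|b (7 :type_of% (a _))<|d));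
 (let d:=(b (40 :type_of% (a _))<|b (32 :type_of% (a _))<|b (4 :type_of% (a _))<|b (12 :type_of% (a _))<|b (16 :type_of% (a _))<|b (0 :type_of% (a _))<|b (0 :type_of% (a _))<|d);
 (c (2300 :type_of% (a _))<|c (284 :type_of% (a _))<|c (140 :type_of% (a _))<|c (52 :type_of% (a _))<|c (5 :type_of% (a _))<|c (41 :type_of% (a _))<|c (28 :type_of% (a _))<|d))))<|f))

/-- the rational irreducible characters -/
def A : List (List ℤ) := (beta% delta% lq26c691ef6b fun a b c _ f _ _ _ _ k _ m _ _ _ _ _ _ =>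
 (let d:=(let d:=(let d:=(m ((let d:=(let d:=(let d:=(b (0 :type_of% (a _))<|b (-1 :type_of% (a _))<|b (0 :type_of% (a _))<|b (0 :type_of% (a _))<|b (0 :type_of% (a _))<|b (0 :type_of% (a _))<|b (0 :type_of% (a _))<|f);
 (b (0 :type_of% (a _))<|b (2 :type_of% (a _))<|b (2 :type_of% (a _))<|
 b (0 :type_of% (a _))<|b (0 :type_of% (a _))<|b (0 :type_of% (a _))<|b (0 :type_of% (a _))<|d));
 (let d:=(b (0 :type_of% (a _))<|b (0 :type_of% (a _))<|b (0 :type_of% (a _))<|b (0 :type_of% (a _))<|b (0 :type_of% (a _))<|b (0 :type_of% (a _))<|b (0 :type_of% (a _))<|d);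
 (b (-2 :type_of% (a _))<|b (0 :type_of% (a _))<|b (0 :type_of% (a _))<|b (0 :type_of% (a _))<|b (-1 :type_of% (a _))<|b (0 :type_of% (a _))<|b (0 :type_of% (a _))<|d)));
 (let d:=(let d:=(b (0 :type_of% (a _))<|b (0 :type_of% (a _))<|b (0 :type_of% (a _))<|b (0 :type_of% (a _))<|b (0 :type_of% (a _))<|b (0 :type_of% (a _))<|b (0 :type_of% (a _))<|d);
 (b (8 :type_of% (a _))<|b (0 :type_of% (a _))<|b (0 :type_of% (a _))<|b (0 :type_of% (a _))<|b (0 :type_of% (a _))<|b (0 :type_of% (a _))<|b (0 :type_of% (a _))<|d));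
 (let d:=(b (0 :type_of% (a _))<|b (0 :type_of% (a _))<|b (0 :type_of% (a _))<|b (0 :type_of% (a _))<|b (0 :type_of% (a _))<|b (0 :type_of% (a _))<|b (8 :type_of% (a _))<|d);
 (c (1835008 :type_of% (a _))<|c (0 :type_of% (a _))<|c (0 :type_of% (a _))<|c (0 :type_of% (a _))<|c (-128 :type_of% (a _))<|c (-128 :type_of% (a _))<|c (0 :type_of% (a _))<|d)))) :type_of% (k _))<|
 m ((let d:=(let d:=(let d:=(b (0 :type_of% (a _))<|b (0 :type_of% (a _))<|b (0 :type_of% (a _))<|b (0 :type_of% (a _))<|b (1 :type_of% (a _))<|b (0 :type_of% (a _))<|b (-1 :type_of% (a _))<|f);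
 (b (1 :type_of% (a _))<|b (0 :type_of% (a _))<|b (-1 :type_of% (a _))<|b (0 :type_of% (a _))<|b (0 :type_of% (a _))<|b (0 :type_of% (a _))<|b (0 :type_of% (a _))<|d));
 (let d:=(b (0 :type_of% (a _))<|b (-4 :type_of% (a _))<|b (0 :type_of% (a _))<|b (0 :type_of% (a _))<|b (0 :type_of% (a _))<|b (0 :type_of% (a _))<|
 b (1 :type_of% (a _))<|d);
 (b (0 :type_of% (a _))<|b (2 :type_of% (a _))<|b (0 :type_of% (a _))<|b (0 :type_of% (a _))<|b (0 :type_of% (a _))<|b (8 :type_of% (a _))<|b (0 :type_of% (a _))<|d)));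
 (let d:=(let d:=(b (1 :type_of% (a _))<|b (0 :type_of% (a _))<|b (0 :type_of% (a _))<|b (0 :type_of% (a _))<|b (0 :type_of% (a _))<|b (0 :type_of% (a _))<|b (0 :type_of% (a _))<|d);
 (b (0 :type_of% (a _))<|b (-16 :type_of% (a _))<|b (-24 :type_of% (a _))<|b (0 :type_of% (a _))<|b (-12 :type_of% (a _))<|b (-4 :type_of% (a _))<|b (0 :type_of% (a _))<|d));
 (let d:=(b (0 :type_of% (a _))<|b (0 :type_of% (a _))<|b (0 :type_of% (a _))<|b (0 :type_of% (a _))<|b (0 :type_of% (a _))<|b (0 :type_of% (a _))<|b (-10 :type_of% (a _))<|d);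
 (c (1943040 :type_of% (a _))<|c (7680 :type_of% (a _))<|c (512 :type_of% (a _))<|c (0 :type_of% (a _))<|c (-96 :type_of% (a _))<|c (-60 :type_of% (a _))<|c (512 :type_of% (a _))<|d)))) :type_of% (k _))<|
 m ((let d:=(let d:=(let d:=(b (0 :type_of% (a _))<|b (0 :type_of% (a _))<|b (-1 :type_of% (a _))<|b (0 :type_of% (a _))<|b (0 :type_of% (a _))<|b (0 :type_of% (a _))<|b (0 :type_of% (a _))<|f);
 (b (0 :type_of% (a _))<|b (0 :type_of% (a _))<|b (0 :type_of% (a _))<|b (1 :type_of% (a _))<|b (1 :type_of% (a _))<|b (0 :type_of% (a _))<|b (0 :type_of% (a _))<|d));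
 (let d:=(b (-4 :type_of% (a _))<|
 b (-3 :type_of% (a _))<|b (-1 :type_of% (a _))<|b (0 :type_of% (a _))<|b (1 :type_of% (a _))<|b (0 :type_of% (a _))<|b (0 :type_of% (a _))<|d);
 (b (0 :type_of% (a _))<|b (0 :type_of% (a _))<|b (0 :type_of% (a _))<|b (0 :type_of% (a _))<|b (0 :type_of% (a _))<|b (0 :type_of% (a _))<|b (-1 :type_of% (a _))<|d)));
 (let d:=(let d:=(b (0 :type_of% (a _))<|b (3 :type_of% (a _))<|b (-1 :type_of% (a _))<|b (3 :type_of% (a _))<|b (-5 :type_of% (a _))<|b (3 :type_of% (a _))<|b (-1 :type_of% (a _))<|d);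
 (b (0 :type_of% (a _))<|b (20 :type_of% (a _))<|b (-12 :type_of% (a _))<|b (15 :type_of% (a _))<|b (-3 :type_of% (a _))<|b (5 :type_of% (a _))<|b (-1 :type_of% (a _))<|d));
 (let d:=(b (-25 :type_of% (a _))<|b (-25 :type_of% (a _))<|b (39 :type_of% (a _))<|b (-17 :type_of% (a _))<|b (-9 :type_of% (a _))<|b (-5 :type_of% (a _))<|b (0 :type_of% (a _))<|d);
 (c (1992375 :type_of% (a _))<|c (3255 :type_of% (a _))<|c (-1225 :type_of% (a _))<|c (215 :type_of% (a _))<|c (180 :type_of% (a _))<|c (45 :type_of% (a _))<|c (-441 :type_of% (a _))<|d)))) :type_of% (k _))<|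
 m ((let d:=(let d:=(let d:=(b (0 :type_of% (a _))<|b (1 :type_of% (a _))<|b (0 :type_of% (a _))<|b (0 :type_of% (a _))<|b (-1 :type_of% (a _))<|b (0 :type_of% (a _))<|b (0 :type_of% (a _))<|f);
 (b (-1 :type_of% (a _))<|b (0 :type_of% (a _))<|b (0 :type_of% (a _))<|b (0 :type_of% (a _))<|b (0 :type_of% (a _))<|b (0 :type_of% (a _))<|b (0 :type_of% (a _))<|d));
 (let d:=(b (0 :type_of% (a _))<|b (0 :type_of% (a _))<|b (0 :type_of% (a _))<|b (0 :type_of% (a _))<|b (0 :type_of% (a _))<|b (0 :type_of% (a _))<|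
 b (-1 :type_of% (a _))<|d);
 (b (0 :type_of% (a _))<|b (0 :type_of% (a _))<|b (0 :type_of% (a _))<|b (0 :type_of% (a _))<|b (0 :type_of% (a _))<|b (0 :type_of% (a _))<|b (0 :type_of% (a _))<|d)));
 (let d:=(let d:=(b (-1 :type_of% (a _))<|b (6 :type_of% (a _))<|b (6 :type_of% (a _))<|b (2 :type_of% (a _))<|b (2 :type_of% (a _))<|b (-2 :type_of% (a _))<|b (2 :type_of% (a _))<|d);
 (b (0 :type_of% (a _))<|b (0 :type_of% (a _))<|b (0 :type_of% (a _))<|b (0 :type_of% (a _))<|b (0 :type_of% (a _))<|b (0 :type_of% (a _))<|b (0 :type_of% (a _))<|d));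
 (let d:=(b (-90 :type_of% (a _))<|b (54 :type_of% (a _))<|b (-18 :type_of% (a _))<|b (6 :type_of% (a _))<|b (6 :type_of% (a _))<|b (10 :type_of% (a _))<|b (0 :type_of% (a _))<|d);
 (c (2004750 :type_of% (a _))<|c (8910 :type_of% (a _))<|c (-1170 :type_of% (a _))<|c (-450 :type_of% (a _))<|c (0 :type_of% (a _))<|c (0 :type_of% (a _))<|c (-162 :type_of% (a _))<|d)))) :type_of% (k _))<|
 m ((let d:=(let d:=(let d:=(b (1 :type_of% (a _))<|b (0 :type_of% (a _))<|b (0 :type_of% (a _))<|b (0 :type_of% (a _))<|b (0 :type_of% (a _))<|b (-1 :type_of% (a _))<|b (1 :type_of% (a _))<|f);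
 (b (0 :type_of% (a _))<|b (-1 :type_of% (a _))<|b (-1 :type_of% (a _))<|b (0 :type_of% (a _))<|b (0 :type_of% (a _))<|b (0 :type_of% (a _))<|b (0 :type_of% (a _))<|d));
 (let d:=(b (-4 :type_of% (a _))<|b (0 :type_of% (a _))<|b (2 :type_of% (a _))<|b (0 :type_of% (a _))<|b (0 :type_of% (a _))<|
 b (0 :type_of% (a _))<|b (0 :type_of% (a _))<|d);
 (b (0 :type_of% (a _))<|b (1 :type_of% (a _))<|b (2 :type_of% (a _))<|b (-2 :type_of% (a _))<|b (0 :type_of% (a _))<|b (0 :type_of% (a _))<|b (2 :type_of% (a _))<|d)));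
 (let d:=(let d:=(b (0 :type_of% (a _))<|b (0 :type_of% (a _))<|b (0 :type_of% (a _))<|b (0 :type_of% (a _))<|b (0 :type_of% (a _))<|b (0 :type_of% (a _))<|b (0 :type_of% (a _))<|d);
 (b (2 :type_of% (a _))<|b (-4 :type_of% (a _))<|b (12 :type_of% (a _))<|b (-6 :type_of% (a _))<|b (12 :type_of% (a _))<|b (-4 :type_of% (a _))<|b (2 :type_of% (a _))<|d));
 (let d:=(b (-64 :type_of% (a _))<|b (-64 :type_of% (a _))<|b (0 :type_of% (a _))<|b (0 :type_of% (a _))<|b (0 :type_of% (a _))<|b (0 :type_of% (a _))<|b (17 :type_of% (a _))<|d);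
 (c (2040192 :type_of% (a _))<|c (-2688 :type_of% (a _))<|c (896 :type_of% (a _))<|c (128 :type_of% (a _))<|c (-36 :type_of% (a _))<|c (-36 :type_of% (a _))<|c (0 :type_of% (a _))<|d)))) :type_of% (k _))<|
 m ((let d:=(let d:=(let d:=(b (0 :type_of% (a _))<|b (0 :type_of% (a _))<|b (0 :type_of% (a _))<|b (0 :type_of% (a _))<|b (0 :type_of% (a _))<|b (1 :type_of% (a _))<|b (0 :type_of% (a _))<|f);
 (b (0 :type_of% (a _))<|b (-1 :type_of% (a _))<|b (0 :type_of% (a _))<|b (0 :type_of% (a _))<|b (0 :type_of% (a _))<|b (1 :type_of% (a _))<|b (0 :type_of% (a _))<|d));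
 (let d:=(b (0 :type_of% (a _))<|b (0 :type_of% (a _))<|b (0 :type_of% (a _))<|b (0 :type_of% (a _))<|b (0 :type_of% (a _))<|b (0 :type_of% (a _))<|b (-2 :type_of% (a _))<|
 d);
 (b (-1 :type_of% (a _))<|b (0 :type_of% (a _))<|b (-2 :type_of% (a _))<|b (0 :type_of% (a _))<|b (0 :type_of% (a _))<|b (0 :type_of% (a _))<|b (0 :type_of% (a _))<|d)));
 (let d:=(let d:=(b (2 :type_of% (a _))<|b (0 :type_of% (a _))<|b (0 :type_of% (a _))<|b (0 :type_of% (a _))<|b (0 :type_of% (a _))<|b (0 :type_of% (a _))<|b (0 :type_of% (a _))<|d);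
 (b (-4 :type_of% (a _))<|b (0 :type_of% (a _))<|b (16 :type_of% (a _))<|b (16 :type_of% (a _))<|b (16 :type_of% (a _))<|b (0 :type_of% (a _))<|b (0 :type_of% (a _))<|d));
 (let d:=(b (0 :type_of% (a _))<|b (0 :type_of% (a _))<|b (0 :type_of% (a _))<|b (0 :type_of% (a _))<|b (0 :type_of% (a _))<|b (0 :type_of% (a _))<|b (-24 :type_of% (a _))<|d);
 (c (2072576 :type_of% (a _))<|c (-8192 :type_of% (a _))<|c (0 :type_of% (a _))<|c (0 :type_of% (a _))<|c (-160 :type_of% (a _))<|c (-16 :type_of% (a _))<|c (0 :type_of% (a _))<|d)))) :type_of% (k _))<|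
 m ((let d:=(let d:=(let d:=(b (0 :type_of% (a _))<|b (0 :type_of% (a _))<|b (0 :type_of% (a _))<|b (0 :type_of% (a _))<|b (0 :type_of% (a _))<|b (0 :type_of% (a _))<|b (0 :type_of% (a _))<|f);
 (b (0 :type_of% (a _))<|b (0 :type_of% (a _))<|b (0 :type_of% (a _))<|b (-1 :type_of% (a _))<|b (-1 :type_of% (a _))<|b (0 :type_of% (a _))<|b (0 :type_of% (a _))<|d));
 (let d:=(b (0 :type_of% (a _))<|b (0 :type_of% (a _))<|b (0 :type_of% (a _))<|b (0 :type_of% (a _))<|b (0 :type_of% (a _))<|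
 b (0 :type_of% (a _))<|b (2 :type_of% (a _))<|d);
 (b (0 :type_of% (a _))<|b (0 :type_of% (a _))<|b (0 :type_of% (a _))<|b (0 :type_of% (a _))<|b (1 :type_of% (a _))<|b (0 :type_of% (a _))<|b (0 :type_of% (a _))<|d)));
 (let d:=(let d:=(b (-2 :type_of% (a _))<|b (-9 :type_of% (a _))<|b (3 :type_of% (a _))<|b (-5 :type_of% (a _))<|b (3 :type_of% (a _))<|b (-1 :type_of% (a _))<|b (-1 :type_of% (a _))<|d);
 (b (0 :type_of% (a _))<|b (0 :type_of% (a _))<|b (0 :type_of% (a _))<|b (0 :type_of% (a _))<|b (0 :type_of% (a _))<|b (0 :type_of% (a _))<|b (0 :type_of% (a _))<|d));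
 (let d:=(b (75 :type_of% (a _))<|b (27 :type_of% (a _))<|b (51 :type_of% (a _))<|b (3 :type_of% (a _))<|b (27 :type_of% (a _))<|b (-5 :type_of% (a _))<|b (0 :type_of% (a _))<|d);
 (c (2095875 :type_of% (a _))<|c (-3645 :type_of% (a _))<|c (-2205 :type_of% (a _))<|c (-45 :type_of% (a _))<|c (0 :type_of% (a _))<|c (0 :type_of% (a _))<|c (-189 :type_of% (a _))<|d)))) :type_of% (k _))<|f);
 (m ((let d:=(let d:=(let d:=(b (0 :type_of% (a _))<|b (0 :type_of% (a _))<|b (0 :type_of% (a _))<|b (-1 :type_of% (a _))<|b (0 :type_of% (a _))<|b (0 :type_of% (a _))<|b (0 :type_of% (a _))<|f);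
 (b (0 :type_of% (a _))<|b (0 :type_of% (a _))<|b (0 :type_of% (a _))<|b (1 :type_of% (a _))<|b (1 :type_of% (a _))<|b (0 :type_of% (a _))<|b (0 :type_of% (a _))<|d));
 (let d:=(b (-1 :type_of% (a _))<|b (-2 :type_of% (a _))<|b (-2 :type_of% (a _))<|
 b (1 :type_of% (a _))<|b (0 :type_of% (a _))<|b (-1 :type_of% (a _))<|b (0 :type_of% (a _))<|d);
 (b (0 :type_of% (a _))<|b (0 :type_of% (a _))<|b (0 :type_of% (a _))<|b (0 :type_of% (a _))<|b (0 :type_of% (a _))<|b (-11 :type_of% (a _))<|b (2 :type_of% (a _))<|d)));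
 (let d:=(let d:=(b (0 :type_of% (a _))<|b (-7 :type_of% (a _))<|b (-3 :type_of% (a _))<|b (5 :type_of% (a _))<|b (-3 :type_of% (a _))<|b (1 :type_of% (a _))<|b (1 :type_of% (a _))<|d);
 (b (0 :type_of% (a _))<|b (-5 :type_of% (a _))<|b (15 :type_of% (a _))<|b (0 :type_of% (a _))<|b (-6 :type_of% (a _))<|b (-2 :type_of% (a _))<|b (4 :type_of% (a _))<|d));
 (let d:=(b (85 :type_of% (a _))<|b (5 :type_of% (a _))<|b (13 :type_of% (a _))<|b (-3 :type_of% (a _))<|b (5 :type_of% (a _))<|b (5 :type_of% (a _))<|b (0 :type_of% (a _))<|d);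
 (c (664125 :type_of% (a _))<|c (-1155 :type_of% (a _))<|c (-35 :type_of% (a _))<|c (-275 :type_of% (a _))<|c (195 :type_of% (a _))<|c (-30 :type_of% (a _))<|c (637 :type_of% (a _))<|d)))) :type_of% (k _))<|
 m ((let d:=(let d:=(let d:=(b (0 :type_of% (a _))<|b (0 :type_of% (a _))<|b (0 :type_of% (a _))<|b (-1 :type_of% (a _))<|b (1 :type_of% (a _))<|b (0 :type_of% (a _))<|b (0 :type_of% (a _))<|f);
 (b (1 :type_of% (a _))<|b (0 :type_of% (a _))<|b (0 :type_of% (a _))<|b (-1 :type_of% (a _))<|b (-1 :type_of% (a _))<|b (0 :type_of% (a _))<|b (0 :type_of% (a _))<|d));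
 (let d:=(b (3 :type_of% (a _))<|b (0 :type_of% (a _))<|b (0 :type_of% (a _))<|b (1 :type_of% (a _))<|
 b (0 :type_of% (a _))<|b (-1 :type_of% (a _))<|b (1 :type_of% (a _))<|d);
 (b (0 :type_of% (a _))<|b (0 :type_of% (a _))<|b (0 :type_of% (a _))<|b (0 :type_of% (a _))<|b (0 :type_of% (a _))<|b (-3 :type_of% (a _))<|b (0 :type_of% (a _))<|d)));
 (let d:=(let d:=(b (1 :type_of% (a _))<|b (-1 :type_of% (a _))<|b (3 :type_of% (a _))<|b (-5 :type_of% (a _))<|b (-5 :type_of% (a _))<|b (-1 :type_of% (a _))<|b (-1 :type_of% (a _))<|d);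
 (b (0 :type_of% (a _))<|b (15 :type_of% (a _))<|b (27 :type_of% (a _))<|b (0 :type_of% (a _))<|b (0 :type_of% (a _))<|b (0 :type_of% (a _))<|b (0 :type_of% (a _))<|d));
 (let d:=(b (-45 :type_of% (a _))<|b (51 :type_of% (a _))<|b (-77 :type_of% (a _))<|b (3 :type_of% (a _))<|b (-13 :type_of% (a _))<|b (-5 :type_of% (a _))<|b (0 :type_of% (a _))<|d);
 (c (853875 :type_of% (a _))<|c (7155 :type_of% (a _))<|c (435 :type_of% (a _))<|c (-45 :type_of% (a _))<|c (135 :type_of% (a _))<|c (0 :type_of% (a _))<|c (-237 :type_of% (a _))<|d)))) :type_of% (k _))<|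
 m ((let d:=(let d:=(let d:=(b (0 :type_of% (a _))<|b (0 :type_of% (a _))<|b (0 :type_of% (a _))<|b (0 :type_of% (a _))<|b (0 :type_of% (a _))<|b (0 :type_of% (a _))<|b (0 :type_of% (a _))<|f);
 (b (0 :type_of% (a _))<|b (0 :type_of% (a _))<|b (0 :type_of% (a _))<|b (0 :type_of% (a _))<|b (0 :type_of% (a _))<|b (1 :type_of% (a _))<|b (0 :type_of% (a _))<|d));
 (let d:=(b (0 :type_of% (a _))<|b (4 :type_of% (a _))<|b (0 :type_of% (a _))<|b (2 :type_of% (a _))<|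
 b (0 :type_of% (a _))<|b (0 :type_of% (a _))<|b (0 :type_of% (a _))<|d);
 (b (1 :type_of% (a _))<|b (0 :type_of% (a _))<|b (0 :type_of% (a _))<|b (0 :type_of% (a _))<|b (-1 :type_of% (a _))<|b (-2 :type_of% (a _))<|b (0 :type_of% (a _))<|d)));
 (let d:=(let d:=(b (0 :type_of% (a _))<|b (0 :type_of% (a _))<|b (0 :type_of% (a _))<|b (0 :type_of% (a _))<|b (0 :type_of% (a _))<|b (0 :type_of% (a _))<|b (0 :type_of% (a _))<|d);
 (b (0 :type_of% (a _))<|b (-20 :type_of% (a _))<|b (-8 :type_of% (a _))<|b (-20 :type_of% (a _))<|b (4 :type_of% (a _))<|b (4 :type_of% (a _))<|b (-4 :type_of% (a _))<|d));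
 (let d:=(b (0 :type_of% (a _))<|b (0 :type_of% (a _))<|b (-64 :type_of% (a _))<|b (0 :type_of% (a _))<|b (0 :type_of% (a _))<|b (0 :type_of% (a _))<|b (0 :type_of% (a _))<|d);
 (c (1288000 :type_of% (a _))<|c (-2240 :type_of% (a _))<|c (-2240 :type_of% (a _))<|c (320 :type_of% (a _))<|c (100 :type_of% (a _))<|c (100 :type_of% (a _))<|c (448 :type_of% (a _))<|d)))) :type_of% (k _))<|
 m ((let d:=(let d:=(let d:=(b (-1 :type_of% (a _))<|b (0 :type_of% (a _))<|b (0 :type_of% (a _))<|b (0 :type_of% (a _))<|b (0 :type_of% (a _))<|b (0 :type_of% (a _))<|b (0 :type_of% (a _))<|f);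
 (b (0 :type_of% (a _))<|b (0 :type_of% (a _))<|b (0 :type_of% (a _))<|b (-1 :type_of% (a _))<|b (1 :type_of% (a _))<|b (0 :type_of% (a _))<|b (0 :type_of% (a _))<|d));
 (let d:=(b (0 :type_of% (a _))<|b (0 :type_of% (a _))<|b (0 :type_of% (a _))<|b (0 :type_of% (a _))<|b (0 :type_of% (a _))<|
 b (0 :type_of% (a _))<|b (0 :type_of% (a _))<|d);
 (b (0 :type_of% (a _))<|b (-3 :type_of% (a _))<|b (0 :type_of% (a _))<|b (2 :type_of% (a _))<|b (0 :type_of% (a _))<|b (0 :type_of% (a _))<|b (0 :type_of% (a _))<|d)));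
 (let d:=(let d:=(b (0 :type_of% (a _))<|b (-3 :type_of% (a _))<|b (3 :type_of% (a _))<|b (3 :type_of% (a _))<|b (7 :type_of% (a _))<|b (1 :type_of% (a _))<|b (1 :type_of% (a _))<|d);
 (b (-6 :type_of% (a _))<|b (0 :type_of% (a _))<|b (0 :type_of% (a _))<|b (0 :type_of% (a _))<|b (0 :type_of% (a _))<|b (0 :type_of% (a _))<|b (0 :type_of% (a _))<|d));
 (let d:=(b (39 :type_of% (a _))<|b (-81 :type_of% (a _))<|b (-69 :type_of% (a _))<|b (-21 :type_of% (a _))<|b (15 :type_of% (a _))<|b (-5 :type_of% (a _))<|b (9 :type_of% (a _))<|d);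
 (c (1291059 :type_of% (a _))<|c (2835 :type_of% (a _))<|c (1827 :type_of% (a _))<|c (27 :type_of% (a _))<|c (0 :type_of% (a _))<|c (0 :type_of% (a _))<|c (-189 :type_of% (a _))<|d)))) :type_of% (k _))<|
 m ((let d:=(let d:=(let d:=(b (0 :type_of% (a _))<|b (0 :type_of% (a _))<|b (1 :type_of% (a _))<|b (0 :type_of% (a _))<|b (0 :type_of% (a _))<|b (0 :type_of% (a _))<|b (0 :type_of% (a _))<|f);
 (b (0 :type_of% (a _))<|b (0 :type_of% (a _))<|b (0 :type_of% (a _))<|b (0 :type_of% (a _))<|b (0 :type_of% (a _))<|b (-1 :type_of% (a _))<|b (0 :type_of% (a _))<|d));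
 (let d:=(b (4 :type_of% (a _))<|b (3 :type_of% (a _))<|b (1 :type_of% (a _))<|
 b (-2 :type_of% (a _))<|b (-1 :type_of% (a _))<|b (0 :type_of% (a _))<|b (0 :type_of% (a _))<|d);
 (b (1 :type_of% (a _))<|b (0 :type_of% (a _))<|b (0 :type_of% (a _))<|b (0 :type_of% (a _))<|b (0 :type_of% (a _))<|b (-6 :type_of% (a _))<|b (1 :type_of% (a _))<|d)));
 (let d:=(let d:=(b (0 :type_of% (a _))<|b (0 :type_of% (a _))<|b (-8 :type_of% (a _))<|b (0 :type_of% (a _))<|b (0 :type_of% (a _))<|b (0 :type_of% (a _))<|b (0 :type_of% (a _))<|d);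
 (b (0 :type_of% (a _))<|b (0 :type_of% (a _))<|b (-4 :type_of% (a _))<|b (5 :type_of% (a _))<|b (-13 :type_of% (a _))<|b (3 :type_of% (a _))<|b (5 :type_of% (a _))<|d));
 (let d:=(b (40 :type_of% (a _))<|b (-56 :type_of% (a _))<|b (-8 :type_of% (a _))<|b (8 :type_of% (a _))<|b (-24 :type_of% (a _))<|b (0 :type_of% (a _))<|b (0 :type_of% (a _))<|d);
 (c (1771000 :type_of% (a _))<|c (1400 :type_of% (a _))<|c (-840 :type_of% (a _))<|c (-40 :type_of% (a _))<|c (-200 :type_of% (a _))<|c (115 :type_of% (a _))<|c (-168 :type_of% (a _))<|d)))) :type_of% (k _))<|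
 m ((let d:=(let d:=(let d:=(b (0 :type_of% (a _))<|b (0 :type_of% (a _))<|b (0 :type_of% (a _))<|b (1 :type_of% (a _))<|b (0 :type_of% (a _))<|b (0 :type_of% (a _))<|b (0 :type_of% (a _))<|f);
 (b (0 :type_of% (a _))<|b (0 :type_of% (a _))<|b (0 :type_of% (a _))<|b (0 :type_of% (a _))<|b (0 :type_of% (a _))<|b (-1 :type_of% (a _))<|b (0 :type_of% (a _))<|d));
 (let d:=(b (1 :type_of% (a _))<|b (0 :type_of% (a _))<|
 b (-2 :type_of% (a _))<|b (-1 :type_of% (a _))<|b (0 :type_of% (a _))<|b (1 :type_of% (a _))<|b (0 :type_of% (a _))<|d);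
 (b (1 :type_of% (a _))<|b (0 :type_of% (a _))<|b (0 :type_of% (a _))<|b (0 :type_of% (a _))<|b (0 :type_of% (a _))<|b (3 :type_of% (a _))<|b (-2 :type_of% (a _))<|d)));
 (let d:=(let d:=(b (0 :type_of% (a _))<|b (4 :type_of% (a _))<|b (0 :type_of% (a _))<|b (0 :type_of% (a _))<|b (0 :type_of% (a _))<|b (4 :type_of% (a _))<|b (0 :type_of% (a _))<|d);
 (b (0 :type_of% (a _))<|b (5 :type_of% (a _))<|b (-7 :type_of% (a _))<|b (-10 :type_of% (a _))<|b (-4 :type_of% (a _))<|b (-4 :type_of% (a _))<|b (-2 :type_of% (a _))<|d));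
 (let d:=(b (40 :type_of% (a _))<|b (40 :type_of% (a _))<|b (-40 :type_of% (a _))<|b (24 :type_of% (a _))<|b (-8 :type_of% (a _))<|b (0 :type_of% (a _))<|b (0 :type_of% (a _))<|d);
 (c (1771000 :type_of% (a _))<|c (-12040 :type_of% (a _))<|c (1400 :type_of% (a _))<|c (-200 :type_of% (a _))<|c (205 :type_of% (a _))<|c (-20 :type_of% (a _))<|c (-168 :type_of% (a _))<|d)))) :type_of% (k _))<|
 d));
 (let d:=(m ((let d:=(let d:=(let d:=(b (0 :type_of% (a _))<|b (0 :type_of% (a _))<|b (0 :type_of% (a _))<|b (-1 :type_of% (a _))<|b (0 :type_of% (a _))<|b (0 :type_of% (a _))<|b (0 :type_of% (a _))<|f);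
 (b (0 :type_of% (a _))<|b (0 :type_of% (a _))<|b (0 :type_of% (a _))<|b (0 :type_of% (a _))<|b (0 :type_of% (a _))<|b (1 :type_of% (a _))<|b (0 :type_of% (a _))<|d));
 (let d:=(b (3 :type_of% (a _))<|b (0 :type_of% (a _))<|b (0 :type_of% (a _))<|
 b (1 :type_of% (a _))<|b (0 :type_of% (a _))<|b (-1 :type_of% (a _))<|b (0 :type_of% (a _))<|d);
 (b (1 :type_of% (a _))<|b (0 :type_of% (a _))<|b (0 :type_of% (a _))<|b (0 :type_of% (a _))<|b (0 :type_of% (a _))<|b (-3 :type_of% (a _))<|b (0 :type_of% (a _))<|d)));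
 (let d:=(let d:=(b (0 :type_of% (a _))<|b (2 :type_of% (a _))<|b (6 :type_of% (a _))<|b (2 :type_of% (a _))<|b (-6 :type_of% (a _))<|b (2 :type_of% (a _))<|b (-2 :type_of% (a _))<|d);
 (b (0 :type_of% (a _))<|b (15 :type_of% (a _))<|b (-5 :type_of% (a _))<|b (-20 :type_of% (a _))<|b (-8 :type_of% (a _))<|b (0 :type_of% (a _))<|b (-4 :type_of% (a _))<|d));
 (let d:=(b (30 :type_of% (a _))<|b (-66 :type_of% (a _))<|b (46 :type_of% (a _))<|b (6 :type_of% (a _))<|b (14 :type_of% (a _))<|b (10 :type_of% (a _))<|b (0 :type_of% (a _))<|d);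
 (c (442750 :type_of% (a _))<|c (-770 :type_of% (a _))<|c (1470 :type_of% (a _))<|c (-130 :type_of% (a _))<|c (-185 :type_of% (a _))<|c (40 :type_of% (a _))<|c (-210 :type_of% (a _))<|d)))) :type_of% (k _))<|
 m ((let d:=(let d:=(let d:=(b (0 :type_of% (a _))<|b (-1 :type_of% (a _))<|b (0 :type_of% (a _))<|b (0 :type_of% (a _))<|b (0 :type_of% (a _))<|b (0 :type_of% (a _))<|b (0 :type_of% (a _))<|f);
 (b (0 :type_of% (a _))<|b (0 :type_of% (a _))<|b (0 :type_of% (a _))<|b (0 :type_of% (a _))<|b (0 :type_of% (a _))<|b (0 :type_of% (a _))<|b (0 :type_of% (a _))<|d));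
 (let d:=(b (-2 :type_of% (a _))<|b (4 :type_of% (a _))<|b (2 :type_of% (a _))<|b (0 :type_of% (a _))<|
 b (2 :type_of% (a _))<|b (2 :type_of% (a _))<|b (0 :type_of% (a _))<|d);
 (b (0 :type_of% (a _))<|b (0 :type_of% (a _))<|b (0 :type_of% (a _))<|b (0 :type_of% (a _))<|b (0 :type_of% (a _))<|b (4 :type_of% (a _))<|b (-2 :type_of% (a _))<|d)));
 (let d:=(let d:=(b (0 :type_of% (a _))<|b (0 :type_of% (a _))<|b (0 :type_of% (a _))<|b (0 :type_of% (a _))<|b (0 :type_of% (a _))<|b (0 :type_of% (a _))<|b (0 :type_of% (a _))<|d);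
 (b (0 :type_of% (a _))<|b (-10 :type_of% (a _))<|b (18 :type_of% (a _))<|b (0 :type_of% (a _))<|b (0 :type_of% (a _))<|b (-4 :type_of% (a _))<|b (-4 :type_of% (a _))<|d));
 (let d:=(b (80 :type_of% (a _))<|b (16 :type_of% (a _))<|b (48 :type_of% (a _))<|b (-16 :type_of% (a _))<|b (-16 :type_of% (a _))<|b (0 :type_of% (a _))<|b (0 :type_of% (a _))<|d);
 (c (462000 :type_of% (a _))<|c (5040 :type_of% (a _))<|c (560 :type_of% (a _))<|c (-400 :type_of% (a _))<|c (30 :type_of% (a _))<|c (120 :type_of% (a _))<|c (112 :type_of% (a _))<|d)))) :type_of% (k _))<|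
 m ((let d:=(let d:=(let d:=(b (0 :type_of% (a _))<|b (1 :type_of% (a _))<|b (-1 :type_of% (a _))<|b (0 :type_of% (a _))<|b (0 :type_of% (a _))<|b (1 :type_of% (a _))<|b (0 :type_of% (a _))<|f);
 (b (0 :type_of% (a _))<|b (-1 :type_of% (a _))<|b (0 :type_of% (a _))<|b (-1 :type_of% (a _))<|b (-1 :type_of% (a _))<|b (0 :type_of% (a _))<|b (-1 :type_of% (a _))<|d));
 (let d:=(b (0 :type_of% (a _))<|b (3 :type_of% (a _))<|b (1 :type_of% (a _))<|b (0 :type_of% (a _))<|b (1 :type_of% (a _))<|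
 b (0 :type_of% (a _))<|b (0 :type_of% (a _))<|d);
 (b (0 :type_of% (a _))<|b (0 :type_of% (a _))<|b (1 :type_of% (a _))<|b (1 :type_of% (a _))<|b (0 :type_of% (a _))<|b (0 :type_of% (a _))<|b (-3 :type_of% (a _))<|d)));
 (let d:=(let d:=(b (0 :type_of% (a _))<|b (3 :type_of% (a _))<|b (-1 :type_of% (a _))<|b (7 :type_of% (a _))<|b (-1 :type_of% (a _))<|b (-5 :type_of% (a _))<|b (-1 :type_of% (a _))<|d);
 (b (5 :type_of% (a _))<|b (0 :type_of% (a _))<|b (0 :type_of% (a _))<|b (-9 :type_of% (a _))<|b (-9 :type_of% (a _))<|b (3 :type_of% (a _))<|b (3 :type_of% (a _))<|d));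
 (let d:=(b (55 :type_of% (a _))<|b (39 :type_of% (a _))<|b (15 :type_of% (a _))<|b (-17 :type_of% (a _))<|b (-9 :type_of% (a _))<|b (-1 :type_of% (a _))<|b (0 :type_of% (a _))<|d);
 (c (467775 :type_of% (a _))<|c (-3969 :type_of% (a _))<|c (735 :type_of% (a _))<|c (111 :type_of% (a _))<|c (0 :type_of% (a _))<|c (-81 :type_of% (a _))<|c (63 :type_of% (a _))<|d)))) :type_of% (k _))<|
 m ((let d:=(let d:=(let d:=(b (0 :type_of% (a _))<|b (0 :type_of% (a _))<|b (1 :type_of% (a _))<|b (0 :type_of% (a _))<|b (-1 :type_of% (a _))<|b (-1 :type_of% (a _))<|b (0 :type_of% (a _))<|f);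
 (b (-1 :type_of% (a _))<|b (-1 :type_of% (a _))<|b (0 :type_of% (a _))<|b (0 :type_of% (a _))<|b (0 :type_of% (a _))<|b (0 :type_of% (a _))<|b (1 :type_of% (a _))<|d));
 (let d:=(b (0 :type_of% (a _))<|b (3 :type_of% (a _))<|b (-1 :type_of% (a _))<|b (0 :type_of% (a _))<|
 b (1 :type_of% (a _))<|b (0 :type_of% (a _))<|b (-1 :type_of% (a _))<|d);
 (b (0 :type_of% (a _))<|b (0 :type_of% (a _))<|b (-1 :type_of% (a _))<|b (1 :type_of% (a _))<|b (1 :type_of% (a _))<|b (0 :type_of% (a _))<|b (3 :type_of% (a _))<|d)));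
 (let d:=(let d:=(b (-1 :type_of% (a _))<|b (0 :type_of% (a _))<|b (4 :type_of% (a _))<|b (-4 :type_of% (a _))<|b (-4 :type_of% (a _))<|b (0 :type_of% (a _))<|b (0 :type_of% (a _))<|d);
 (b (5 :type_of% (a _))<|b (0 :type_of% (a _))<|b (0 :type_of% (a _))<|b (9 :type_of% (a _))<|b (-9 :type_of% (a _))<|b (3 :type_of% (a _))<|b (-3 :type_of% (a _))<|d));
 (let d:=(b (20 :type_of% (a _))<|b (-12 :type_of% (a _))<|b (-12 :type_of% (a _))<|b (4 :type_of% (a _))<|b (-12 :type_of% (a _))<|b (-4 :type_of% (a _))<|b (0 :type_of% (a _))<|d);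
 (c (558900 :type_of% (a _))<|c (2484 :type_of% (a _))<|c (1140 :type_of% (a _))<|c (276 :type_of% (a _))<|c (0 :type_of% (a _))<|c (-81 :type_of% (a _))<|c (468 :type_of% (a _))<|d)))) :type_of% (k _))<|
 m ((let d:=(let d:=(let d:=(b (-1 :type_of% (a _))<|b (0 :type_of% (a _))<|b (1 :type_of% (a _))<|b (0 :type_of% (a _))<|b (0 :type_of% (a _))<|b (0 :type_of% (a _))<|b (0 :type_of% (a _))<|f);
 (b (0 :type_of% (a _))<|b (0 :type_of% (a _))<|b (0 :type_of% (a _))<|b (0 :type_of% (a _))<|b (0 :type_of% (a _))<|b (0 :type_of% (a _))<|b (0 :type_of% (a _))<|d));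
 (let d:=(b (-2 :type_of% (a _))<|b (3 :type_of% (a _))<|b (1 :type_of% (a _))<|b (2 :type_of% (a _))<|
 b (-1 :type_of% (a _))<|b (2 :type_of% (a _))<|b (0 :type_of% (a _))<|d);
 (b (0 :type_of% (a _))<|b (-3 :type_of% (a _))<|b (0 :type_of% (a _))<|b (0 :type_of% (a _))<|b (0 :type_of% (a _))<|b (-6 :type_of% (a _))<|b (1 :type_of% (a _))<|d)));
 (let d:=(let d:=(b (0 :type_of% (a _))<|b (0 :type_of% (a _))<|b (-8 :type_of% (a _))<|b (0 :type_of% (a _))<|b (0 :type_of% (a _))<|b (0 :type_of% (a _))<|b (0 :type_of% (a _))<|d);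
 (b (0 :type_of% (a _))<|b (10 :type_of% (a _))<|b (-6 :type_of% (a _))<|b (-15 :type_of% (a _))<|b (3 :type_of% (a _))<|b (-5 :type_of% (a _))<|b (1 :type_of% (a _))<|d));
 (let d:=(b (-56 :type_of% (a _))<|b (40 :type_of% (a _))<|b (56 :type_of% (a _))<|b (8 :type_of% (a _))<|b (8 :type_of% (a _))<|b (0 :type_of% (a _))<|b (-15 :type_of% (a _))<|d);
 (c (637560 :type_of% (a _))<|c (5880 :type_of% (a _))<|c (952 :type_of% (a _))<|c (280 :type_of% (a _))<|c (90 :type_of% (a _))<|c (-45 :type_of% (a _))<|c (-168 :type_of% (a _))<|d)))) :type_of% (k _))<|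
 m ((let d:=(let d:=(let d:=(b (0 :type_of% (a _))<|b (0 :type_of% (a _))<|b (0 :type_of% (a _))<|b (1 :type_of% (a _))<|b (0 :type_of% (a _))<|b (0 :type_of% (a _))<|b (0 :type_of% (a _))<|f);
 (b (0 :type_of% (a _))<|b (0 :type_of% (a _))<|b (0 :type_of% (a _))<|b (1 :type_of% (a _))<|b (-1 :type_of% (a _))<|b (0 :type_of% (a _))<|b (0 :type_of% (a _))<|d));
 (let d:=(b (3 :type_of% (a _))<|b (2 :type_of% (a _))<|b (0 :type_of% (a _))<|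
 b (1 :type_of% (a _))<|b (-2 :type_of% (a _))<|b (-1 :type_of% (a _))<|b (0 :type_of% (a _))<|d);
 (b (0 :type_of% (a _))<|b (0 :type_of% (a _))<|b (0 :type_of% (a _))<|b (0 :type_of% (a _))<|b (0 :type_of% (a _))<|b (5 :type_of% (a _))<|b (0 :type_of% (a _))<|d)));
 (let d:=(let d:=(b (0 :type_of% (a _))<|b (-5 :type_of% (a _))<|b (-3 :type_of% (a _))<|b (-3 :type_of% (a _))<|b (1 :type_of% (a _))<|b (-1 :type_of% (a _))<|b (-1 :type_of% (a _))<|d);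
 (b (0 :type_of% (a _))<|b (-5 :type_of% (a _))<|b (-9 :type_of% (a _))<|b (0 :type_of% (a _))<|b (18 :type_of% (a _))<|b (10 :type_of% (a _))<|b (0 :type_of% (a _))<|d));
 (let d:=(b (-15 :type_of% (a _))<|b (-39 :type_of% (a _))<|b (37 :type_of% (a _))<|b (-11 :type_of% (a _))<|b (-7 :type_of% (a _))<|b (5 :type_of% (a _))<|b (0 :type_of% (a _))<|d);
 (c (664125 :type_of% (a _))<|c (2205 :type_of% (a _))<|c (1645 :type_of% (a _))<|c (-315 :type_of% (a _))<|c (195 :type_of% (a _))<|c (-30 :type_of% (a _))<|c (77 :type_of% (a _))<|d)))) :type_of% (k _))<|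
 m ((let d:=(let d:=(let d:=(b (0 :type_of% (a _))<|b (0 :type_of% (a _))<|b (0 :type_of% (a _))<|b (-1 :type_of% (a _))<|b (0 :type_of% (a _))<|b (0 :type_of% (a _))<|b (0 :type_of% (a _))<|f);
 (b (0 :type_of% (a _))<|b (0 :type_of% (a _))<|b (0 :type_of% (a _))<|b (1 :type_of% (a _))<|b (1 :type_of% (a _))<|b (0 :type_of% (a _))<|b (0 :type_of% (a _))<|d));
 (let d:=(b (7 :type_of% (a _))<|b (-2 :type_of% (a _))<|b (2 :type_of% (a _))<|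
 b (-3 :type_of% (a _))<|b (0 :type_of% (a _))<|b (-1 :type_of% (a _))<|b (0 :type_of% (a _))<|d);
 (b (0 :type_of% (a _))<|b (0 :type_of% (a _))<|b (0 :type_of% (a _))<|b (0 :type_of% (a _))<|b (0 :type_of% (a _))<|b (1 :type_of% (a _))<|b (-2 :type_of% (a _))<|d)));
 (let d:=(let d:=(b (0 :type_of% (a _))<|b (5 :type_of% (a _))<|b (-3 :type_of% (a _))<|b (-3 :type_of% (a _))<|b (5 :type_of% (a _))<|b (-3 :type_of% (a _))<|b (1 :type_of% (a _))<|d);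
 (b (0 :type_of% (a _))<|b (-5 :type_of% (a _))<|b (15 :type_of% (a _))<|b (0 :type_of% (a _))<|b (-6 :type_of% (a _))<|b (-2 :type_of% (a _))<|b (-4 :type_of% (a _))<|d));
 (let d:=(b (5 :type_of% (a _))<|b (-11 :type_of% (a _))<|b (45 :type_of% (a _))<|b (-3 :type_of% (a _))<|b (5 :type_of% (a _))<|b (5 :type_of% (a _))<|b (0 :type_of% (a _))<|d);
 (c (664125 :type_of% (a _))<|c (-1155 :type_of% (a _))<|c (-35 :type_of% (a _))<|c (365 :type_of% (a _))<|c (195 :type_of% (a _))<|c (-30 :type_of% (a _))<|c (-35 :type_of% (a _))<|d)))) :type_of% (k _))<|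
 d);
 (m ((let d:=(let d:=(let d:=(b (0 :type_of% (a _))<|b (0 :type_of% (a _))<|b (-1 :type_of% (a _))<|b (0 :type_of% (a _))<|b (0 :type_of% (a _))<|b (0 :type_of% (a _))<|b (0 :type_of% (a _))<|f);
 (b (0 :type_of% (a _))<|b (0 :type_of% (a _))<|b (0 :type_of% (a _))<|b (-1 :type_of% (a _))<|b (1 :type_of% (a _))<|b (0 :type_of% (a _))<|b (0 :type_of% (a _))<|d));
 (let d:=(b (2 :type_of% (a _))<|b (-3 :type_of% (a _))<|
 b (-1 :type_of% (a _))<|b (2 :type_of% (a _))<|b (1 :type_of% (a _))<|b (2 :type_of% (a _))<|b (2 :type_of% (a _))<|d);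
 (b (0 :type_of% (a _))<|b (0 :type_of% (a _))<|b (0 :type_of% (a _))<|b (0 :type_of% (a _))<|b (0 :type_of% (a _))<|b (-6 :type_of% (a _))<|b (-1 :type_of% (a _))<|d)));
 (let d:=(let d:=(b (-2 :type_of% (a _))<|b (3 :type_of% (a _))<|b (-7 :type_of% (a _))<|b (-3 :type_of% (a _))<|b (1 :type_of% (a _))<|b (-1 :type_of% (a _))<|b (-1 :type_of% (a _))<|d);
 (b (0 :type_of% (a _))<|b (-10 :type_of% (a _))<|b (6 :type_of% (a _))<|b (15 :type_of% (a _))<|b (-3 :type_of% (a _))<|b (5 :type_of% (a _))<|b (-1 :type_of% (a _))<|d));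
 (let d:=(b (-115 :type_of% (a _))<|b (5 :type_of% (a _))<|b (-7 :type_of% (a _))<|b (1 :type_of% (a _))<|b (5 :type_of% (a _))<|b (5 :type_of% (a _))<|b (0 :type_of% (a _))<|d);
 (c (284625 :type_of% (a _))<|c (-3855 :type_of% (a _))<|c (1505 :type_of% (a _))<|c (-55 :type_of% (a _))<|c (-90 :type_of% (a _))<|c (45 :type_of% (a _))<|c (273 :type_of% (a _))<|d)))) :type_of% (k _))<|
 m ((let d:=(let d:=(let d:=(b (-1 :type_of% (a _))<|b (0 :type_of% (a _))<|b (-1 :type_of% (a _))<|b (0 :type_of% (a _))<|b (0 :type_of% (a _))<|b (1 :type_of% (a _))<|b (0 :type_of% (a _))<|f);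
 (b (0 :type_of% (a _))<|b (1 :type_of% (a _))<|b (0 :type_of% (a _))<|b (0 :type_of% (a _))<|b (0 :type_of% (a _))<|b (0 :type_of% (a _))<|b (0 :type_of% (a _))<|d));
 (let d:=(b (0 :type_of% (a _))<|b (-3 :type_of% (a _))<|b (1 :type_of% (a _))<|b (0 :type_of% (a _))<|
 b (-1 :type_of% (a _))<|b (0 :type_of% (a _))<|b (0 :type_of% (a _))<|d);
 (b (0 :type_of% (a _))<|b (-3 :type_of% (a _))<|b (-2 :type_of% (a _))<|b (0 :type_of% (a _))<|b (1 :type_of% (a _))<|b (0 :type_of% (a _))<|b (-3 :type_of% (a _))<|d)));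
 (let d:=(let d:=(b (0 :type_of% (a _))<|b (0 :type_of% (a _))<|b (8 :type_of% (a _))<|b (0 :type_of% (a _))<|b (0 :type_of% (a _))<|b (0 :type_of% (a _))<|b (0 :type_of% (a _))<|d);
 (b (4 :type_of% (a _))<|b (0 :type_of% (a _))<|b (0 :type_of% (a _))<|b (-9 :type_of% (a _))<|b (9 :type_of% (a _))<|b (-3 :type_of% (a _))<|b (3 :type_of% (a _))<|d));
 (let d:=(b (-56 :type_of% (a _))<|b (-24 :type_of% (a _))<|b (24 :type_of% (a _))<|b (8 :type_of% (a _))<|b (-24 :type_of% (a _))<|b (0 :type_of% (a _))<|b (9 :type_of% (a _))<|d);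
 (c (312984 :type_of% (a _))<|c (-1512 :type_of% (a _))<|c (-168 :type_of% (a _))<|c (120 :type_of% (a _))<|c (0 :type_of% (a _))<|c (81 :type_of% (a _))<|c (504 :type_of% (a _))<|d)))) :type_of% (k _))<|
 m ((let d:=(let d:=(let d:=(b (0 :type_of% (a _))<|b (0 :type_of% (a _))<|b (0 :type_of% (a _))<|b (0 :type_of% (a _))<|b (0 :type_of% (a _))<|b (0 :type_of% (a _))<|b (0 :type_of% (a _))<|f);
 (b (0 :type_of% (a _))<|b (0 :type_of% (a _))<|b (0 :type_of% (a _))<|b (0 :type_of% (a _))<|b (0 :type_of% (a _))<|b (0 :type_of% (a _))<|b (0 :type_of% (a _))<|d));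
 (let d:=(b (0 :type_of% (a _))<|b (0 :type_of% (a _))<|b (0 :type_of% (a _))<|b (0 :type_of% (a _))<|b (0 :type_of% (a _))<|
 b (0 :type_of% (a _))<|b (-2 :type_of% (a _))<|d);
 (b (0 :type_of% (a _))<|b (0 :type_of% (a _))<|b (0 :type_of% (a _))<|b (2 :type_of% (a _))<|b (0 :type_of% (a _))<|b (0 :type_of% (a _))<|b (0 :type_of% (a _))<|d)));
 (let d:=(let d:=(b (2 :type_of% (a _))<|b (6 :type_of% (a _))<|b (-6 :type_of% (a _))<|b (-2 :type_of% (a _))<|b (-2 :type_of% (a _))<|b (-2 :type_of% (a _))<|b (-2 :type_of% (a _))<|d);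
 (b (-6 :type_of% (a _))<|b (0 :type_of% (a _))<|b (0 :type_of% (a _))<|b (0 :type_of% (a _))<|b (0 :type_of% (a _))<|b (0 :type_of% (a _))<|b (0 :type_of% (a _))<|d));
 (let d:=(b (-30 :type_of% (a _))<|b (18 :type_of% (a _))<|b (42 :type_of% (a _))<|b (18 :type_of% (a _))<|b (18 :type_of% (a _))<|b (-10 :type_of% (a _))<|b (24 :type_of% (a _))<|d);
 (c (368874 :type_of% (a _))<|c (810 :type_of% (a _))<|c (-630 :type_of% (a _))<|c (-198 :type_of% (a _))<|c (0 :type_of% (a _))<|c (0 :type_of% (a _))<|c (378 :type_of% (a _))<|d)))) :type_of% (k _))<|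
 m ((let d:=(let d:=(let d:=(b (0 :type_of% (a _))<|b (0 :type_of% (a _))<|b (0 :type_of% (a _))<|b (1 :type_of% (a _))<|b (0 :type_of% (a _))<|b (1 :type_of% (a _))<|b (0 :type_of% (a _))<|f);
 (b (0 :type_of% (a _))<|b (1 :type_of% (a _))<|b (0 :type_of% (a _))<|b (1 :type_of% (a _))<|b (-1 :type_of% (a _))<|b (0 :type_of% (a _))<|b (-1 :type_of% (a _))<|d));
 (let d:=(b (-5 :type_of% (a _))<|b (0 :type_of% (a _))<|
 b (-2 :type_of% (a _))<|b (1 :type_of% (a _))<|b (0 :type_of% (a _))<|b (-1 :type_of% (a _))<|b (0 :type_of% (a _))<|d);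
 (b (0 :type_of% (a _))<|b (0 :type_of% (a _))<|b (1 :type_of% (a _))<|b (-1 :type_of% (a _))<|b (0 :type_of% (a _))<|b (-3 :type_of% (a _))<|b (-2 :type_of% (a _))<|d)));
 (let d:=(let d:=(b (0 :type_of% (a _))<|b (1 :type_of% (a _))<|b (3 :type_of% (a _))<|b (-1 :type_of% (a _))<|b (3 :type_of% (a _))<|b (-3 :type_of% (a _))<|b (1 :type_of% (a _))<|d);
 (b (-5 :type_of% (a _))<|b (-5 :type_of% (a _))<|b (15 :type_of% (a _))<|b (6 :type_of% (a _))<|b (-12 :type_of% (a _))<|b (4 :type_of% (a _))<|b (-2 :type_of% (a _))<|d));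
 (let d:=(b (55 :type_of% (a _))<|b (-17 :type_of% (a _))<|b (19 :type_of% (a _))<|b (27 :type_of% (a _))<|b (-1 :type_of% (a _))<|b (-1 :type_of% (a _))<|b (0 :type_of% (a _))<|d);
 (c (398475 :type_of% (a _))<|c (4011 :type_of% (a _))<|c (1435 :type_of% (a _))<|c (259 :type_of% (a _))<|c (-45 :type_of% (a _))<|c (36 :type_of% (a _))<|c (-21 :type_of% (a _))<|d)))) :type_of% (k _))<|
 m ((let d:=(let d:=(let d:=(b (0 :type_of% (a _))<|b (0 :type_of% (a _))<|b (0 :type_of% (a _))<|b (-1 :type_of% (a _))<|b (0 :type_of% (a _))<|b (-1 :type_of% (a _))<|b (0 :type_of% (a _))<|f);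
 (b (0 :type_of% (a _))<|b (1 :type_of% (a _))<|b (0 :type_of% (a _))<|b (1 :type_of% (a _))<|b (-1 :type_of% (a _))<|b (0 :type_of% (a _))<|b (1 :type_of% (a _))<|d));
 (let d:=(b (-1 :type_of% (a _))<|b (0 :type_of% (a _))<|
 b (2 :type_of% (a _))<|b (1 :type_of% (a _))<|b (0 :type_of% (a _))<|b (-1 :type_of% (a _))<|b (0 :type_of% (a _))<|d);
 (b (0 :type_of% (a _))<|b (0 :type_of% (a _))<|b (-1 :type_of% (a _))<|b (-1 :type_of% (a _))<|b (0 :type_of% (a _))<|b (-3 :type_of% (a _))<|b (2 :type_of% (a _))<|d)));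
 (let d:=(let d:=(b (0 :type_of% (a _))<|b (5 :type_of% (a _))<|b (3 :type_of% (a _))<|b (-1 :type_of% (a _))<|b (3 :type_of% (a _))<|b (1 :type_of% (a _))<|b (1 :type_of% (a _))<|d);
 (b (-5 :type_of% (a _))<|b (-5 :type_of% (a _))<|b (-9 :type_of% (a _))<|b (-6 :type_of% (a _))<|b (-12 :type_of% (a _))<|b (4 :type_of% (a _))<|b (2 :type_of% (a _))<|d));
 (let d:=(b (-25 :type_of% (a _))<|b (95 :type_of% (a _))<|b (19 :type_of% (a _))<|b (-21 :type_of% (a _))<|b (-1 :type_of% (a _))<|b (-9 :type_of% (a _))<|b (0 :type_of% (a _))<|d);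
 (c (398475 :type_of% (a _))<|c (-6741 :type_of% (a _))<|c (1435 :type_of% (a _))<|c (-61 :type_of% (a _))<|c (-45 :type_of% (a _))<|c (36 :type_of% (a _))<|c (-21 :type_of% (a _))<|d)))) :type_of% (k _))<|
 m ((let d:=(let d:=(let d:=(b (-1 :type_of% (a _))<|b (0 :type_of% (a _))<|b (1 :type_of% (a _))<|b (0 :type_of% (a _))<|b (0 :type_of% (a _))<|b (-1 :type_of% (a _))<|b (0 :type_of% (a _))<|f);
 (b (0 :type_of% (a _))<|b (1 :type_of% (a _))<|b (0 :type_of% (a _))<|b (-1 :type_of% (a _))<|b (-1 :type_of% (a _))<|b (0 :type_of% (a _))<|b (0 :type_of% (a _))<|d));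
 (let d:=(b (0 :type_of% (a _))<|b (-3 :type_of% (a _))<|b (-1 :type_of% (a _))<|b (0 :type_of% (a _))<|
 b (-1 :type_of% (a _))<|b (0 :type_of% (a _))<|b (0 :type_of% (a _))<|d);
 (b (0 :type_of% (a _))<|b (3 :type_of% (a _))<|b (2 :type_of% (a _))<|b (2 :type_of% (a _))<|b (0 :type_of% (a _))<|b (0 :type_of% (a _))<|b (3 :type_of% (a _))<|d)));
 (let d:=(let d:=(b (0 :type_of% (a _))<|b (-3 :type_of% (a _))<|b (1 :type_of% (a _))<|b (5 :type_of% (a _))<|b (-3 :type_of% (a _))<|b (-3 :type_of% (a _))<|b (1 :type_of% (a _))<|d);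
 (b (-2 :type_of% (a _))<|b (0 :type_of% (a _))<|b (0 :type_of% (a _))<|b (9 :type_of% (a _))<|b (9 :type_of% (a _))<|b (-3 :type_of% (a _))<|b (-3 :type_of% (a _))<|d));
 (let d:=(b (-31 :type_of% (a _))<|b (33 :type_of% (a _))<|b (33 :type_of% (a _))<|b (-7 :type_of% (a _))<|b (-15 :type_of% (a _))<|b (5 :type_of% (a _))<|b (3 :type_of% (a _))<|d);
 (c (430353 :type_of% (a _))<|c (-5103 :type_of% (a _))<|c (273 :type_of% (a _))<|c (177 :type_of% (a _))<|c (0 :type_of% (a _))<|c (81 :type_of% (a _))<|c (-63 :type_of% (a _))<|d)))) :type_of% (k _))<|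
 d)));
 (let d:=(let d:=(m ((let d:=(let d:=(let d:=(b (0 :type_of% (a _))<|b (0 :type_of% (a _))<|b (1 :type_of% (a _))<|b (0 :type_of% (a _))<|b (0 :type_of% (a _))<|b (1 :type_of% (a _))<|b (0 :type_of% (a _))<|f);
 (b (0 :type_of% (a _))<|b (1 :type_of% (a _))<|b (0 :type_of% (a _))<|b (0 :type_of% (a _))<|b (0 :type_of% (a _))<|b (-1 :type_of% (a _))<|b (-1 :type_of% (a _))<|d));
 (let d:=(b (0 :type_of% (a _))<|b (3 :type_of% (a _))<|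
 b (1 :type_of% (a _))<|b (-2 :type_of% (a _))<|b (1 :type_of% (a _))<|b (0 :type_of% (a _))<|b (0 :type_of% (a _))<|d);
 (b (1 :type_of% (a _))<|b (0 :type_of% (a _))<|b (1 :type_of% (a _))<|b (-1 :type_of% (a _))<|b (0 :type_of% (a _))<|b (-6 :type_of% (a _))<|b (-3 :type_of% (a _))<|d)));
 (let d:=(let d:=(b (0 :type_of% (a _))<|b (0 :type_of% (a _))<|b (4 :type_of% (a _))<|b (-4 :type_of% (a _))<|b (-4 :type_of% (a _))<|b (0 :type_of% (a _))<|b (0 :type_of% (a _))<|d);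
 (b (-5 :type_of% (a _))<|b (20 :type_of% (a _))<|b (-16 :type_of% (a _))<|b (11 :type_of% (a _))<|b (11 :type_of% (a _))<|b (-1 :type_of% (a _))<|b (-1 :type_of% (a _))<|d));
 (let d:=(b (-20 :type_of% (a _))<|b (12 :type_of% (a _))<|b (-20 :type_of% (a _))<|b (-20 :type_of% (a _))<|b (12 :type_of% (a _))<|b (4 :type_of% (a _))<|b (0 :type_of% (a _))<|d);
 (c (177100 :type_of% (a _))<|c (-1204 :type_of% (a _))<|c (140 :type_of% (a _))<|c (44 :type_of% (a _))<|c (-20 :type_of% (a _))<|c (-29 :type_of% (a _))<|c (588 :type_of% (a _))<|d)))) :type_of% (k _))<|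
 m ((let d:=(let d:=(let d:=(b (2 :type_of% (a _))<|b (0 :type_of% (a _))<|b (0 :type_of% (a _))<|b (0 :type_of% (a _))<|b (1 :type_of% (a _))<|b (0 :type_of% (a _))<|b (0 :type_of% (a _))<|f);
 (b (-1 :type_of% (a _))<|b (0 :type_of% (a _))<|b (0 :type_of% (a _))<|b (-1 :type_of% (a _))<|b (-1 :type_of% (a _))<|b (0 :type_of% (a _))<|b (-1 :type_of% (a _))<|d));
 (let d:=(b (0 :type_of% (a _))<|b (0 :type_of% (a _))<|b (0 :type_of% (a _))<|b (0 :type_of% (a _))<|b (0 :type_of% (a _))<|b (0 :type_of% (a _))<|b (1 :type_of% (a _))<|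
 d);
 (b (0 :type_of% (a _))<|b (0 :type_of% (a _))<|b (-3 :type_of% (a _))<|b (1 :type_of% (a _))<|b (0 :type_of% (a _))<|b (0 :type_of% (a _))<|b (0 :type_of% (a _))<|d)));
 (let d:=(let d:=(b (1 :type_of% (a _))<|b (-3 :type_of% (a _))<|b (-3 :type_of% (a _))<|b (1 :type_of% (a _))<|b (1 :type_of% (a _))<|b (5 :type_of% (a _))<|b (1 :type_of% (a _))<|d);
 (b (-3 :type_of% (a _))<|b (0 :type_of% (a _))<|b (0 :type_of% (a _))<|b (0 :type_of% (a _))<|b (0 :type_of% (a _))<|b (0 :type_of% (a _))<|b (0 :type_of% (a _))<|d));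
 (let d:=(b (-3 :type_of% (a _))<|b (45 :type_of% (a _))<|b (21 :type_of% (a _))<|b (-3 :type_of% (a _))<|b (-3 :type_of% (a _))<|b (9 :type_of% (a _))<|b (12 :type_of% (a _))<|d);
 (c (184437 :type_of% (a _))<|c (2997 :type_of% (a _))<|c (405 :type_of% (a _))<|c (261 :type_of% (a _))<|c (0 :type_of% (a _))<|c (0 :type_of% (a _))<|c (-27 :type_of% (a _))<|d)))) :type_of% (k _))<|
 m ((let d:=(let d:=(let d:=(b (1 :type_of% (a _))<|b (0 :type_of% (a _))<|b (0 :type_of% (a _))<|b (-1 :type_of% (a _))<|b (0 :type_of% (a _))<|b (0 :type_of% (a _))<|b (-1 :type_of% (a _))<|f);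
 (b (0 :type_of% (a _))<|b (0 :type_of% (a _))<|b (1 :type_of% (a _))<|b (0 :type_of% (a _))<|b (0 :type_of% (a _))<|b (0 :type_of% (a _))<|b (0 :type_of% (a _))<|d));
 (let d:=(b (-1 :type_of% (a _))<|b (4 :type_of% (a _))<|b (-2 :type_of% (a _))<|
 b (-1 :type_of% (a _))<|b (2 :type_of% (a _))<|b (-1 :type_of% (a _))<|b (0 :type_of% (a _))<|d);
 (b (0 :type_of% (a _))<|b (-1 :type_of% (a _))<|b (0 :type_of% (a _))<|b (0 :type_of% (a _))<|b (0 :type_of% (a _))<|b (7 :type_of% (a _))<|b (2 :type_of% (a _))<|d)));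
 (let d:=(let d:=(b (0 :type_of% (a _))<|b (-4 :type_of% (a _))<|b (0 :type_of% (a _))<|b (0 :type_of% (a _))<|b (0 :type_of% (a _))<|b (-4 :type_of% (a _))<|b (0 :type_of% (a _))<|d);
 (b (0 :type_of% (a _))<|b (-1 :type_of% (a _))<|b (-9 :type_of% (a _))<|b (0 :type_of% (a _))<|b (0 :type_of% (a _))<|b (-4 :type_of% (a _))<|b (4 :type_of% (a _))<|d));
 (let d:=(b (-104 :type_of% (a _))<|b (-40 :type_of% (a _))<|b (8 :type_of% (a _))<|b (8 :type_of% (a _))<|b (8 :type_of% (a _))<|b (0 :type_of% (a _))<|b (-5 :type_of% (a _))<|d);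
 (c (212520 :type_of% (a _))<|c (-2520 :type_of% (a _))<|c (1064 :type_of% (a _))<|c (40 :type_of% (a _))<|c (111 :type_of% (a _))<|c (120 :type_of% (a _))<|c (-56 :type_of% (a _))<|d)))) :type_of% (k _))<|
 m ((let d:=(let d:=(let d:=(b (0 :type_of% (a _))<|b (0 :type_of% (a _))<|b (-1 :type_of% (a _))<|b (0 :type_of% (a _))<|b (0 :type_of% (a _))<|b (0 :type_of% (a _))<|b (0 :type_of% (a _))<|f);
 (b (0 :type_of% (a _))<|b (0 :type_of% (a _))<|b (0 :type_of% (a _))<|b (1 :type_of% (a _))<|b (1 :type_of% (a _))<|b (0 :type_of% (a _))<|b (0 :type_of% (a _))<|d));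
 (let d:=(b (0 :type_of% (a _))<|b (-1 :type_of% (a _))<|b (-1 :type_of% (a _))<|
 b (-4 :type_of% (a _))<|b (1 :type_of% (a _))<|b (0 :type_of% (a _))<|b (0 :type_of% (a _))<|d);
 (b (2 :type_of% (a _))<|b (0 :type_of% (a _))<|b (0 :type_of% (a _))<|b (0 :type_of% (a _))<|b (0 :type_of% (a _))<|b (-4 :type_of% (a _))<|b (3 :type_of% (a _))<|d)));
 (let d:=(let d:=(b (0 :type_of% (a _))<|b (-9 :type_of% (a _))<|b (-1 :type_of% (a _))<|b (3 :type_of% (a _))<|b (3 :type_of% (a _))<|b (-1 :type_of% (a _))<|b (-1 :type_of% (a _))<|d);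
 (b (0 :type_of% (a _))<|b (0 :type_of% (a _))<|b (0 :type_of% (a _))<|b (-15 :type_of% (a _))<|b (15 :type_of% (a _))<|b (3 :type_of% (a _))<|b (-3 :type_of% (a _))<|d));
 (let d:=(b (-25 :type_of% (a _))<|b (87 :type_of% (a _))<|b (-1 :type_of% (a _))<|b (7 :type_of% (a _))<|b (-9 :type_of% (a _))<|b (-5 :type_of% (a _))<|b (0 :type_of% (a _))<|d);
 (c (221375 :type_of% (a _))<|c (4095 :type_of% (a _))<|c (735 :type_of% (a _))<|c (15 :type_of% (a _))<|c (-160 :type_of% (a _))<|c (-25 :type_of% (a _))<|c (-49 :type_of% (a _))<|d)))) :type_of% (k _))<|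
 m ((let d:=(let d:=(let d:=(b (-1 :type_of% (a _))<|b (0 :type_of% (a _))<|b (0 :type_of% (a _))<|b (0 :type_of% (a _))<|b (0 :type_of% (a _))<|b (0 :type_of% (a _))<|b (1 :type_of% (a _))<|f);
 (b (0 :type_of% (a _))<|b (-2 :type_of% (a _))<|b (1 :type_of% (a _))<|b (0 :type_of% (a _))<|b (0 :type_of% (a _))<|b (1 :type_of% (a _))<|b (0 :type_of% (a _))<|d));
 (let d:=(b (4 :type_of% (a _))<|b (0 :type_of% (a _))<|b (-2 :type_of% (a _))<|b (0 :type_of% (a _))<|b (0 :type_of% (a _))<|b (0 :type_of% (a _))<|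
 b (0 :type_of% (a _))<|d);
 (b (-1 :type_of% (a _))<|b (1 :type_of% (a _))<|b (0 :type_of% (a _))<|b (-2 :type_of% (a _))<|b (0 :type_of% (a _))<|b (0 :type_of% (a _))<|b (-2 :type_of% (a _))<|d)));
 (let d:=(let d:=(b (0 :type_of% (a _))<|b (0 :type_of% (a _))<|b (0 :type_of% (a _))<|b (0 :type_of% (a _))<|b (0 :type_of% (a _))<|b (0 :type_of% (a _))<|b (0 :type_of% (a _))<|d);
 (b (-2 :type_of% (a _))<|b (-4 :type_of% (a _))<|b (-20 :type_of% (a _))<|b (10 :type_of% (a _))<|b (4 :type_of% (a _))<|b (-4 :type_of% (a _))<|b (2 :type_of% (a _))<|d));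
 (let d:=(b (64 :type_of% (a _))<|b (64 :type_of% (a _))<|b (0 :type_of% (a _))<|b (0 :type_of% (a _))<|b (0 :type_of% (a _))<|b (0 :type_of% (a _))<|b (13 :type_of% (a _))<|d);
 (c (226688 :type_of% (a _))<|c (4480 :type_of% (a _))<|c (896 :type_of% (a _))<|c (128 :type_of% (a _))<|c (-4 :type_of% (a _))<|c (68 :type_of% (a _))<|c (0 :type_of% (a _))<|d)))) :type_of% (k _))<|
 m ((let d:=(let d:=(let d:=(b (1 :type_of% (a _))<|b (0 :type_of% (a _))<|b (-1 :type_of% (a _))<|b (0 :type_of% (a _))<|b (-1 :type_of% (a _))<|b (1 :type_of% (a _))<|b (0 :type_of% (a _))<|f);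
 (b (-1 :type_of% (a _))<|b (1 :type_of% (a _))<|b (0 :type_of% (a _))<|b (0 :type_of% (a _))<|b (0 :type_of% (a _))<|b (0 :type_of% (a _))<|b (1 :type_of% (a _))<|d));
 (let d:=(b (0 :type_of% (a _))<|b (-3 :type_of% (a _))<|b (1 :type_of% (a _))<|b (0 :type_of% (a _))<|
 b (-1 :type_of% (a _))<|b (0 :type_of% (a _))<|b (-1 :type_of% (a _))<|d);
 (b (0 :type_of% (a _))<|b (3 :type_of% (a _))<|b (1 :type_of% (a _))<|b (1 :type_of% (a _))<|b (0 :type_of% (a _))<|b (0 :type_of% (a _))<|b (-3 :type_of% (a _))<|d)));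
 (let d:=(let d:=(b (-1 :type_of% (a _))<|b (0 :type_of% (a _))<|b (-4 :type_of% (a _))<|b (-4 :type_of% (a _))<|b (-4 :type_of% (a _))<|b (0 :type_of% (a _))<|b (0 :type_of% (a _))<|d);
 (b (1 :type_of% (a _))<|b (0 :type_of% (a _))<|b (0 :type_of% (a _))<|b (-9 :type_of% (a _))<|b (9 :type_of% (a _))<|b (-3 :type_of% (a _))<|b (3 :type_of% (a _))<|d));
 (let d:=(b (76 :type_of% (a _))<|b (12 :type_of% (a _))<|b (-36 :type_of% (a _))<|b (-4 :type_of% (a _))<|b (12 :type_of% (a _))<|b (-4 :type_of% (a _))<|b (-9 :type_of% (a _))<|d);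
 (c (245916 :type_of% (a _))<|c (3996 :type_of% (a _))<|c (1308 :type_of% (a _))<|c (156 :type_of% (a _))<|c (0 :type_of% (a _))<|c (81 :type_of% (a _))<|c (-36 :type_of% (a _))<|d)))) :type_of% (k _))<|
 m ((let d:=(let d:=(let d:=(b (0 :type_of% (a _))<|b (0 :type_of% (a _))<|b (0 :type_of% (a _))<|b (1 :type_of% (a _))<|b (-1 :type_of% (a _))<|b (0 :type_of% (a _))<|b (0 :type_of% (a _))<|f);
 (b (1 :type_of% (a _))<|b (0 :type_of% (a _))<|b (0 :type_of% (a _))<|b (0 :type_of% (a _))<|b (0 :type_of% (a _))<|b (-1 :type_of% (a _))<|b (0 :type_of% (a _))<|d));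
 (let d:=(b (3 :type_of% (a _))<|b (2 :type_of% (a _))<|b (-4 :type_of% (a _))<|b (1 :type_of% (a _))<|
 b (0 :type_of% (a _))<|b (-1 :type_of% (a _))<|b (-1 :type_of% (a _))<|d);
 (b (1 :type_of% (a _))<|b (0 :type_of% (a _))<|b (0 :type_of% (a _))<|b (0 :type_of% (a _))<|b (0 :type_of% (a _))<|b (5 :type_of% (a _))<|b (0 :type_of% (a _))<|d)));
 (let d:=(let d:=(b (-1 :type_of% (a _))<|b (4 :type_of% (a _))<|b (0 :type_of% (a _))<|b (0 :type_of% (a _))<|b (0 :type_of% (a _))<|b (4 :type_of% (a _))<|b (0 :type_of% (a _))<|d);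
 (b (0 :type_of% (a _))<|b (-5 :type_of% (a _))<|b (23 :type_of% (a _))<|b (-10 :type_of% (a _))<|b (2 :type_of% (a _))<|b (-2 :type_of% (a _))<|b (2 :type_of% (a _))<|d));
 (let d:=(b (-40 :type_of% (a _))<|b (24 :type_of% (a _))<|b (40 :type_of% (a _))<|b (-24 :type_of% (a _))<|b (8 :type_of% (a _))<|b (0 :type_of% (a _))<|b (0 :type_of% (a _))<|d);
 (c (253000 :type_of% (a _))<|c (2120 :type_of% (a _))<|c (-440 :type_of% (a _))<|c (200 :type_of% (a _))<|c (-125 :type_of% (a _))<|c (10 :type_of% (a _))<|c (104 :type_of% (a _))<|d)))) :type_of% (k _))<|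
 d);
 (m ((let d:=(let d:=(let d:=(b (-1 :type_of% (a _))<|b (0 :type_of% (a _))<|b (1 :type_of% (a _))<|b (1 :type_of% (a _))<|b (0 :type_of% (a _))<|b (0 :type_of% (a _))<|b (0 :type_of% (a _))<|f);
 (b (0 :type_of% (a _))<|b (0 :type_of% (a _))<|b (0 :type_of% (a _))<|b (0 :type_of% (a _))<|b (0 :type_of% (a _))<|b (0 :type_of% (a _))<|b (-1 :type_of% (a _))<|d));
 (let d:=(b (1 :type_of% (a _))<|b (-3 :type_of% (a _))<|b (1 :type_of% (a _))<|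
 b (-1 :type_of% (a _))<|b (1 :type_of% (a _))<|b (1 :type_of% (a _))<|b (0 :type_of% (a _))<|d);
 (b (0 :type_of% (a _))<|b (3 :type_of% (a _))<|b (-3 :type_of% (a _))<|b (-1 :type_of% (a _))<|b (0 :type_of% (a _))<|b (3 :type_of% (a _))<|b (1 :type_of% (a _))<|d)));
 (let d:=(let d:=(b (0 :type_of% (a _))<|b (-2 :type_of% (a _))<|b (-2 :type_of% (a _))<|b (2 :type_of% (a _))<|b (-6 :type_of% (a _))<|b (-2 :type_of% (a _))<|b (2 :type_of% (a _))<|d);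
 (b (3 :type_of% (a _))<|b (5 :type_of% (a _))<|b (9 :type_of% (a _))<|b (-15 :type_of% (a _))<|b (-3 :type_of% (a _))<|b (5 :type_of% (a _))<|b (1 :type_of% (a _))<|d));
 (let d:=(b (-26 :type_of% (a _))<|b (-26 :type_of% (a _))<|b (-10 :type_of% (a _))<|b (-2 :type_of% (a _))<|b (22 :type_of% (a _))<|b (-6 :type_of% (a _))<|b (3 :type_of% (a _))<|d);
 (c (31878 :type_of% (a _))<|c (-378 :type_of% (a _))<|c (518 :type_of% (a _))<|c (-26 :type_of% (a _))<|c (45 :type_of% (a _))<|c (45 :type_of% (a _))<|c (-42 :type_of% (a _))<|d)))) :type_of% (k _))<|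
 m ((let d:=(let d:=(let d:=(b (1 :type_of% (a _))<|b (1 :type_of% (a _))<|b (1 :type_of% (a _))<|b (0 :type_of% (a _))<|b (0 :type_of% (a _))<|b (-1 :type_of% (a _))<|b (0 :type_of% (a _))<|f);
 (b (0 :type_of% (a _))<|b (1 :type_of% (a _))<|b (0 :type_of% (a _))<|b (0 :type_of% (a _))<|b (0 :type_of% (a _))<|b (0 :type_of% (a _))<|b (-1 :type_of% (a _))<|d));
 (let d:=(b (0 :type_of% (a _))<|b (-3 :type_of% (a _))<|b (-1 :type_of% (a _))<|b (0 :type_of% (a _))<|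
 b (-1 :type_of% (a _))<|b (0 :type_of% (a _))<|b (0 :type_of% (a _))<|d);
 (b (0 :type_of% (a _))<|b (-3 :type_of% (a _))<|b (-1 :type_of% (a _))<|b (-1 :type_of% (a _))<|b (0 :type_of% (a _))<|b (0 :type_of% (a _))<|b (3 :type_of% (a _))<|d)));
 (let d:=(let d:=(b (0 :type_of% (a _))<|b (6 :type_of% (a _))<|b (-2 :type_of% (a _))<|b (2 :type_of% (a _))<|b (2 :type_of% (a _))<|b (-2 :type_of% (a _))<|b (-2 :type_of% (a _))<|d);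
 (b (7 :type_of% (a _))<|b (0 :type_of% (a _))<|b (0 :type_of% (a _))<|b (9 :type_of% (a _))<|b (9 :type_of% (a _))<|b (-3 :type_of% (a _))<|b (-3 :type_of% (a _))<|d));
 (let d:=(b (86 :type_of% (a _))<|b (6 :type_of% (a _))<|b (-18 :type_of% (a _))<|b (-10 :type_of% (a _))<|b (6 :type_of% (a _))<|b (-6 :type_of% (a _))<|b (-3 :type_of% (a _))<|d);
 (c (37422 :type_of% (a _))<|c (1134 :type_of% (a _))<|c (462 :type_of% (a _))<|c (-66 :type_of% (a _))<|c (0 :type_of% (a _))<|c (81 :type_of% (a _))<|c (126 :type_of% (a _))<|d)))) :type_of% (k _))<|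
 m ((let d:=(let d:=(let d:=(b (0 :type_of% (a _))<|b (0 :type_of% (a _))<|b (0 :type_of% (a _))<|b (1 :type_of% (a _))<|b (0 :type_of% (a _))<|b (1 :type_of% (a _))<|b (0 :type_of% (a _))<|f);
 (b (0 :type_of% (a _))<|b (-1 :type_of% (a _))<|b (0 :type_of% (a _))<|b (1 :type_of% (a _))<|b (1 :type_of% (a _))<|b (0 :type_of% (a _))<|b (-1 :type_of% (a _))<|d));
 (let d:=(b (-1 :type_of% (a _))<|b (2 :type_of% (a _))<|b (2 :type_of% (a _))<|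
 b (-1 :type_of% (a _))<|b (-2 :type_of% (a _))<|b (-1 :type_of% (a _))<|b (0 :type_of% (a _))<|d);
 (b (-2 :type_of% (a _))<|b (0 :type_of% (a _))<|b (1 :type_of% (a _))<|b (1 :type_of% (a _))<|b (0 :type_of% (a _))<|b (-1 :type_of% (a _))<|b (2 :type_of% (a _))<|d)));
 (let d:=(let d:=(b (0 :type_of% (a _))<|b (-5 :type_of% (a _))<|b (3 :type_of% (a _))<|b (-1 :type_of% (a _))<|b (-1 :type_of% (a _))<|b (3 :type_of% (a _))<|b (-1 :type_of% (a _))<|d);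
 (b (5 :type_of% (a _))<|b (-5 :type_of% (a _))<|b (3 :type_of% (a _))<|b (6 :type_of% (a _))<|b (-18 :type_of% (a _))<|b (-2 :type_of% (a _))<|b (-2 :type_of% (a _))<|d));
 (let d:=(b (-85 :type_of% (a _))<|b (59 :type_of% (a _))<|b (-13 :type_of% (a _))<|b (-5 :type_of% (a _))<|b (11 :type_of% (a _))<|b (-1 :type_of% (a _))<|b (0 :type_of% (a _))<|d);
 (c (44275 :type_of% (a _))<|c (-1869 :type_of% (a _))<|c (595 :type_of% (a _))<|c (-29 :type_of% (a _))<|c (-5 :type_of% (a _))<|c (94 :type_of% (a _))<|c (35 :type_of% (a _))<|d)))) :type_of% (k _))<|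
 m ((let d:=(let d:=(let d:=(b (0 :type_of% (a _))<|b (0 :type_of% (a _))<|b (0 :type_of% (a _))<|b (-1 :type_of% (a _))<|b (0 :type_of% (a _))<|b (0 :type_of% (a _))<|b (0 :type_of% (a _))<|f);
 (b (0 :type_of% (a _))<|b (0 :type_of% (a _))<|b (0 :type_of% (a _))<|b (0 :type_of% (a _))<|b (0 :type_of% (a _))<|b (1 :type_of% (a _))<|b (0 :type_of% (a _))<|d));
 (let d:=(b (-1 :type_of% (a _))<|b (4 :type_of% (a _))<|b (0 :type_of% (a _))<|b (-1 :type_of% (a _))<|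
 b (-2 :type_of% (a _))<|b (-1 :type_of% (a _))<|b (2 :type_of% (a _))<|d);
 (b (1 :type_of% (a _))<|b (0 :type_of% (a _))<|b (0 :type_of% (a _))<|b (0 :type_of% (a _))<|b (0 :type_of% (a _))<|b (7 :type_of% (a _))<|b (-4 :type_of% (a _))<|d)));
 (let d:=(let d:=(b (-2 :type_of% (a _))<|b (2 :type_of% (a _))<|b (-6 :type_of% (a _))<|b (6 :type_of% (a _))<|b (-2 :type_of% (a _))<|b (2 :type_of% (a _))<|b (2 :type_of% (a _))<|d);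
 (b (0 :type_of% (a _))<|b (15 :type_of% (a _))<|b (7 :type_of% (a _))<|b (10 :type_of% (a _))<|b (4 :type_of% (a _))<|b (0 :type_of% (a _))<|b (-2 :type_of% (a _))<|d));
 (let d:=(b (-30 :type_of% (a _))<|b (2 :type_of% (a _))<|b (2 :type_of% (a _))<|b (10 :type_of% (a _))<|b (2 :type_of% (a _))<|b (-10 :type_of% (a _))<|b (0 :type_of% (a _))<|d);
 (c (63250 :type_of% (a _))<|c (-110 :type_of% (a _))<|c (210 :type_of% (a _))<|c (-110 :type_of% (a _))<|c (-65 :type_of% (a _))<|c (-20 :type_of% (a _))<|c (322 :type_of% (a _))<|d)))) :type_of% (k _))<|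
 m ((let d:=(let d:=(let d:=(b (0 :type_of% (a _))<|b (0 :type_of% (a _))<|b (-1 :type_of% (a _))<|b (1 :type_of% (a _))<|b (-2 :type_of% (a _))<|b (-1 :type_of% (a _))<|b (0 :type_of% (a _))<|f);
 (b (0 :type_of% (a _))<|b (1 :type_of% (a _))<|b (0 :type_of% (a _))<|b (0 :type_of% (a _))<|b (0 :type_of% (a _))<|b (0 :type_of% (a _))<|b (1 :type_of% (a _))<|d));
 (let d:=(b (1 :type_of% (a _))<|b (3 :type_of% (a _))<|b (1 :type_of% (a _))<|b (-1 :type_of% (a _))<|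
 b (-1 :type_of% (a _))<|b (1 :type_of% (a _))<|b (2 :type_of% (a _))<|d);
 (b (0 :type_of% (a _))<|b (0 :type_of% (a _))<|b (-1 :type_of% (a _))<|b (-1 :type_of% (a _))<|b (0 :type_of% (a _))<|b (3 :type_of% (a _))<|b (1 :type_of% (a _))<|d)));
 (let d:=(let d:=(b (2 :type_of% (a _))<|b (-2 :type_of% (a _))<|b (2 :type_of% (a _))<|b (6 :type_of% (a _))<|b (-2 :type_of% (a _))<|b (-2 :type_of% (a _))<|b (-2 :type_of% (a _))<|d);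
 (b (-5 :type_of% (a _))<|b (5 :type_of% (a _))<|b (9 :type_of% (a _))<|b (9 :type_of% (a _))<|b (-9 :type_of% (a _))<|b (-1 :type_of% (a _))<|b (1 :type_of% (a _))<|d));
 (let d:=(b (10 :type_of% (a _))<|b (10 :type_of% (a _))<|b (-22 :type_of% (a _))<|b (2 :type_of% (a _))<|b (10 :type_of% (a _))<|b (6 :type_of% (a _))<|b (0 :type_of% (a _))<|d);
 (c (113850 :type_of% (a _))<|c (954 :type_of% (a _))<|c (-70 :type_of% (a _))<|c (154 :type_of% (a _))<|c (45 :type_of% (a _))<|c (-9 :type_of% (a _))<|c (138 :type_of% (a _))<|d)))) :type_of% (k _))<|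
 m ((let d:=(let d:=(let d:=(b (0 :type_of% (a _))<|b (0 :type_of% (a _))<|b (0 :type_of% (a _))<|b (0 :type_of% (a _))<|b (1 :type_of% (a _))<|b (-1 :type_of% (a _))<|b (1 :type_of% (a _))<|f);
 (b (-1 :type_of% (a _))<|b (-1 :type_of% (a _))<|b (1 :type_of% (a _))<|b (0 :type_of% (a _))<|b (0 :type_of% (a _))<|b (-1 :type_of% (a _))<|b (0 :type_of% (a _))<|d));
 (let d:=(b (0 :type_of% (a _))<|b (-4 :type_of% (a _))<|b (0 :type_of% (a _))<|b (0 :type_of% (a _))<|b (0 :type_of% (a _))<|b (0 :type_of% (a _))<|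
 b (1 :type_of% (a _))<|d);
 (b (-1 :type_of% (a _))<|b (-2 :type_of% (a _))<|b (2 :type_of% (a _))<|b (0 :type_of% (a _))<|b (0 :type_of% (a _))<|b (8 :type_of% (a _))<|b (0 :type_of% (a _))<|d)));
 (let d:=(let d:=(b (1 :type_of% (a _))<|b (0 :type_of% (a _))<|b (0 :type_of% (a _))<|b (0 :type_of% (a _))<|b (0 :type_of% (a _))<|b (0 :type_of% (a _))<|b (0 :type_of% (a _))<|d);
 (b (-4 :type_of% (a _))<|b (16 :type_of% (a _))<|b (8 :type_of% (a _))<|b (-16 :type_of% (a _))<|b (-4 :type_of% (a _))<|b (4 :type_of% (a _))<|b (0 :type_of% (a _))<|d));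
 (let d:=(b (0 :type_of% (a _))<|b (0 :type_of% (a _))<|b (0 :type_of% (a _))<|b (0 :type_of% (a _))<|b (0 :type_of% (a _))<|b (0 :type_of% (a _))<|b (-14 :type_of% (a _))<|d);
 (c (129536 :type_of% (a _))<|c (512 :type_of% (a _))<|c (-512 :type_of% (a _))<|c (0 :type_of% (a _))<|c (-64 :type_of% (a _))<|c (44 :type_of% (a _))<|c (512 :type_of% (a _))<|d)))) :type_of% (k _))<|
 d));
 (let d:=(m ((let d:=(let d:=(let d:=(b (0 :type_of% (a _))<|b (0 :type_of% (a _))<|b (0 :type_of% (a _))<|b (-1 :type_of% (a _))<|b (0 :type_of% (a _))<|b (1 :type_of% (a _))<|b (1 :type_of% (a _))<|f);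
 (b (0 :type_of% (a _))<|b (1 :type_of% (a _))<|b (-1 :type_of% (a _))<|b (-1 :type_of% (a _))<|b (-1 :type_of% (a _))<|b (0 :type_of% (a _))<|b (1 :type_of% (a _))<|d));
 (let d:=(b (1 :type_of% (a _))<|b (0 :type_of% (a _))<|b (-2 :type_of% (a _))<|b (-1 :type_of% (a _))<|b (0 :type_of% (a _))<|
 b (1 :type_of% (a _))<|b (-2 :type_of% (a _))<|d);
 (b (0 :type_of% (a _))<|b (-2 :type_of% (a _))<|b (1 :type_of% (a _))<|b (-1 :type_of% (a _))<|b (0 :type_of% (a _))<|b (3 :type_of% (a _))<|b (-2 :type_of% (a _))<|d)));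
 (let d:=(let d:=(b (2 :type_of% (a _))<|b (-7 :type_of% (a _))<|b (-3 :type_of% (a _))<|b (1 :type_of% (a _))<|b (1 :type_of% (a _))<|b (1 :type_of% (a _))<|b (1 :type_of% (a _))<|d);
 (b (7 :type_of% (a _))<|b (1 :type_of% (a _))<|b (-3 :type_of% (a _))<|b (6 :type_of% (a _))<|b (-12 :type_of% (a _))<|b (4 :type_of% (a _))<|b (-2 :type_of% (a _))<|d));
 (let d:=(b (-35 :type_of% (a _))<|b (13 :type_of% (a _))<|b (5 :type_of% (a _))<|b (-3 :type_of% (a _))<|b (13 :type_of% (a _))<|b (1 :type_of% (a _))<|b (2 :type_of% (a _))<|d);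
 (c (2277 :type_of% (a _))<|c (-219 :type_of% (a _))<|c (133 :type_of% (a _))<|c (-11 :type_of% (a _))<|c (9 :type_of% (a _))<|c (36 :type_of% (a _))<|c (21 :type_of% (a _))<|d)))) :type_of% (k _))<|
 m ((let d:=(let d:=(let d:=(b (0 :type_of% (a _))<|b (0 :type_of% (a _))<|b (1 :type_of% (a _))<|b (1 :type_of% (a _))<|b (0 :type_of% (a _))<|b (-1 :type_of% (a _))<|b (0 :type_of% (a _))<|f);
 (b (0 :type_of% (a _))<|b (-1 :type_of% (a _))<|b (0 :type_of% (a _))<|b (1 :type_of% (a _))<|b (-1 :type_of% (a _))<|b (0 :type_of% (a _))<|b (1 :type_of% (a _))<|d));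
 (let d:=(b (-1 :type_of% (a _))<|b (-3 :type_of% (a _))<|b (1 :type_of% (a _))<|b (1 :type_of% (a _))<|b (1 :type_of% (a _))<|
 b (-1 :type_of% (a _))<|b (0 :type_of% (a _))<|d);
 (b (2 :type_of% (a _))<|b (0 :type_of% (a _))<|b (-1 :type_of% (a _))<|b (1 :type_of% (a _))<|b (-1 :type_of% (a _))<|b (-3 :type_of% (a _))<|b (-7 :type_of% (a _))<|d)));
 (let d:=(let d:=(b (0 :type_of% (a _))<|b (-5 :type_of% (a _))<|b (1 :type_of% (a _))<|b (1 :type_of% (a _))<|b (5 :type_of% (a _))<|b (-1 :type_of% (a _))<|b (-1 :type_of% (a _))<|d);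
 (b (5 :type_of% (a _))<|b (15 :type_of% (a _))<|b (3 :type_of% (a _))<|b (9 :type_of% (a _))<|b (-3 :type_of% (a _))<|b (-3 :type_of% (a _))<|b (1 :type_of% (a _))<|d));
 (let d:=(b (-35 :type_of% (a _))<|b (5 :type_of% (a _))<|b (1 :type_of% (a _))<|b (1 :type_of% (a _))<|b (5 :type_of% (a _))<|b (1 :type_of% (a _))<|b (0 :type_of% (a _))<|d);
 (c (4025 :type_of% (a _))<|c (-231 :type_of% (a _))<|c (105 :type_of% (a _))<|c (1 :type_of% (a _))<|c (-25 :type_of% (a _))<|c (29 :type_of% (a _))<|c (105 :type_of% (a _))<|d)))) :type_of% (k _))<|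
 m ((let d:=(let d:=(let d:=(b (1 :type_of% (a _))<|b (0 :type_of% (a _))<|b (1 :type_of% (a _))<|b (0 :type_of% (a _))<|b (0 :type_of% (a _))<|b (1 :type_of% (a _))<|b (-2 :type_of% (a _))<|f);
 (b (0 :type_of% (a _))<|b (-1 :type_of% (a _))<|b (0 :type_of% (a _))<|b (0 :type_of% (a _))<|b (0 :type_of% (a _))<|b (0 :type_of% (a _))<|b (1 :type_of% (a _))<|d));
 (let d:=(b (2 :type_of% (a _))<|b (-1 :type_of% (a _))<|b (-1 :type_of% (a _))<|b (0 :type_of% (a _))<|b (-1 :type_of% (a _))<|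
 b (2 :type_of% (a _))<|b (0 :type_of% (a _))<|d);
 (b (-2 :type_of% (a _))<|b (1 :type_of% (a _))<|b (1 :type_of% (a _))<|b (-1 :type_of% (a _))<|b (0 :type_of% (a _))<|b (-4 :type_of% (a _))<|b (-1 :type_of% (a _))<|d)));
 (let d:=(let d:=(b (0 :type_of% (a _))<|b (0 :type_of% (a _))<|b (4 :type_of% (a _))<|b (4 :type_of% (a _))<|b (4 :type_of% (a _))<|b (0 :type_of% (a _))<|b (0 :type_of% (a _))<|d);
 (b (-1 :type_of% (a _))<|b (18 :type_of% (a _))<|b (6 :type_of% (a _))<|b (-9 :type_of% (a _))<|b (3 :type_of% (a _))<|b (3 :type_of% (a _))<|b (-1 :type_of% (a _))<|d));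
 (let d:=(b (-4 :type_of% (a _))<|b (-4 :type_of% (a _))<|b (12 :type_of% (a _))<|b (-4 :type_of% (a _))<|b (-4 :type_of% (a _))<|b (-4 :type_of% (a _))<|b (9 :type_of% (a _))<|d);
 (c (7084 :type_of% (a _))<|c (-84 :type_of% (a _))<|c (-84 :type_of% (a _))<|c (44 :type_of% (a _))<|c (10 :type_of% (a _))<|c (19 :type_of% (a _))<|c (140 :type_of% (a _))<|d)))) :type_of% (k _))<|
 m ((let d:=(let d:=(let d:=(b (0 :type_of% (a _))<|b (0 :type_of% (a _))<|b (-1 :type_of% (a _))<|b (0 :type_of% (a _))<|b (1 :type_of% (a _))<|b (-1 :type_of% (a _))<|b (0 :type_of% (a _))<|f);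
 (b (1 :type_of% (a _))<|b (-1 :type_of% (a _))<|b (0 :type_of% (a _))<|b (0 :type_of% (a _))<|b (0 :type_of% (a _))<|b (-1 :type_of% (a _))<|b (1 :type_of% (a _))<|d));
 (let d:=(b (-4 :type_of% (a _))<|b (3 :type_of% (a _))<|b (-1 :type_of% (a _))<|b (-2 :type_of% (a _))<|
 b (-1 :type_of% (a _))<|b (0 :type_of% (a _))<|b (1 :type_of% (a _))<|d);
 (b (-1 :type_of% (a _))<|b (0 :type_of% (a _))<|b (-1 :type_of% (a _))<|b (1 :type_of% (a _))<|b (0 :type_of% (a _))<|b (-6 :type_of% (a _))<|b (-1 :type_of% (a _))<|d)));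
 (let d:=(let d:=(b (1 :type_of% (a _))<|b (6 :type_of% (a _))<|b (2 :type_of% (a _))<|b (-2 :type_of% (a _))<|b (-2 :type_of% (a _))<|b (-2 :type_of% (a _))<|b (2 :type_of% (a _))<|d);
 (b (5 :type_of% (a _))<|b (0 :type_of% (a _))<|b (-4 :type_of% (a _))<|b (-1 :type_of% (a _))<|b (11 :type_of% (a _))<|b (3 :type_of% (a _))<|b (-1 :type_of% (a _))<|d));
 (let d:=(b (50 :type_of% (a _))<|b (2 :type_of% (a _))<|b (10 :type_of% (a _))<|b (2 :type_of% (a _))<|b (18 :type_of% (a _))<|b (6 :type_of% (a _))<|b (0 :type_of% (a _))<|d);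
 (c (12650 :type_of% (a _))<|c (554 :type_of% (a _))<|c (330 :type_of% (a _))<|c (26 :type_of% (a _))<|c (-40 :type_of% (a _))<|c (59 :type_of% (a _))<|c (-6 :type_of% (a _))<|d)))) :type_of% (k _))<|
 m ((let d:=(let d:=(let d:=(b (0 :type_of% (a _))<|b (0 :type_of% (a _))<|b (-1 :type_of% (a _))<|b (0 :type_of% (a _))<|b (2 :type_of% (a _))<|b (0 :type_of% (a _))<|b (0 :type_of% (a _))<|f);
 (b (0 :type_of% (a _))<|b (0 :type_of% (a _))<|b (0 :type_of% (a _))<|b (0 :type_of% (a _))<|b (0 :type_of% (a _))<|b (0 :type_of% (a _))<|b (0 :type_of% (a _))<|d));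
 (let d:=(b (2 :type_of% (a _))<|b (1 :type_of% (a _))<|b (1 :type_of% (a _))<|b (0 :type_of% (a _))<|b (-1 :type_of% (a _))<|b (2 :type_of% (a _))<|b (-2 :type_of% (a _))<|
 d);
 (b (2 :type_of% (a _))<|b (0 :type_of% (a _))<|b (0 :type_of% (a _))<|b (0 :type_of% (a _))<|b (-1 :type_of% (a _))<|b (4 :type_of% (a _))<|b (5 :type_of% (a _))<|d)));
 (let d:=(let d:=(b (-2 :type_of% (a _))<|b (0 :type_of% (a _))<|b (8 :type_of% (a _))<|b (0 :type_of% (a _))<|b (0 :type_of% (a _))<|b (0 :type_of% (a _))<|b (0 :type_of% (a _))<|d);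
 (b (0 :type_of% (a _))<|b (10 :type_of% (a _))<|b (6 :type_of% (a _))<|b (15 :type_of% (a _))<|b (-3 :type_of% (a _))<|b (1 :type_of% (a _))<|b (3 :type_of% (a _))<|d));
 (let d:=(b (40 :type_of% (a _))<|b (8 :type_of% (a _))<|b (24 :type_of% (a _))<|b (8 :type_of% (a _))<|b (8 :type_of% (a _))<|b (0 :type_of% (a _))<|b (0 :type_of% (a _))<|d);
 (c (23000 :type_of% (a _))<|c (600 :type_of% (a _))<|c (280 :type_of% (a _))<|c (120 :type_of% (a _))<|c (50 :type_of% (a _))<|c (5 :type_of% (a _))<|c (184 :type_of% (a _))<|d)))) :type_of% (k _))<|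
 m ((let d:=(let d:=(let d:=(b (0 :type_of% (a _))<|b (0 :type_of% (a _))<|b (1 :type_of% (a _))<|b (-1 :type_of% (a _))<|b (-1 :type_of% (a _))<|b (0 :type_of% (a _))<|b (0 :type_of% (a _))<|f);
 (b (1 :type_of% (a _))<|b (0 :type_of% (a _))<|b (0 :type_of% (a _))<|b (-1 :type_of% (a _))<|b (1 :type_of% (a _))<|b (-1 :type_of% (a _))<|b (0 :type_of% (a _))<|d));
 (let d:=(b (-1 :type_of% (a _))<|b (-1 :type_of% (a _))<|b (3 :type_of% (a _))<|b (1 :type_of% (a _))<|b (1 :type_of% (a _))<|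
 b (-1 :type_of% (a _))<|b (-1 :type_of% (a _))<|d);
 (b (-1 :type_of% (a _))<|b (0 :type_of% (a _))<|b (0 :type_of% (a _))<|b (0 :type_of% (a _))<|b (0 :type_of% (a _))<|b (5 :type_of% (a _))<|b (-1 :type_of% (a _))<|d)));
 (let d:=(let d:=(b (-1 :type_of% (a _))<|b (-1 :type_of% (a _))<|b (1 :type_of% (a _))<|b (5 :type_of% (a _))<|b (1 :type_of% (a _))<|b (3 :type_of% (a _))<|b (-1 :type_of% (a _))<|d);
 (b (0 :type_of% (a _))<|b (-5 :type_of% (a _))<|b (-1 :type_of% (a _))<|b (5 :type_of% (a _))<|b (11 :type_of% (a _))<|b (7 :type_of% (a _))<|b (1 :type_of% (a _))<|d));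
 (let d:=(b (45 :type_of% (a _))<|b (53 :type_of% (a _))<|b (1 :type_of% (a _))<|b (25 :type_of% (a _))<|b (5 :type_of% (a _))<|b (5 :type_of% (a _))<|b (0 :type_of% (a _))<|d);
 (c (31625 :type_of% (a _))<|c (1385 :type_of% (a _))<|c (505 :type_of% (a _))<|c (145 :type_of% (a _))<|c (35 :type_of% (a _))<|c (35 :type_of% (a _))<|c (41 :type_of% (a _))<|d)))) :type_of% (k _))<|
 m ((let d:=(let d:=(let d:=(b (0 :type_of% (a _))<|b (0 :type_of% (a _))<|b (-1 :type_of% (a _))<|b (1 :type_of% (a _))<|b (-1 :type_of% (a _))<|b (0 :type_of% (a _))<|b (0 :type_of% (a _))<|f);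
 (b (1 :type_of% (a _))<|b (0 :type_of% (a _))<|b (0 :type_of% (a _))<|b (-1 :type_of% (a _))<|b (-1 :type_of% (a _))<|b (1 :type_of% (a _))<|b (0 :type_of% (a _))<|d));
 (let d:=(b (-1 :type_of% (a _))<|b (-1 :type_of% (a _))<|b (1 :type_of% (a _))<|b (-1 :type_of% (a _))<|
 b (1 :type_of% (a _))<|b (-1 :type_of% (a _))<|b (-1 :type_of% (a _))<|d);
 (b (-1 :type_of% (a _))<|b (0 :type_of% (a _))<|b (0 :type_of% (a _))<|b (0 :type_of% (a _))<|b (0 :type_of% (a _))<|b (-1 :type_of% (a _))<|b (5 :type_of% (a _))<|d)));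
 (let d:=(let d:=(b (-1 :type_of% (a _))<|b (1 :type_of% (a _))<|b (-7 :type_of% (a _))<|b (-3 :type_of% (a _))<|b (5 :type_of% (a _))<|b (1 :type_of% (a _))<|b (1 :type_of% (a _))<|d);
 (b (0 :type_of% (a _))<|b (35 :type_of% (a _))<|b (-5 :type_of% (a _))<|b (-5 :type_of% (a _))<|b (-5 :type_of% (a _))<|b (-1 :type_of% (a _))<|b (-1 :type_of% (a _))<|d));
 (let d:=(b (25 :type_of% (a _))<|b (-7 :type_of% (a _))<|b (-7 :type_of% (a _))<|b (1 :type_of% (a _))<|b (-7 :type_of% (a _))<|b (5 :type_of% (a _))<|b (0 :type_of% (a _))<|d);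
 (c (31625 :type_of% (a _))<|c (265 :type_of% (a _))<|c (-55 :type_of% (a _))<|c (-55 :type_of% (a _))<|c (35 :type_of% (a _))<|c (35 :type_of% (a _))<|c (377 :type_of% (a _))<|d)))) :type_of% (k _))<|
 d);
 (c ((let d:=(let d:=(let d:=(b (1 :type_of% (a _))<|
 b (1 :type_of% (a _))<|b (1 :type_of% (a _))<|b (1 :type_of% (a _))<|b (1 :type_of% (a _))<|b (1 :type_of% (a _))<|b (1 :type_of% (a _))<|f);
 (b (1 :type_of% (a _))<|b (1 :type_of% (a _))<|b (1 :type_of% (a _))<|b (1 :type_of% (a _))<|b (1 :type_of% (a _))<|b (1 :type_of% (a _))<|b (1 :type_of% (a _))<|d));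
 (let d:=(b (1 :type_of% (a _))<|b (1 :type_of% (a _))<|b (1 :type_of% (a _))<|b (1 :type_of% (a _))<|b (1 :type_of% (a _))<|b (1 :type_of% (a _))<|b (1 :type_of% (a _))<|d);
 (b (1 :type_of% (a _))<|b (1 :type_of% (a _))<|b (1 :type_of% (a _))<|b (1 :type_of% (a _))<|b (1 :type_of% (a _))<|b (1 :type_of% (a _))<|b (1 :type_of% (a _))<|d)));
 (let d:=(let d:=(b (1 :type_of% (a _))<|b (1 :type_of% (a _))<|b (1 :type_of% (a _))<|b (1 :type_of% (a _))<|b (1 :type_of% (a _))<|b (1 :type_of% (a _))<|b (1 :type_of% (a _))<|d);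
 (b (1 :type_of% (a _))<|b (1 :type_of% (a _))<|b (1 :type_of% (a _))<|b (1 :type_of% (a _))<|b (1 :type_of% (a _))<|b (1 :type_of% (a _))<|b (1 :type_of% (a _))<|d));
 (let d:=(b (1 :type_of% (a _))<|b (1 :type_of% (a _))<|b (1 :type_of% (a _))<|b (1 :type_of% (a _))<|b (1 :type_of% (a _))<|b (1 :type_of% (a _))<|b (1 :type_of% (a _))<|d);
 (c (1 :type_of% (a _))<|c (1 :type_of% (a _))<|c (1 :type_of% (a _))<|c (1 :type_of% (a _))<|c (1 :type_of% (a _))<|c (1 :type_of% (a _))<|c (1 :type_of% (a _))<|d)))) :type_of% (k _))<|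
 c ((let d:=(let d:=(let d:=(b (0 :type_of% (a _))<|b (0 :type_of% (a _))<|b (-1 :type_of% (a _))<|b (0 :type_of% (a _))<|b (0 :type_of% (a _))<|b (-2 :type_of% (a _))<|b (-1 :type_of% (a _))<|f);
 (b (0 :type_of% (a _))<|
 b (0 :type_of% (a _))<|b (1 :type_of% (a _))<|b (-1 :type_of% (a _))<|b (1 :type_of% (a _))<|b (0 :type_of% (a _))<|b (-1 :type_of% (a _))<|d));
 (let d:=(b (0 :type_of% (a _))<|b (1 :type_of% (a _))<|b (1 :type_of% (a _))<|b (2 :type_of% (a _))<|b (-1 :type_of% (a _))<|b (0 :type_of% (a _))<|b (-2 :type_of% (a _))<|d);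
 (b (2 :type_of% (a _))<|b (2 :type_of% (a _))<|b (1 :type_of% (a _))<|b (-1 :type_of% (a _))<|b (1 :type_of% (a _))<|b (-2 :type_of% (a _))<|b (-3 :type_of% (a _))<|d)));
 (let d:=(let d:=(b (2 :type_of% (a _))<|b (-3 :type_of% (a _))<|b (-1 :type_of% (a _))<|b (-1 :type_of% (a _))<|b (3 :type_of% (a _))<|b (1 :type_of% (a _))<|b (1 :type_of% (a _))<|d);
 (b (3 :type_of% (a _))<|b (4 :type_of% (a _))<|b (0 :type_of% (a _))<|b (3 :type_of% (a _))<|b (-3 :type_of% (a _))<|b (1 :type_of% (a _))<|b (-1 :type_of% (a _))<|d));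
 (let d:=(b (-5 :type_of% (a _))<|b (3 :type_of% (a _))<|b (-1 :type_of% (a _))<|b (-1 :type_of% (a _))<|b (3 :type_of% (a _))<|b (-1 :type_of% (a _))<|b (-2 :type_of% (a _))<|d);
 (c (23 :type_of% (a _))<|c (-9 :type_of% (a _))<|c (7 :type_of% (a _))<|c (-1 :type_of% (a _))<|c (-4 :type_of% (a _))<|c (5 :type_of% (a _))<|c (7 :type_of% (a _))<|d)))) :type_of% (k _))<|
 c ((let d:=(let d:=(let d:=(b (-1 :type_of% (a _))<|b (0 :type_of% (a _))<|b (0 :type_of% (a _))<|b (0 :type_of% (a _))<|b (1 :type_of% (a _))<|b (2 :type_of% (a _))<|b (0 :type_of% (a _))<|f);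
 (b (-1 :type_of% (a _))<|
 b (0 :type_of% (a _))<|b (0 :type_of% (a _))<|b (-1 :type_of% (a _))<|b (1 :type_of% (a _))<|b (-1 :type_of% (a _))<|b (1 :type_of% (a _))<|d));
 (let d:=(b (-2 :type_of% (a _))<|b (2 :type_of% (a _))<|b (0 :type_of% (a _))<|b (2 :type_of% (a _))<|b (0 :type_of% (a _))<|b (-2 :type_of% (a _))<|b (1 :type_of% (a _))<|d);
 (b (1 :type_of% (a _))<|b (3 :type_of% (a _))<|b (-1 :type_of% (a _))<|b (-1 :type_of% (a _))<|b (0 :type_of% (a _))<|b (2 :type_of% (a _))<|b (4 :type_of% (a _))<|d)));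
 (let d:=(let d:=(b (1 :type_of% (a _))<|b (3 :type_of% (a _))<|b (-3 :type_of% (a _))<|b (1 :type_of% (a _))<|b (5 :type_of% (a _))<|b (-1 :type_of% (a _))<|b (-1 :type_of% (a _))<|d);
 (b (3 :type_of% (a _))<|b (10 :type_of% (a _))<|b (2 :type_of% (a _))<|b (2 :type_of% (a _))<|b (2 :type_of% (a _))<|b (-2 :type_of% (a _))<|b (-2 :type_of% (a _))<|d));
 (let d:=(b (9 :type_of% (a _))<|b (1 :type_of% (a _))<|b (5 :type_of% (a _))<|b (-3 :type_of% (a _))<|b (1 :type_of% (a _))<|b (1 :type_of% (a _))<|b (3 :type_of% (a _))<|d);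
 (c (253 :type_of% (a _))<|c (29 :type_of% (a _))<|c (13 :type_of% (a _))<|c (-11 :type_of% (a _))<|c (10 :type_of% (a _))<|c (10 :type_of% (a _))<|c (29 :type_of% (a _))<|d)))) :type_of% (k _))<|
 c ((let d:=(let d:=(let d:=(b (0 :type_of% (a _))<|b (-1 :type_of% (a _))<|b (0 :type_of% (a _))<|b (-1 :type_of% (a _))<|b (-2 :type_of% (a _))<|b (1 :type_of% (a _))<|b (0 :type_of% (a _))<|f);
 (b (0 :type_of% (a _))<|b (-1 :type_of% (a _))<|b (0 :type_of% (a _))<|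
 b (1 :type_of% (a _))<|b (-1 :type_of% (a _))<|b (0 :type_of% (a _))<|b (-1 :type_of% (a _))<|d));
 (let d:=(b (1 :type_of% (a _))<|b (-2 :type_of% (a _))<|b (0 :type_of% (a _))<|b (1 :type_of% (a _))<|b (0 :type_of% (a _))<|b (1 :type_of% (a _))<|b (2 :type_of% (a _))<|d);
 (b (2 :type_of% (a _))<|b (0 :type_of% (a _))<|b (1 :type_of% (a _))<|b (1 :type_of% (a _))<|b (0 :type_of% (a _))<|b (1 :type_of% (a _))<|b (4 :type_of% (a _))<|d)));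
 (let d:=(let d:=(b (2 :type_of% (a _))<|b (5 :type_of% (a _))<|b (3 :type_of% (a _))<|b (-1 :type_of% (a _))<|b (3 :type_of% (a _))<|b (1 :type_of% (a _))<|b (1 :type_of% (a _))<|d);
 (b (5 :type_of% (a _))<|b (5 :type_of% (a _))<|b (-3 :type_of% (a _))<|b (6 :type_of% (a _))<|b (6 :type_of% (a _))<|b (2 :type_of% (a _))<|b (2 :type_of% (a _))<|d));
 (let d:=(b (15 :type_of% (a _))<|b (7 :type_of% (a _))<|b (-5 :type_of% (a _))<|b (3 :type_of% (a _))<|b (7 :type_of% (a _))<|b (-1 :type_of% (a _))<|b (0 :type_of% (a _))<|d);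
 (c (275 :type_of% (a _))<|c (51 :type_of% (a _))<|c (35 :type_of% (a _))<|c (11 :type_of% (a _))<|c (5 :type_of% (a _))<|c (14 :type_of% (a _))<|c (19 :type_of% (a _))<|d)))) :type_of% (k _))<|
 c ((let d:=(let d:=(let d:=(b (0 :type_of% (a _))<|b (0 :type_of% (a _))<|b (0 :type_of% (a _))<|b (-1 :type_of% (a _))<|b (0 :type_of% (a _))<|b (-1 :type_of% (a _))<|b (1 :type_of% (a _))<|f);
 (b (0 :type_of% (a _))<|b (1 :type_of% (a _))<|b (-1 :type_of% (a _))<|b (1 :type_of% (a _))<|b (1 :type_of% (a _))<|b (0 :type_of% (a _))<|b (-1 :type_of% (a _))<|d));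
 (let d:=(b (1 :type_of% (a _))<|b (4 :type_of% (a _))<|b (-2 :type_of% (a _))<|b (1 :type_of% (a _))<|b (0 :type_of% (a _))<|
 b (1 :type_of% (a _))<|b (0 :type_of% (a _))<|d);
 (b (-2 :type_of% (a _))<|b (4 :type_of% (a _))<|b (-1 :type_of% (a _))<|b (1 :type_of% (a _))<|b (0 :type_of% (a _))<|b (1 :type_of% (a _))<|b (-2 :type_of% (a _))<|d)));
 (let d:=(let d:=(b (0 :type_of% (a _))<|b (-1 :type_of% (a _))<|b (3 :type_of% (a _))<|b (-1 :type_of% (a _))<|b (7 :type_of% (a _))<|b (-1 :type_of% (a _))<|b (-1 :type_of% (a _))<|d);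
 (b (1 :type_of% (a _))<|b (21 :type_of% (a _))<|b (-3 :type_of% (a _))<|b (-6 :type_of% (a _))<|b (0 :type_of% (a _))<|b (0 :type_of% (a _))<|b (2 :type_of% (a _))<|d));
 (let d:=(b (-5 :type_of% (a _))<|b (-5 :type_of% (a _))<|b (-5 :type_of% (a _))<|b (3 :type_of% (a _))<|b (-5 :type_of% (a _))<|b (-1 :type_of% (a _))<|b (-4 :type_of% (a _))<|d);
 (c (1771 :type_of% (a _))<|c (-21 :type_of% (a _))<|c (-21 :type_of% (a _))<|c (11 :type_of% (a _))<|c (-11 :type_of% (a _))<|c (16 :type_of% (a _))<|c (91 :type_of% (a _))<|d)))) :type_of% (k _))<|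
 c ((let d:=(let d:=(let d:=(b (-1 :type_of% (a _))<|b (0 :type_of% (a _))<|b (0 :type_of% (a _))<|b (1 :type_of% (a _))<|b (1 :type_of% (a _))<|b (-1 :type_of% (a _))<|b (-1 :type_of% (a _))<|f);
 (b (-1 :type_of% (a _))<|
 b (1 :type_of% (a _))<|b (-1 :type_of% (a _))<|b (0 :type_of% (a _))<|b (0 :type_of% (a _))<|b (1 :type_of% (a _))<|b (0 :type_of% (a _))<|d));
 (let d:=(b (3 :type_of% (a _))<|b (2 :type_of% (a _))<|b (0 :type_of% (a _))<|b (-1 :type_of% (a _))<|b (2 :type_of% (a _))<|b (-1 :type_of% (a _))<|b (1 :type_of% (a _))<|d);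
 (b (-1 :type_of% (a _))<|b (-1 :type_of% (a _))<|b (2 :type_of% (a _))<|b (0 :type_of% (a _))<|b (0 :type_of% (a _))<|b (-1 :type_of% (a _))<|b (0 :type_of% (a _))<|d)));
 (let d:=(let d:=(b (1 :type_of% (a _))<|b (4 :type_of% (a _))<|b (0 :type_of% (a _))<|b (0 :type_of% (a _))<|b (0 :type_of% (a _))<|b (4 :type_of% (a _))<|b (0 :type_of% (a _))<|d);
 (b (4 :type_of% (a _))<|b (-1 :type_of% (a _))<|b (7 :type_of% (a _))<|b (4 :type_of% (a _))<|b (10 :type_of% (a _))<|b (2 :type_of% (a _))<|b (4 :type_of% (a _))<|d));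
 (let d:=(b (24 :type_of% (a _))<|b (24 :type_of% (a _))<|b (8 :type_of% (a _))<|b (8 :type_of% (a _))<|b (8 :type_of% (a _))<|b (0 :type_of% (a _))<|b (-1 :type_of% (a _))<|d);
 (c (2024 :type_of% (a _))<|c (232 :type_of% (a _))<|c (104 :type_of% (a _))<|c (40 :type_of% (a _))<|c (-1 :type_of% (a _))<|c (26 :type_of% (a _))<|c (8 :type_of% (a _))<|d)))) :type_of% (k _))<|
 d)))))

/-- the sums of two conjugate characters -/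
def B : List (List ℤ) := (beta% delta% lq26c691ef6b fun a b c _ f _ _ _ _ _ _ _ _ _ _ _ _ _ =>
 (c (let d:=(let d:=(let d:=(b (0 :type_of% (a _))<|b (-1 :type_of% (a _))<|b (2 :type_of% (a _))<|b (0 :type_of% (a _))<|b (0 :type_of% (a _))<|b (0 :type_of% (a _))<|b (0 :type_of% (a _))<|f);
 (b (0 :type_of% (a _))<|b (0 :type_of% (a _))<|b (0 :type_of% (a _))<|b (-2 :type_of% (a _))<|b (2 :type_of% (a _))<|b (2 :type_of% (a _))<|b (0 :type_of% (a _))<|d));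
 (let d:=(b (-8 :type_of% (a _))<|b (-2 :type_of% (a _))<|b (-2 :type_of% (a _))<|
 b (-4 :type_of% (a _))<|b (-2 :type_of% (a _))<|b (0 :type_of% (a _))<|b (0 :type_of% (a _))<|d);
 (b (2 :type_of% (a _))<|b (0 :type_of% (a _))<|b (0 :type_of% (a _))<|b (0 :type_of% (a _))<|b (0 :type_of% (a _))<|b (4 :type_of% (a _))<|b (-2 :type_of% (a _))<|d)));
 (let d:=(let d:=(b (0 :type_of% (a _))<|b (6 :type_of% (a _))<|b (2 :type_of% (a _))<|b (-6 :type_of% (a _))<|b (2 :type_of% (a _))<|b (-2 :type_of% (a _))<|b (-2 :type_of% (a _))<|d);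
 (b (0 :type_of% (a _))<|b (0 :type_of% (a _))<|b (8 :type_of% (a _))<|b (-10 :type_of% (a _))<|b (-10 :type_of% (a _))<|b (6 :type_of% (a _))<|b (6 :type_of% (a _))<|d));
 (let d:=(b (10 :type_of% (a _))<|b (58 :type_of% (a _))<|b (2 :type_of% (a _))<|b (-14 :type_of% (a _))<|b (-6 :type_of% (a _))<|b (10 :type_of% (a _))<|b (0 :type_of% (a _))<|d);
 (c (19250 :type_of% (a _))<|c (-910 :type_of% (a _))<|c (210 :type_of% (a _))<|c (-30 :type_of% (a _))<|c (80 :type_of% (a _))<|c (-10 :type_of% (a _))<|c (-14 :type_of% (a _))<|d))))<|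
 c (let d:=(let d:=(let d:=(b (2 :type_of% (a _))<|b (-2 :type_of% (a _))<|b (0 :type_of% (a _))<|b (2 :type_of% (a _))<|b (0 :type_of% (a _))<|b (0 :type_of% (a _))<|b (1 :type_of% (a _))<|f);
 (b (0 :type_of% (a _))<|b (0 :type_of% (a _))<|b (-1 :type_of% (a _))<|b (-2 :type_of% (a _))<|b (2 :type_of% (a _))<|b (0 :type_of% (a _))<|b (0 :type_of% (a _))<|d));
 (let d:=(b (6 :type_of% (a _))<|b (0 :type_of% (a _))<|b (0 :type_of% (a _))<|b (2 :type_of% (a _))<|b (0 :type_of% (a _))<|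
 b (-2 :type_of% (a _))<|b (0 :type_of% (a _))<|d);
 (b (0 :type_of% (a _))<|b (-2 :type_of% (a _))<|b (0 :type_of% (a _))<|b (0 :type_of% (a _))<|b (0 :type_of% (a _))<|b (-6 :type_of% (a _))<|b (0 :type_of% (a _))<|d)));
 (let d:=(let d:=(b (0 :type_of% (a _))<|b (2 :type_of% (a _))<|b (6 :type_of% (a _))<|b (6 :type_of% (a _))<|b (-2 :type_of% (a _))<|b (-6 :type_of% (a _))<|b (2 :type_of% (a _))<|d);
 (b (0 :type_of% (a _))<|b (6 :type_of% (a _))<|b (-18 :type_of% (a _))<|b (0 :type_of% (a _))<|b (0 :type_of% (a _))<|b (0 :type_of% (a _))<|b (0 :type_of% (a _))<|d));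
 (let d:=(b (-18 :type_of% (a _))<|b (30 :type_of% (a _))<|b (38 :type_of% (a _))<|b (6 :type_of% (a _))<|b (-2 :type_of% (a _))<|b (-10 :type_of% (a _))<|b (-10 :type_of% (a _))<|d);
 (c (20790 :type_of% (a _))<|c (630 :type_of% (a _))<|c (-42 :type_of% (a _))<|c (-90 :type_of% (a _))<|c (54 :type_of% (a _))<|c (0 :type_of% (a _))<|c (-42 :type_of% (a _))<|d))))<|
 c (let d:=(let d:=(let d:=(b (0 :type_of% (a _))<|b (-2 :type_of% (a _))<|b (0 :type_of% (a _))<|b (0 :type_of% (a _))<|b (2 :type_of% (a _))<|b (0 :type_of% (a _))<|b (0 :type_of% (a _))<|f);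
 (b (0 :type_of% (a _))<|b (0 :type_of% (a _))<|b (0 :type_of% (a _))<|b (2 :type_of% (a _))<|b (-2 :type_of% (a _))<|b (0 :type_of% (a _))<|b (0 :type_of% (a _))<|d));
 (let d:=(b (0 :type_of% (a _))<|b (0 :type_of% (a _))<|b (0 :type_of% (a _))<|b (0 :type_of% (a _))<|b (0 :type_of% (a _))<|b (0 :type_of% (a _))<|
 b (-2 :type_of% (a _))<|d);
 (b (0 :type_of% (a _))<|b (0 :type_of% (a _))<|b (0 :type_of% (a _))<|b (0 :type_of% (a _))<|b (2 :type_of% (a _))<|b (0 :type_of% (a _))<|b (0 :type_of% (a _))<|d)));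
 (let d:=(let d:=(b (-2 :type_of% (a _))<|b (6 :type_of% (a _))<|b (-6 :type_of% (a _))<|b (10 :type_of% (a _))<|b (2 :type_of% (a _))<|b (-2 :type_of% (a _))<|b (-2 :type_of% (a _))<|d);
 (b (0 :type_of% (a _))<|b (0 :type_of% (a _))<|b (0 :type_of% (a _))<|b (0 :type_of% (a _))<|b (0 :type_of% (a _))<|b (0 :type_of% (a _))<|b (0 :type_of% (a _))<|d));
 (let d:=(b (-30 :type_of% (a _))<|b (18 :type_of% (a _))<|b (-102 :type_of% (a _))<|b (-6 :type_of% (a _))<|b (18 :type_of% (a _))<|b (10 :type_of% (a _))<|b (0 :type_of% (a _))<|d);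
 (c (182250 :type_of% (a _))<|c (810 :type_of% (a _))<|c (-630 :type_of% (a _))<|c (90 :type_of% (a _))<|c (0 :type_of% (a _))<|c (0 :type_of% (a _))<|c (-54 :type_of% (a _))<|d))))<|
 c (let d:=(let d:=(let d:=(b (0 :type_of% (a _))<|b (0 :type_of% (a _))<|b (0 :type_of% (a _))<|b (0 :type_of% (a _))<|b (0 :type_of% (a _))<|b (0 :type_of% (a _))<|b (-1 :type_of% (a _))<|f);
 (b (0 :type_of% (a _))<|b (0 :type_of% (a _))<|b (-1 :type_of% (a _))<|b (2 :type_of% (a _))<|b (2 :type_of% (a _))<|b (0 :type_of% (a _))<|b (0 :type_of% (a _))<|d));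
 (let d:=(b (0 :type_of% (a _))<|b (0 :type_of% (a _))<|b (0 :type_of% (a _))<|
 b (4 :type_of% (a _))<|b (0 :type_of% (a _))<|b (0 :type_of% (a _))<|b (0 :type_of% (a _))<|d);
 (b (0 :type_of% (a _))<|b (-4 :type_of% (a _))<|b (0 :type_of% (a _))<|b (0 :type_of% (a _))<|b (0 :type_of% (a _))<|b (12 :type_of% (a _))<|b (0 :type_of% (a _))<|d)));
 (let d:=(let d:=(b (0 :type_of% (a _))<|b (-6 :type_of% (a _))<|b (-6 :type_of% (a _))<|b (-6 :type_of% (a _))<|b (-6 :type_of% (a _))<|b (-6 :type_of% (a _))<|b (2 :type_of% (a _))<|d);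
 (b (0 :type_of% (a _))<|b (24 :type_of% (a _))<|b (0 :type_of% (a _))<|b (0 :type_of% (a _))<|b (0 :type_of% (a _))<|b (0 :type_of% (a _))<|b (0 :type_of% (a _))<|d));
 (let d:=(b (90 :type_of% (a _))<|b (90 :type_of% (a _))<|b (-38 :type_of% (a _))<|b (-6 :type_of% (a _))<|b (-6 :type_of% (a _))<|b (10 :type_of% (a _))<|b (20 :type_of% (a _))<|d);
 (c (478170 :type_of% (a _))<|c (-5670 :type_of% (a _))<|c (-294 :type_of% (a _))<|c (90 :type_of% (a _))<|c (-216 :type_of% (a _))<|c (0 :type_of% (a _))<|c (-294 :type_of% (a _))<|d))))<|f))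

/-- the primes and the sections -/
def PL : List (ℕ × ℕ × List ℕ) := (beta% delta% lq26c691ef6b fun _ _ c e f _ _ _ _ _ _ _ _ _ _ _ _ _ =>
 (c (e 2<|e 18 (c 0<|c 4<|c 5<|c 13<|c 14<|c 21<|c 28<|c 43<|c 44<|f))<|
 c (e 3<|e 6 (c 0<|c 1<|c 2<|c 3<|c 6<|c 7<|c 8<|c 9<|c 10<|c 11<|c 13<|c 14<|c 22<|c 23<|c 29<|c 30<|f))<|
 c (e 5<|e 3 (c 0<|c 1<|c 2<|c 3<|c 4<|c 5<|c 7<|c 12<|c 15<|c 17<|f))<|
 c (e 7<|e 1 (c 0<|c 1<|c 2<|c 6<|f))<|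
 c (e 11<|e 1 (c 0<|f))<|
 c (e 23<|e 1 (c 0<|f))<|f))

/-- the certificates -/
def CL : List (ℕ × ℕ × List Cert) := (beta% delta% lq26c691ef6b fun _ _ c e f _ _ i _ _ _ _ n o p q r s =>
 (c (e 2<|e 18 (c (o 0 (let d:=(let d:=(let d:=(s (i (c (e 21845 32)<|c (e 240299 25)<|c (e 21845 17)<|f) :type_of% (q _))<|s (i (c (e 131074 33)<|c (e 131070 32)<|c (e 262143 26)<|c (e 1 25)<|f) :type_of% (q _))<|s (i
 (c (e 131071 34)<|c (e 131073 33)<|c (e 1 27)<|f) :type_of% (q _))<|s (i (c (e 1 35)<|c (e 1 34)<|f) :type_of% (q _))<|s (i (c (e 1 36)<|f) :type_of% (q _))<|f);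
 (s (i (c (e 49153 27)<|c (e 5461 26)<|c (e 81918 25)<|c (e 256684 24)<|c (e 131073 20)<|c (e 262143 19)<|c (e 131071 12)<|c (e 1
 11)<|f) :type_of% (q _))<|s (i (c (e 98303 28)<|c (e 87381 27)<|c (e 163841 26)<|c (e 174763 25)<|f) :type_of% (q _))<|s (i (c (e 43695 29)<|c (e 54609 28)<|c (e 152927 27)<|c (e 196594 22)<|c (e 87384 21)<|
 c (e 43692 18)<|c (e 251231 14)<|c (e 54613 11)<|f) :type_of% (q _))<|s (i (c (e 196609 30)<|c (e 65533 28)<|c (e 2 23)<|c (e 262142 15)<|f) :type_of% (q _))<|s (i (c (e 131082 31)<|c (e 131072 30)<|c (e 262134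
 29)<|c (e 262142 24)<|c (e 1 20)<|f) :type_of% (q _))<|d));
 (let d:=(s (i (c (e 51347 22)<|c (e 59571 21)<|c (e 228898 20)<|
 c (e 66594 19)<|c (e 112907 18)<|c (e 135979 17)<|c (e 164120 15)<|c (e 58992 14)<|c (e 174552 13)<|c (e 110468 11)<|c (e 101576 10)<|c (e 10772 9)<|c (e 84104 8)<|c (e 131008
 7)<|f) :type_of% (q _))<|s (i (c (e 108244 23)<|c (e 136987 22)<|c (e 203587 21)<|c (e 211513 20)<|c (e 120309 19)<|c (e 146955 16)<|c (e 156302 15)<|c (e 127891 14)<|c (e 103865 12)<|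
 c (e 140815 11)<|c (e 230073 9)<|c (e 169996 8)<|c (e 86356 7)<|f) :type_of% (q _))<|s (i (c (e 172518 24)<|c (e 95154 23)<|c (e 130532 22)<|c (e 247020 21)<|c (e 6356 20)<|c (e 115003 17)<|
 c (e 248280 16)<|c (e 231581 15)<|c (e 261829 13)<|c (e 163525 12)<|c (e 178334 9)<|c (e 211102 8)<|f) :type_of% (q _))<|s (i (c (e 65764 25)<|c (e 54312 24)<|c (e 54801 23)<|c (e 31293 22)<|
 c (e 223668 18)<|c (e 164388 17)<|c (e 192206 16)<|c (e 249993 14)<|c (e 120565 10)<|c (e 85605 9)<|c (e 178813 6)<|f) :type_of% (q _))<|s (i (c (e 191149 26)<|c (e 234837 25)<|c (e 70995 24)<|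
 c (e 27307 23)<|c (e 87381 19)<|c (e 174763 17)<|f) :type_of% (q _))<|d);
 (s (r 11 0 :type_of% (q _))<|s (i (c (e 85971 19)<|c (e 149794 18)<|c (e 113569 17)<|c (e 37452 16)<|c (e 100053 15)<|c (e 74898
 14)<|c (e 224695 13)<|f) :type_of% (q _))<|s (i (c (e 258050 20)<|c (e 29179 19)<|c (e 157206 18)<|c (e 163060 17)<|c (e 109032 16)<|c (e 69905 15)<|c (e 224695 13)<|c (e 12483 12)<|c (e 37449
 11)<|c (e 249661 10)<|f) :type_of% (q _))<|s (i (c (e 224920 21)<|c (e 180814 20)<|c (e 58258 19)<|c (e 194910 18)<|c (e 184471 17)<|c (e 55225 16)<|c (e 50517 14)<|c (e 44367 13)<|c (e 63231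
 12)<|c (e 89719 10)<|c (e 155558 9)<|c (e 160604 8)<|c (e 2119 7)<|c (e 205505 6)<|c (e 168805 5)<|c (e 220201 4)<|f) :type_of% (q _))<|d)));
 (let d:=(let d:=(s (r
 6 2 :type_of% (q _))<|s (n 0 1 1 :type_of% (q _))<|s (r 14 0 :type_of% (q _))<|s (r 9 1 :type_of% (q _))<|s (n 1 1 1 :type_of% (q _))<|d);
 (s (r 7 0 :type_of% (q _))<|s (r 8 0 :type_of% (q _))<|s (r 3 3 :type_of% (q _))<|s (r 4 3 :type_of% (q _))<|s (r 5 3 :type_of% (q _))<|d));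
 (let d:=(s (r 2 0 :type_of% (q _))<|s (r 3 0 :type_of% (q _))<|s (r 4 0 :type_of% (q _))<|s (n 1 1 0 :type_of% (q _))<|s (r 6 0 :type_of% (q _))<|d);
 (c (p :type_of% (q _))<|c (n 0 1 0 :type_of% (q _))<|c (r 0 0 :type_of% (q _))<|c (r 1 0 :type_of% (q _))<|d)))) (c (e 17 1)<|c (e 18 2)<|c (e 16 2)<|c (e 10 4)<|c (e 11 4)<|c (e 12 8)<|c (e 15 8)<|
 c (e 13 8)<|c (e 14 16)<|c (e 8 16)<|c (e 9 32)<|c (e 5 64)<|c (e 6 128)<|c (e 4 64)<|c (e 7 512)<|c (e 3 256)<|c (e 2 1024)<|c (e 0 8192)<|f))<|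
 c (o 4 (c p<|c (n 0 1 0)<|c (r 0 0)<|c (r 1 0)<|c (r 2 0)<|c (n 1 1 0)<|c (n 0 3 0)<|c (r 0 0)<|c (i (c (e 87376 6)<|c (e 87380 5)<|c (e 240300 4)<|c (e 174763 3)<|f))<|c (i
 (c (e 109228 7)<|c (e 202069 5)<|f))<|c (i (c (e 262143 9)<|c (e 174764 8)<|c (e 116508 7)<|c (e 233017 2)<|f))<|c (i (c (e 2 9)<|c (e 1 8)<|f))<|c (i (c (e 262143 11)<|c (e 1 6)<|f))<|c (i
 (c (e 131071 11)<|f))<|c (i (c (e 1 13)<|c (e 174763 7)<|f))<|c (i (c (e 1 14)<|f))<|f) (c (e 7 1)<|c (e 6 2)<|c (e 3 2)<|c (e 4 4)<|c (e 5 8)<|c (e 2 8)<|c (e 0 16)<|c (e 1 128)<|f))<|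
 c (o 5 (c p<|c (n 0 1 0)<|c (r 0 0)<|c (r 1 0)<|c (r 2 0)<|c (n 1 1 0)<|c (r 4 0)<|c (r 5 0)<|c (r 2 2)<|c (n 0 1 1)<|c (r 8 0)<|c (r 9 0)<|c (i (c (e 132427 11)<|
 c (e 92844 10)<|c (e 226658 9)<|c (e 169300 8)<|c (e 165203 7)<|c (e 169300 6)<|c (e 92844 4)<|f))<|c (i (c (e 218735 12)<|c (e 236639 11)<|c (e 116377 10)<|c (e 240355 9)<|
 c (e 105398 7)<|c (e 178366 6)<|c (e 214850 4)<|c (e 190865 3)<|c (e 174988 2)<|c (e 158435 1)<|f))<|c (i (c (e 65537 13)<|c (e 131072 12)<|c (e 196606 11)<|c (e 262143 10)<|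
 c (e 131073 8)<|c (e 1 7)<|f))<|c (i (c (e 27307 14)<|c (e 92851 13)<|c (e 38235 12)<|c (e 169301 11)<|c (e 87384 9)<|c (e 109226 6)<|c (e 8 5)<|f))<|c (i (c (e 32777 15)<|c (e 131080
 14)<|c (e 98303 13)<|c (e 3 6)<|c (e 131075 5)<|f))<|c (i (c (e 262143 16)<|c (e 174762 15)<|c (e 174763 14)<|f))<|c (i (c (e 1 17)<|c (e 1 16)<|c (e 2 8)<|f))<|c (i (c (e 131071 9)<|f))<|
 c (i (c (e 262143 19)<|c (e 1 14)<|f))<|c (i (c (e 1 20)<|f))<|f) (c (e 9 1)<|c (e 8 2)<|c (e 1 2)<|c (e 4 4)<|c (e 5 4)<|c (e 6 4)<|c (e 7 16)<|c (e 3 8)<|c (e 0 16)<|c (e 2 128)<|f))<|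
 c (o 13 (c p<|c (n 0 1 0)<|c (r 0 0)<|c (i (c (e 2 1)<|c (e 1 0)<|f))<|c (i (c (e 131071 2)<|f))<|c (i (c (e 1 4)<|f))<|f) (c (e 2 1)<|c (e 0 2)<|c (e 1 8)<|f))<|
 c (o 14 (c p<|c (n 0 1 0)<|c (r 0 0)<|c (n 1 1 0)<|c (i (c (e 32761 3)<|c (e 262136 2)<|c (e 229375 1)<|c (e 131076 0)<|f))<|c (i (c (e 131070 4)<|c (e 131070 3)<|c (e 1 1)<|f))<|c (i
 (c (e 131073 5)<|c (e 131071 4)<|f))<|c (i (c (e 1 6)<|f))<|f) (c (e 1 1)<|c (e 3 2)<|c (e 0 2)<|c (e 2 8)<|f))<|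
 c (o 21 (c p<|c (n 0 1 0)<|c (r 0 0)<|c (n 0 1 1)<|c (i (c (e 262142 2)<|c (e 1 1)<|f))<|c (i (c (e 1 3)<|f))<|c (i (c (e 131073 5)<|c (e 131071 2)<|f))<|c (i (c (e 1 6)<|f))<|f) (c (e 2 1)<|c (e 3
 2)<|c (e 0 2)<|c (e 1 8)<|f))<|
 c (o 28 (c p<|c (n 0 1 0)<|c (i (c (e 2 1)<|c (e 131071 0)<|f))<|c (i (c (e 1 2)<|f))<|f) (c (e 0 1)<|c (e 1 2)<|f))<|
 c (o 43 (c p<|c (n 0 1 0)<|c (i (c (e 131071 0)<|f))<|c (i (c (e 1 2)<|f))<|f) (c (e 0 1)<|c (e 1 2)<|f))<|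
 c (o 44 (c p<|c (n 0 1 0)<|c (i (c (e 131073 1)<|c (e 131071 0)<|f))<|c (i (c (e 1 2)<|f))<|f) (c (e 0 1)<|c (e 1 2)<|f))<|f))<|
 c (e 3<|e 6 (c (o 0 (c p<|c (n 0 1 0)<|c (r 0 0)<|c (i (c (e 209 2)<|c (e 364 1)<|c (e 677 0)<|f))<|c (i (c (e 727 3)<|c (e 1 2)<|f))<|c (i (c (e 1 4)<|f))<|f) (c (e 3 1)<|c (e 2 3)<|c (e 0 27)<|f))<|
 c (o 1 (c p<|c (n 0 1 0)<|c (r 0 0)<|c (r 1 0)<|c (n 1 1 0)<|c (i (c (e 189 4)<|c (e 360 3)<|c (e 126 2)<|c (e 638 1)<|c (e 270 0)<|f))<|c (i (c (e 561 5)<|c (e 84 4)<|c (e 131 3)<|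
 c (e 84 1)<|f))<|c (i (c (e 182 6)<|c (e 273 5)<|c (e 638 2)<|f))<|c (i (c (e 1 6)<|f))<|c (i (c (e 1 8)<|f))<|f) (c (e 4 1)<|c (e 2 3)<|c (e 3 3)<|c (e 0 9)<|c (e 1 81)<|f))<|
 c (o 2 (c p<|c (n 0 1 0)<|c (r 0 0)<|c (i (c (e 500 2)<|c (e 602 1)<|c (e 365 0)<|f))<|c (i (c (e 250 3)<|c (e 485 2)<|f))<|c (i (c (e 1 4)<|f))<|f) (c (e 0 1)<|c (e 1 3)<|c (e 2 9)<|f))<|
 c (o 3 (c p<|c (n 1 1 0)<|c (i (c (e 383 1)<|c (e 259 0)<|f))<|c (i (c (e 1 2)<|f))<|f) (c (e 0 1)<|c (e 1 9)<|f))<|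
 c (o 6 (c p<|c (n 0 1 0)<|c (r 0 0)<|c (i (c (e 7 2)<|c (e 721 1)<|c (e 1 0)<|f))<|c (i (c (e 364 3)<|c (e 365 2)<|f))<|c (i (c (e 1 4)<|f))<|f) (c (e 2 1)<|c (e 0 3)<|c (e 1 27)<|f))<|
 c (o 7 (c p<|c (n 0 1 0)<|c (i (c (e 367 1)<|c (e 365 0)<|f))<|c (i (c (e 1 2)<|f))<|f) (c (e 0 1)<|c (e 1 3)<|f))<|
 c (o 8 (c p<|c (n 0 1 0)<|c (r 0 0)<|c (i (c (e 9 2)<|c (e 647 0)<|f))<|c (i (c (e 366 3)<|c (e 121 2)<|f))<|c (i (c (e 1 4)<|f))<|f) (c (e 0 1)<|c (e 1 3)<|c (e 2 9)<|f))<|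
 c (o 9 (c p<|c (n 0 1 0)<|c (i (c (e 1 1)<|c (e 1 0)<|f))<|c (i (c (e 1 2)<|f))<|f) (c (e 0 1)<|c (e 1 3)<|f))<|
 c (o 10 (c p<|c (n 0 2 0)<|c (i (c (e 611 1)<|c (e 121 0)<|f))<|c (i (c (e 1 2)<|f))<|f) (c (e 0 1)<|c (e 1 3)<|f))<|
 c (o 11 (c p<|c (n 0 1 0)<|c (i (c (e 3 1)<|c (e 485 0)<|f))<|c (i (c (e 1 2)<|f))<|f) (c (e 0 1)<|c (e 1 3)<|f))<|
 c (o 13 (c p<|c (n 0 1 0)<|c (i (c (e 2 1)<|c (e 1 0)<|f))<|c (i (c (e 1 2)<|f))<|f) (c (e 0 1)<|c (e 1 3)<|f))<|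
 c (o 14 (c p<|c (n 0 1 0)<|c (i (c (e 3 1)<|c (e 485 0)<|f))<|c (i (c (e 1 2)<|f))<|f) (c (e 0 1)<|c (e 1 3)<|f))<|
 c (o 22 (c p<|c (n 0 1 0)<|c (i (c (e 3 1)<|c (e 1 0)<|f))<|c (i (c (e 1 2)<|f))<|f) (c (e 0 1)<|c (e 1 3)<|f))<|
 c (o 23 (c p<|c (n 1 1 0)<|c (i (c (e 247 1)<|c (e 485 0)<|f))<|c (i (c (e 1 2)<|f))<|f) (c (e 0 1)<|c (e 1 3)<|f))<|
 c (o 29 (c p<|c (n 0 1 0)<|c (i (c (e 488 1)<|c (e 485 0)<|f))<|c (i (c (e 1 2)<|f))<|f) (c (e 0 1)<|c (e 1 3)<|f))<|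
 c (o 30 (c p<|c (n 0 1 0)<|c (i (c (e 244 1)<|c (e 485 0)<|f))<|c (i (c (e 1 2)<|f))<|f) (c (e 0 1)<|c (e 1 3)<|f))<|f))<|
 c (e 5<|e 3 (c (o 0 (c p<|c (n 0 1 0)<|c (i (c (e 93 1)<|c (e 94 0)<|f))<|c (i (c (e 1 2)<|f))<|f) (c (e 2 1)<|c (e 0 5)<|f))<|
 c (o 1 (c p<|c (n 0 1 0)<|c (i (c (e 67 1)<|c (e 63 0)<|f))<|c (i (c (e 1 2)<|f))<|f) (c (e 0 1)<|c (e 1 5)<|f))<|
 c (o 2 (c p<|c (n 0 1 0)<|c (i (c (e 57 1)<|c (e 99 0)<|f))<|c (i (c (e 1 2)<|f))<|f) (c (e 0 1)<|c (e 1 5)<|f))<|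
 c (o 3 (c p<|c (n 0 2 0)<|c (i (c (e 112 1)<|c (e 6 0)<|f))<|c (i (c (e 1 2)<|f))<|f) (c (e 0 1)<|c (e 1 5)<|f))<|
 c (o 4 (c p<|c (n 0 1 0)<|c (i (c (e 4 1)<|c (e 1 0)<|f))<|c (i (c (e 1 2)<|f))<|f) (c (e 0 1)<|c (e 1 5)<|f))<|
 c (o 5 (c p<|c (n 0 1 0)<|c (i (c (e 5 1)<|c (e 99 0)<|f))<|c (i (c (e 1 2)<|f))<|f) (c (e 0 1)<|c (e 1 5)<|f))<|
 c (o 7 (c p<|c (n 0 1 0)<|c (i (c (e 5 1)<|c (e 1 0)<|f))<|c (i (c (e 1 2)<|f))<|f) (c (e 0 1)<|c (e 1 5)<|f))<|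
 c (o 12 (c p<|c (n 0 4 0)<|c (i (c (e 112 1)<|c (e 6 0)<|f))<|c (i (c (e 1 2)<|f))<|f) (c (e 0 1)<|c (e 1 5)<|f))<|
 c (o 15 (c p<|c (n 0 1 0)<|c (i (c (e 104 1)<|c (e 99 0)<|f))<|c (i (c (e 1 2)<|f))<|f) (c (e 0 1)<|c (e 1 5)<|f))<|
 c (o 17 (c p<|c (n 0 1 0)<|c (i (c (e 78 1)<|c (e 99 0)<|f))<|c (i (c (e 1 2)<|f))<|f) (c (e 0 1)<|c (e 1 5)<|f))<|f))<|
 c (e 7<|e 1 (c (o 0 (c p<|c (i (c (e 1 0)<|f))<|f) (c (e 0 1)<|f))<|
 c (o 1 (c p<|c (i (c (e 1 0)<|f))<|f) (c (e 0 1)<|f))<|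
 c (o 2 (c p<|c (i (c (e 1 0)<|f))<|f) (c (e 0 1)<|f))<|
 c (o 6 (c p<|c (i (c (e 1 0)<|f))<|f) (c (e 0 1)<|f))<|f))<|
 c (e 11<|e 1 (c (o 0 (c p<|c (i (c (e 1 0)<|f))<|f) (c (e 0 1)<|f))<|f))<|
 c (e 23<|e 1 (c (o 0 (c p<|c (i (c (e 1 0)<|f))<|f) (c (e 0 1)<|f))<|f))<|f))

theorem okPow : D.okPow = true := by decide +kernel

theorem okSep : D.okSep (nth valL) = true := by decide +kernel

theorem okSum : D.okSum = true := by decide +kernel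

theorem ok_ord : okOrd D (nth valL) = true := by decide +kernel

theorem ok_one : okOne D = true := by decide +kernel

theorem ok_primes : okPrimes D PL = true := by decide +kernel

theorem ok_rows : okRows' D A B = true := Pk.rows_of (by decide +kernel)

theorem ok_all : (PL.all fun x => x.2.2.all fun t => hasC CL x.1 t) = true := by decide +kernel

theorem ok_certs : allL (fun y => chkP D y.1 y.2.1 (y.1 ^ y.2.1) seeds y.2.2 (A ++ B)) CL = true := by decide +kernel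

/-- the degrees -/
def degL : List ℕ := (beta% delta% lq26c691ef6b fun _ _ c _ f g h _ _ _ _ _ _ _ _ _ _ _ =>
 (let d:=(let d:=(let d:=(let d:=(h (91125 :type_of% (g _))<|h (91125 :type_of% (g _))<|h (239085 :type_of% (g _))<|h (239085 :type_of% (g _))<|f);
 (h (9625 :type_of% (g _))<|h (9625 :type_of% (g _))<|h (10395 :type_of% (g _))<|
 h (10395 :type_of% (g _))<|d));
 (h (1835008 :type_of% (g _))<|h (1943040 :type_of% (g _))<|h (1992375 :type_of% (g _))<|h (2004750 :type_of% (g _))<|h (2040192 :type_of% (g _))<|h (2072576 :type_of% (g _))<|h (2095875 :type_of% (g _))<|d));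
 (let d:=(let d:=(h (1288000 :type_of% (g _))<|h (1291059 :type_of% (g _))<|h (1771000 :type_of% (g _))<|h (1771000 :type_of% (g _))<|d);
 (h (664125 :type_of% (g _))<|
 h (664125 :type_of% (g _))<|h (664125 :type_of% (g _))<|h (853875 :type_of% (g _))<|d));
 (h (398475 :type_of% (g _))<|h (430353 :type_of% (g _))<|h (442750 :type_of% (g _))<|h (462000 :type_of% (g _))<|h (467775 :type_of% (g _))<|h (558900 :type_of% (g _))<|h (637560 :type_of% (g _))<|d)));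
 (let d:=(let d:=(let d:=(h (284625 :type_of% (g _))<|h (312984 :type_of% (g _))<|h (368874 :type_of% (g _))<|h (398475 :type_of% (g _))<|d);
 (h (221375 :type_of% (g _))<|h (226688 :type_of% (g _))<|h (245916 :type_of% (g _))<|h (253000 :type_of% (g _))<|d));
 (h (44275 :type_of% (g _))<|h (63250 :type_of% (g _))<|h (113850 :type_of% (g _))<|h (129536 :type_of% (g _))<|h (177100 :type_of% (g _))<|
 h (184437 :type_of% (g _))<|h (212520 :type_of% (g _))<|d));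
 (let d:=(let d:=(h (31625 :type_of% (g _))<|h (31625 :type_of% (g _))<|h (31878 :type_of% (g _))<|h (37422 :type_of% (g _))<|d);
 (h (4025 :type_of% (g _))<|h (7084 :type_of% (g _))<|h (12650 :type_of% (g _))<|h (23000 :type_of% (g _))<|d));
 (c (1 :type_of% (g _))<|c (23 :type_of% (g _))<|c (253 :type_of% (g _))<|c (275 :type_of% (g _))<|c (1771 :type_of% (g _))<|c (2024 :type_of% (g _))<|c (2277 :type_of% (g _))<|d)))))

theorem deg_eq : (mkRows A B).deg = degL := by decide +kernel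

/-- **the consequences of the table** -/
theorem fin {G : Type*} [Group G] [Finite G] (h : Seeded G D seeds) : VAN.Van3 G ∧ DegList G degL := by
  obtain ⟨T, hm, hs⟩ := h
  obtain ⟨hI, hT⟩ := tab_of_virt hm ok_one (virt_of_certs hm.1 ok_primes hs (allL_spec ok_certs) ok_all) ok_rows
  refine ⟨hT.van3 hI hm.1 [(2, 18), (3, 6), (5, 3), (7, 1), (11, 1), (23, 1)] (by decide) 4 32 42 (by decide +kernel), ?_⟩
  rw [← deg_eq]
  exact hT.degList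

end Cfsg.Agent.TAB.Co2
end

-- part: TAB/Co/Str
section
set_option linter.all false
open scoped Cfsg.Agent.FastGrp

/-!
# Types which are classes up to inversion (helper88, TAB)

* `Str T S` : the types outside `S` are classes, those of `S` are classes up to inversion;
* `exists_str` : from one representative for each type;
* `Str.allRat`, `Str.allSig` : all characters are fixed by the field automorphisms of ODD and GAL.
-/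

set_option autoImplicit false

namespace Cfsg.Agent.TAB.Co

open Cfsg Cfsg.Agent.TAB.Eng Cfsg.Agent.TAB.Use Cfsg.Agent.Characters Cfsg.Agent.ODD.Red

universe u

variable {G : Type u} [Group G] {D : Dat} {val : ℕ → ℤ} {K : Key G ℤ} {T : TD G D} {S : List ℕ}

/-- the types are classes, up to inversion for the types of `S` -/
def Str (T : TD G D) (S : List ℕ) : Prop :=
  ∀ g h : G, T.ty g = T.ty h → IsConj g h ∨ (T.ty g ∈ S ∧ IsConj g⁻¹ h)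

theorem isConj_inv {a b : G} (h : IsConj a b) : IsConj a⁻¹ b⁻¹ := by
  obtain ⟨c, rfl⟩ := isConj_iff.1 h
  exact isConj_iff.2 ⟨c, by group⟩

theorem isConj_pow {a b : G} (h : IsConj a b) (k : ℕ) : IsConj (a ^ k) (b ^ k) := by
  obtain ⟨c, rfl⟩ := isConj_iff.1 h
  exact isConj_iff.2 ⟨c, conj_pow.symm⟩

theorem exists_str [Finite G] (h1 : D.okPow = true) (h2 : D.okSep val = true) (h3 : D.okSum = true)
    (hN : Nat.card G = D.N) {F : List (G → ℂ)} {seeds : List (List ℤ)}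
    (hF : ∀ χ ∈ F, IsGeneralizedCharacter G χ)
    (h : ∀ t < D.n, ∃ x, Ty K D val t x ∧ D.cnt t ≤ Nat.card {g : G // IsConj x g ∨ (t ∈ S ∧ IsConj x⁻¹ g)} ∧
      Vals F seeds t x) :
    ∃ T : TD G D, T.Mass ∧ Str T S ∧ (∀ g, ∀ i < D.n, T.ty g = i ↔ Ty K D val i g) ∧
      ∀ sd ∈ seeds, Virt T (nth sd) := by
  have hrc : ∀ {t : ℕ} {x g : G}, IsConj x g ∨ (t ∈ S ∧ IsConj x⁻¹ g) → RC x g := fun h =>
    h.elim RC.of_conj fun h => RC.of_inv h.2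
  have hinj : ∀ {t : ℕ} {x : G} (hx : Ty K D val t x), Function.Injective
      (fun g : {g : G // IsConj x g ∨ (t ∈ S ∧ IsConj x⁻¹ g)} =>
        (⟨g.1, ty_rc hx (hrc g.2)⟩ : {g : G // Ty K D val t g})) :=
    fun hx a b hab => Subtype.ext (congrArg Subtype.val hab :)
  have hb : ∀ i < D.n, Box K D val i := fun i hi => by
    obtain ⟨x, h4, h5, -⟩ := h i hi
    exact h5.trans (Nat.card_le_card_of_injective _ (hinj h4))
  obtain ⟨T, hm, hT⟩ := exists_td h1 h2 h3 hN hb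
  have key : ∀ t < D.n, ∃ x, (∀ g, T.ty g = t → IsConj x g ∨ (t ∈ S ∧ IsConj x⁻¹ g)) ∧ Vals F seeds t x := by
    intro t ht
    obtain ⟨x, h6, h7, h8⟩ := h t ht
    refine ⟨x, fun g hg => ?_, h8⟩
    have h9 := (Nat.bijective_iff_injective_and_card _).2 ⟨hinj h6,
      le_antisymm (Nat.card_le_card_of_injective _ (hinj h6)) (((cover_of_box h2 h3 hN hb).2 t ht).le.trans h7)⟩
    obtain ⟨a, ha⟩ := h9.2 ⟨g, (hT g t ht).1 hg⟩
    have h10 : a.1 = g := congrArg Subtype.val ha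
    exact h10 ▸ a.2
  refine ⟨T, hm, fun g g' hg => ?_, hT, fun sd hs => ?_⟩
  · obtain ⟨x, h4, -⟩ := key _ (T.lt g)
    rcases h4 g rfl with h5 | ⟨h5, h6⟩ <;> rcases h4 g' hg.symm with h7 | ⟨h7, h8⟩
    · exact Or.inl (h5.symm.trans h7)
    · exact Or.inr ⟨h7, (isConj_inv h5).symm.trans h8⟩
    · refine Or.inr ⟨h5, IsConj.trans ?_ h7⟩
      have h9 := isConj_inv h6
      rw [inv_inv] at h9
      exact h9.symm
    · exact Or.inl (h6.symm.trans h8)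
  · have h4 : ∀ g : G, List.Forall₂ (fun (χ : G → ℂ) sd => χ ∈ F → χ g = (nth sd (T.ty g) : ℤ)) F seeds :=
      fun g => by
        obtain ⟨x, h5, h7⟩ := key _ (T.lt g)
        exact h7.imp fun χ sd h8 h9 => gen_rc (hF χ h9) (hrc (h5 g rfl)) h8
    obtain ⟨χ, h5, h6⟩ := forall₂_all 1 h4 sd hs
    have h7 : (fun g => (nth sd (T.ty g) : ℂ)) = χ := funext fun g => (h6 g h5).symm
    rw [Virt, h7]
    exact hF χ h5

theorem le_one_cls [Finite G] {x : G} {c q : ℕ} {p : Prop} (hc : Nat.card (Subgroup.centralizer ({x} : Set G)) ≤ c)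
    (hq : q * c ≤ Nat.card G) : q ≤ Nat.card {g : G // IsConj x g ∨ (p ∧ IsConj x⁻¹ g)} := by
  have h1 : q ≤ Nat.card {g : G // IsConj x g} := by
    have h2 := (Nat.mul_le_mul_left q hc).trans hq
    rw [← card_class x] at h2
    exact Nat.le_of_mul_le_mul_right h2 Nat.card_pos
  refine h1.trans (Nat.card_le_card_of_injective (fun g => ⟨g.1, Or.inl g.2⟩) fun a b hab => ?_)
  exact Subtype.ext (congrArg Subtype.val hab :)

theorem Str.fix [Finite G] (h : Str T S) {σ : ℂ ≃+* ℂ}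
    (hS : ∀ g : G, T.ty g ∈ S → ∃ k, (∀ z : ℂ, z ^ orderOf g = 1 → σ z = z ^ k) ∧ IsConj g (g ^ k))
    {χ : G → ℂ} (hχ : IsCharacter G χ) : Fix σ χ := by
  intro g
  obtain ⟨k, h1, h2⟩ : ∃ k, (∀ z : ℂ, z ^ orderOf g = 1 → σ z = z ^ k) ∧ IsConj g (g ^ k) := by
    by_cases hg : T.ty g ∈ S
    · exact hS g hg
    · obtain ⟨k, h1, h2⟩ := GaloisBasic.exists_coprime_pow (σ : ℂ →+* ℂ) (orderOf_pos g).ne'
      exact ⟨k, h2, (h g _ (TD.pow_coprime h1).symm).resolve_right fun h3 => hg h3.1⟩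
  obtain ⟨c, hc⟩ := isConj_iff.1 h2
  refine (GaloisBasic.map_apply (σ : ℂ →+* ℂ) h1 hχ (orderOf_pos g).ne' (pow_orderOf_eq_one g)).trans ?_
  rw [← hc]
  exact Core.isCharacter_isClassFunction hχ g c

/-- **all characters are `2`-rational** -/
theorem Str.allRat [Finite G] (h : Str T S) (hc : ∀ t ∈ S, D.ord t % 4 ≠ 0) : AllRat G := by
  intro χ hχ τ hτ
  refine h.fix (fun g hg => ⟨1, fun z hz => ?_, by rw [pow_one]⟩) (Core.isIrr_isCharacter hχ)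
  have h1 := hc _ hg
  rw [← T.ord] at h1
  rw [pow_one]
  rcases Nat.even_or_odd (orderOf g) with ⟨m, hm⟩ | hm
  · have h2 : Odd m := Nat.odd_iff.2 (by omega)
    rw [hm, pow_add, mul_self_eq_one_iff] at hz
    rcases hz with hz | hz
    · exact hτ m z h2 hz
    · have h3 := hτ m (-z) h2 (by rw [h2.neg_pow, hz, neg_neg])
      rwa [map_neg, neg_inj] at h3
  · exact hτ _ z hm hz

/-- **all characters are fixed by `Sig`** -/
theorem Str.allSig [Finite G] (h : Str T S) (L : List (ℕ × ℕ × ℕ × ℕ)) (hL : sqL D L = true) (L' : List ℕ)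
    (hL' : ∀ t ∈ L', SigConj T t) (hc : ∀ t ∈ S, t ∈ L.map Prod.fst ∨ t ∈ L') {χ : G → ℂ} (hχ : IsCharacter G χ)
    {σ : ℂ ≃+* ℂ} (hσ : Sig σ) : Fix σ χ := by
  refine h.fix (fun g hg => ?_) hχ
  rcases hc _ hg with h1 | h1
  · obtain ⟨x, hx, h1⟩ := List.mem_map.1 h1
    have h2 := List.all_eq_true.1 hL x hx
    rw [Bool.and_eq_true, beq_iff_eq, h1, ← T.ord] at h2
    refine ⟨_, hσ.pow_of_chk h2.1, ?_⟩
    rw [pow_mul]
    rcases h g _ (TD.pow_coprime h2.2).symm with h3 | ⟨-, h3⟩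
    · exact h3.trans (isConj_pow h3 _)
    · have h4 := isConj_pow h3 x.2.2.2
      have h5 := isConj_inv h3
      rw [inv_inv, ← inv_pow] at h5
      exact h5.trans h4
  · obtain ⟨x, a, b, k, h2, h3, h4⟩ := hL' _ h1
    refine ⟨k, hσ.pow_of_chk h3, ?_⟩
    rcases h x g h2 with h5 | ⟨-, h5⟩
    · exact h5.symm.trans (h4.trans (isConj_pow h5 k))
    · have h6 := isConj_inv h4
      rw [← inv_pow] at h6
      exact h5.symm.trans (h6.trans (isConj_pow h5 k))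

end Cfsg.Agent.TAB.Co
end

-- part: TAB/Co1/Dat
section
set_option linter.all false

/-!
# The table of `Co1` (helper11, TAB): the 99 types and the first seeds
-/

set_option autoImplicit false

namespace Cfsg.Agent.TAB.Co1

open Cfsg.Agent.TAB.Eng

/-- the types -/
def D : Dat where
  n := 99
  N := 4157776806543360000
  ordL := [1, 2, 2, 2, 3, 3, 3, 3, 4, 4, 4, 4, 4, 4, 5, 5, 5, 6, 6, 6, 6, 6, 6, 6, 6, 6, 7, 7, 8, 8, 8, 8, 8, 8, 9, 9,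
    9, 10, 10, 10, 10, 10, 10, 11, 12, 12, 12, 12, 12, 12, 12, 12, 12, 12, 12, 12, 12, 13, 14, 14, 15, 15, 15, 15, 15,
    16, 16, 18, 18, 18, 20, 20, 20, 21, 21, 21, 22, 23, 24, 24, 24, 24, 24, 24, 26, 28, 28, 30, 30, 30, 30, 30, 33,
    35, 36, 39, 40, 42, 60]
  cntL := [1, 46621575, 2065694400, 10680579000, 3091200, 70726656000, 330057728000, 7638478848000, 11189178000,
    3524591070000, 5639345712000, 14098364280000, 85932887040000, 270688594176000, 1374926192640, 115493800181760,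
    277185120436224, 417729312000, 8593288704000, 26734675968000, 26734675968000, 200510069760000, 267346759680000,
    1203060418560000, 2887345004544000, 7218362511360000, 235701633024000, 3535524495360000, 45114765696000,
    676721485440000, 676721485440000, 2030164456320000, 5413771883520000, 5413771883520000, 2138774077440000,
    8555096309760000, 8555096309760000, 433101750681600, 3464814005452800, 3464814005452800, 6929628010905600,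
    6929628010905600, 25986105040896000, 62996618280960000, 30076510464000, 451147656960000, 902295313920000,
    1604080558080000, 2406120837120000, 4812241674240000, 7218362511360000, 14436725022720000, 14436725022720000,
    14436725022720000, 14436725022720000, 57746900090880000, 86620350136320000, 26652415426560000, 24748671467520000,
    74246014402560000, 769958667878400, 4619752007270400, 23098760036352000, 46197520072704000, 138592560218112000,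
    64965262602240000, 64965262602240000, 19248966696960000, 76995866787840000, 76995866787840000, 8662035013632000,
    103944420163584000, 207888840327168000, 16499114311680000, 65996457246720000, 197989371740160000,
    188989854842880000, 361545809264640000, 7218362511360000, 21655087534080000, 28873450045440000, 43310175068160000,
    86620350136320000, 173240700272640000, 79957246279680000, 148492028805120000, 148492028805120000,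
    34648140054528000, 69296280109056000, 69296280109056000, 138592560218112000, 138592560218112000,
    125993236561920000, 118793623044096000, 115493800181760000, 213219323412480000, 103944420163584000,
    49497342935040000, 69296280109056000]
  pwL := [[], [(1, 1)], [(1, 2)], [(1, 3)], [(1, 4)], [(1, 5)], [(1, 6)], [(1, 7)], [(1, 8), (2, 1)], [(1, 9), (2, 1)],
    [(1, 10), (2, 1)], [(1, 11), (2, 1)], [(1, 12), (2, 2)], [(1, 13), (2, 3)], [(1, 14)], [(1, 15)], [(1, 16)], [(1,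
    17), (2, 4), (3, 1)], [(1, 18), (2, 4), (3, 2)], [(1, 19), (2, 5), (3, 1)], [(1, 20), (2, 6), (3, 1)], [(1, 21),
    (2, 5), (3, 1)], [(1, 22), (2, 6), (3, 1)], [(1, 23), (2, 5), (3, 3)], [(1, 24), (2, 7), (3, 2)], [(1, 25), (2,
    7), (3, 3)], [(1, 26)], [(1, 27)], [(1, 28), (2, 8), (4, 1)], [(1, 29), (2, 8), (4, 1)], [(1, 30), (2, 9), (4,
    1)], [(1, 31), (2, 9), (4, 1)], [(1, 32), (2, 11), (4, 1)], [(1, 33), (2, 10), (4, 1)], [(1, 34), (3, 6)], [(1,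
    35), (3, 6)], [(1, 36), (3, 6)], [(1, 37), (2, 14), (5, 1)], [(1, 38), (2, 15), (5, 2)], [(1, 39), (2, 14), (5,
    2)], [(1, 40), (2, 15), (5, 1)], [(1, 41), (2, 16), (5, 1)], [(1, 42), (2, 15), (5, 3)], [(1, 43)], [(1, 44), (2,
    17), (3, 8), (4, 4), (6, 1)], [(1, 45), (2, 17), (3, 9), (4, 4), (6, 1)], [(1, 46), (2, 17), (3, 11), (4, 4), (6,
    1)], [(1, 47), (2, 22), (3, 8), (4, 6), (6, 1)], [(1, 48), (2, 21), (3, 8), (4, 5), (6, 1)], [(1, 49), (2, 18),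
    (3, 12), (4, 4), (6, 2)], [(1, 50), (2, 21), (3, 9), (4, 5), (6, 1)], [(1, 51), (2, 21), (3, 11), (4, 5), (6, 1)],
    [(1, 52), (2, 20), (3, 10), (4, 6), (6, 1)], [(1, 53), (2, 21), (3, 10), (4, 5), (6, 1)], [(1, 54), (2, 22), (3,
    9), (4, 6), (6, 1)], [(1, 55), (2, 24), (3, 12), (4, 7), (6, 2)], [(1, 56), (2, 25), (3, 13), (4, 7), (6, 3)],
    [(1, 57)], [(1, 58), (2, 26), (7, 2)], [(1, 59), (2, 27), (7, 1)], [(1, 60), (3, 14), (5, 4)], [(1, 61), (3, 15),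
    (5, 4)], [(1, 62), (3, 14), (5, 7)], [(1, 63), (3, 15), (5, 5)], [(1, 64), (3, 16), (5, 6)], [(1, 65), (2, 31),
    (4, 9), (8, 1)], [(1, 66), (2, 30), (4, 9), (8, 1)], [(1, 67), (2, 34), (3, 22), (6, 6), (9, 1)], [(1, 68), (2,
    36), (3, 22), (6, 6), (9, 1)], [(1, 69), (2, 35), (3, 22), (6, 6), (9, 1)], [(1, 70), (2, 37), (4, 14), (5, 8),
    (10, 1)], [(1, 71), (2, 42), (4, 15), (5, 13), (10, 3)], [(1, 72), (2, 41), (4, 16), (5, 10), (10, 1)], [(1, 73),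
    (3, 26), (7, 4)], [(1, 74), (3, 26), (7, 5)], [(1, 75), (3, 27), (7, 7)], [(1, 76), (2, 43), (11, 3)], [(1, 77)],
    [(1, 78), (2, 44), (3, 28), (4, 17), (6, 8), (8, 4), (12, 1)], [(1, 79), (2, 45), (3, 30), (4, 17), (6, 9), (8,
    4), (12, 1)], [(1, 80), (2, 48), (3, 28), (4, 21), (6, 8), (8, 5), (12, 1)], [(1, 81), (2, 46), (3, 32), (4, 17),
    (6, 11), (8, 4), (12, 1)], [(1, 82), (2, 48), (3, 29), (4, 21), (6, 8), (8, 5), (12, 1)], [(1, 83), (2, 52), (3,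
    33), (4, 20), (6, 10), (8, 6), (12, 1)], [(1, 84), (2, 57), (13, 2)], [(1, 85), (2, 58), (4, 26), (7, 12), (14,
    2)], [(1, 86), (2, 59), (4, 27), (7, 8), (14, 1)], [(1, 87), (2, 60), (3, 37), (5, 17), (6, 14), (10, 4), (15,
    1)], [(1, 88), (2, 62), (3, 39), (5, 24), (6, 14), (10, 7), (15, 2)], [(1, 89), (2, 61), (3, 38), (5, 18), (6,
    15), (10, 4), (15, 2)], [(1, 90), (2, 64), (3, 41), (5, 20), (6, 16), (10, 6), (15, 1)], [(1, 91), (2, 63), (3,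
    40), (5, 19), (6, 15), (10, 5), (15, 1)], [(1, 92), (3, 43), (11, 4)], [(1, 93), (5, 26), (7, 14)], [(1, 94), (2,
    67), (3, 47), (4, 34), (6, 22), (9, 8), (12, 6), (18, 1)], [(1, 95), (3, 57), (13, 4)], [(1, 96), (2, 70), (4,
    37), (5, 28), (8, 14), (10, 8), (20, 1)], [(1, 97), (2, 73), (3, 58), (6, 26), (7, 18), (14, 4), (21, 2)], [(1,
    98), (2, 87), (3, 70), (4, 60), (5, 44), (6, 37), (10, 17), (12, 14), (15, 8), (20, 4), (30, 1)]]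

/-- the exterior square of the Leech lattice -/
def s276 : List ℤ := [276, 20, 12, -12, 78, 15, 6, 0, 36, 4, 4, -4, 0, 0, 21, 6, 1, 14, -6, 5, 14, -1, 2, -3, 0, 0, 10,
    3, 4, -4, 8, 0, 0, 0, 6, 0, 3, 5, 2, -3, 0, 5, -2, 1, 6, -2, 2, 0, 3, 0, 1, -1, -2, 1, 4, 0, 0, 3, -2, -1, 3, 3, 0,
    0, 1, 2, -2, 2, -1, 2, 1, 0, -1, 1, 1, 0, -1, 0, -2, 2, 1, 0, -1, 0, -1, 0, 1, -1, 0, -1, -1, 0, 1, 0, 0, 0, -1, 1,
    1]

/-- the tensor square -/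
def s576 : List ℤ := [576, 64, 0, 0, 144, 36, 9, 0, 64, 0, 16, 0, 0, 0, 36, 16, 1, 16, 0, 16, 25, 4, 1, 0, 0, 0, 16, 9,
    0, 0, 16, 0, 0, 4, 9, 0, 9, 4, 0, 0, 4, 9, 0, 4, 16, 0, 0, 1, 4, 0, 0, 0, 1, 4, 9, 0, 0, 4, 0, 1, 9, 4, 0, 1, 4, 4,
    0, 1, 1, 4, 4, 0, 1, 4, 1, 0, 0, 1, 0, 4, 0, 0, 0, 1, 0, 0, 1, 1, 0, 0, 0, 1, 1, 1, 1, 1, 0, 0, 1]

/-- the number of square roots -/
def c2 : List ℤ := [12792894976, 499200, 41600, 25344, 2915056, 20224, 892, 1324, 64512, 768, 960, 384, 0, 0, 2836, 316,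
    26, 3312, 560, 0, 540, 192, 60, 0, 20, 12, 106, 22, 0, 0, 96, 32, 0, 0, 10, 10, 10, 20, 0, 0, 0, 30, 4, 4, 240, 48,
    48, 0, 48, 0, 0, 0, 12, 0, 0, 0, 0, 4, 6, 2, 46, 16, 4, 4, 2, 0, 0, 6, 0, 0, 12, 0, 0, 4, 1, 1, 0, 1, 0, 0, 0, 0, 0,
    0, 0, 0, 0, 2, 0, 0, 0, 0, 1, 1, 0, 1, 0, 0, 0]

/-- the number of cube roots -/
def c3 : List ℤ := [8039266323201, 11191041, 1401921, 788481, 0, 0, 58320, 0, 361089, 6273, 5121, 1089, 729, 321, 17361,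
    441, 501, 0, 0, 0, 0, 0, 648, 0, 0, 0, 351, 57, 801, 129, 33, 1, 9, 33, 0, 0, 0, 81, 21, 21, 21, 21, 1, 3, 0, 0, 0,
    72, 0, 0, 0, 0, 0, 0, 0, 0, 0, 9, 3, 1, 0, 0, 0, 0, 0, 1, 1, 0, 0, 0, 9, 1, 1, 0, 0, 0, 1, 1, 0, 0, 0, 0, 0, 0, 1,
    1, 1, 0, 0, 0, 0, 0, 0, 1, 0, 0, 1, 0, 0]

/-- the number of fifth roots -/
def c5 : List ℤ := [394053846810625, 306561025, 3354625, 2433025, 1743565825, 653185, 419905, 3025, 774145, 1, 36865, 1,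
    1, 385, 0, 0, 0, 82945, 8065, 5185, 5185, 1, 1, 1, 25, 1, 505, 1, 2305, 1, 1, 1, 1, 1, 1, 1, 1, 0, 0, 0, 0, 0, 0, 1,
    2305, 1, 1, 1, 1, 1, 1, 1, 1, 1, 1, 1, 1, 1, 1, 1, 0, 0, 0, 0, 0, 1, 1, 1, 1, 1, 0, 0, 0, 1, 1, 1, 1, 1, 1, 1, 1, 1,
    1, 1, 1, 1, 1, 0, 0, 0, 0, 0, 1, 0, 1, 1, 0, 1, 0]

/-- the sum of `s276` over the cube roots -/
def e3 : List ℤ := [3041487321876, 18188820, -24948, -337932, 0, 0, 116640, 0, 661284, 18180, -2556, -900, 0, 0, 1701,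
    126, 501, 0, 0, 0, 0, 0, 432, 0, 0, 0, 360, 3, 324, -132, 72, 0, 0, 0, 0, 0, 0, -75, -18, -3, 0, -15, -2, 3, 0, 0,
    0, 0, 0, 0, 0, 0, 0, 0, 0, 0, 0, 3, 0, -1, 0, 0, 0, 0, 0, 2, -2, 0, 0, 0, 9, 0, -1, 0, 0, 0, -1, 0, 0, 0, 0, 0, 0,
    0, -1, 0, 1, 0, 0, 0, 0, 0, 0, 0, 0, 0, -1, 0, 0]

/-- the seeds -/
def Sd : List (List ℤ) := [s276, s576, c2, c3, c5, e3]

end Cfsg.Agent.TAB.Co1
end

-- part: TAB/Co1/Rows
section
prune_inst 0x5041640000000804000240005ec3b3000192004b8001414402000ec98d43a0458f20b270021089f4befc787bc04811000179023800002000be00411b00800cafeae2b63cbe041f0006c0e885590c00000000000000000000000000000000004010000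
set_option linter.all false

/-- decoders of the packed data (elaboration time only) -/
private noncomputable def pk61d (b S i : Nat) : Nat := Nat.mod (Nat.shiftRight S (Nat.mul b i)) (Nat.shiftLeft (nat_lit 1) b)
private noncomputable def pk61c {α : Type} (t : Nat) (a : α) (f : Nat → α) : α := Nat.rec a (fun k _ => f k) t
private noncomputable def pk61f {α : Type} (t : Nat) (f : Nat → α) : α := Nat.rec (f Nat.zero) (fun k _ => f (Nat.succ k)) t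
private noncomputable def pk61l {α : Type} (f : Nat → α) (s e : Nat) (tl : List α) : List α :=
  pk61f e fun e => Nat.rec tl (fun k ih => List.cons (pk61f (Nat.sub e (Nat.succ k)) f) ih) (Nat.sub e s)
private noncomputable def lq26bf99814e23 {T : Sort _} (f :
    ((List Int) → (List Int)) →
    (type_of% @_root_.List.cons.{0}) →
    (type_of% @_root_.List.nil.{0}) →
    ((List (List Int)) → (List (List Int))) →
    (type_of% @_root_.Prod.mk.{0, 0}) →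
    (type_of% @_root_.Cfsg.Agent.TAB.Eng.Cert.mk) →
    (type_of% @_root_.Cfsg.Agent.TAB.Eng.Op.one) →
    (type_of% @_root_.Cfsg.Agent.TAB.Eng.Op.gen) →
    (type_of% @_root_.Cfsg.Agent.TAB.Eng.Op.mul) →
    (type_of% @_root_.Cfsg.Agent.TAB.Eng.Op.lin) →
    ((List Cfsg.Agent.TAB.Eng.Op) → (List Cfsg.Agent.TAB.Eng.Op)) → T) : T :=
  f (fun x => x) (@_root_.List.cons.{0}) (@_root_.List.nil.{0}) (fun x => x) (@_root_.Prod.mk.{0, 0}) (@_root_.Cfsg.Agent.TAB.Eng.Cert.mk) (@_root_.Cfsg.Agent.TAB.Eng.Op.one) (@_root_.Cfsg.Agent.TAB.Eng.Op.gen) (@_root_.Cfsg.Agent.TAB.Eng.Op.mul) (@_root_.Cfsg.Agent.TAB.Eng.Op.lin) (fun x => x)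

/-!
# The table of `Co1` (helper11, TAB): the rows and the local certificates
-/

set_option autoImplicit false
set_option maxRecDepth 100000

namespace Cfsg.Agent.TAB.Co1

open Cfsg.Agent.TAB.Eng

/-- degree 1 -/
def r0 : List ℤ := (beta% delta% lq26bf99814e23 fun vqc0 vqc1 vqc2 _ _ _ _ _ _ _ _ =>
    (let vqy1 : type_of% (vqc0 _) := (let vqy2 : type_of% (vqc0 _) := (let vqy3 : type_of% (vqc0 _) := (let vqy4 : type_of% (vqc0 _) := (vqc1 1 (vqc1 1 (vqc1 1 (vqc1 1 (vqc1 1 (vqc1 1 (vqc1 1 vqc2)))))));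
    (vqc1 1 (vqc1 1 (vqc1 1 (vqc1 1 (vqc1 1 (vqc1 1 vqy4)))))));
    (let vqy5 : type_of% vqy3 := (vqc1 1 (vqc1 1 (vqc1 1 (vqc1 1 (vqc1 1 (vqc1 1 vqy3))))));
    (vqc1 1 (vqc1 1 (vqc1 1 (vqc1 1 (vqc1 1 (vqc1 1 vqy5))))))));
    (let vqy6 : type_of% vqy2 := (let vqy7 : type_of% vqy2 := (vqc1 1 (vqc1 1 (vqc1 1 (vqc1 1 (vqc1 1
    (vqc1 1 (vqc1 1 vqy2)))))));
    (vqc1 1 (vqc1 1 (vqc1 1 (vqc1 1 (vqc1 1 (vqc1 1 vqy7)))))));
    (let vqy8 : type_of% vqy6 := (vqc1 1 (vqc1 1 (vqc1 1 (vqc1 1 (vqc1 1 (vqc1 1 vqy6))))));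
    (vqc1 1 (vqc1 1 (vqc1 1 (vqc1 1 (vqc1 1 (vqc1 1 vqy8)))))))));
    (let vqy9 : type_of% vqy1 := (let vqy10 : type_of% vqy1 := (let vqy11 : type_of% vqy1 := (vqc1 1 (vqc1 1 (vqc1 1 (vqc1 1 (vqc1 1 (vqc1 1 (vqc1 1 vqy1)))))));
    (vqc1 1 (vqc1 1 (vqc1 1 (vqc1 1 (vqc1 1 (vqc1 1 vqy11)))))));
    (let vqy12 : type_of% vqy10 := (vqc1 1 (vqc1 1 (vqc1 1
    (vqc1 1 (vqc1 1 (vqc1 1 vqy10))))));
    (vqc1 1 (vqc1 1 (vqc1 1 (vqc1 1 (vqc1 1 (vqc1 1 vqy12))))))));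
    (let vqy13 : type_of% vqy9 := (let vqy14 : type_of% vqy9 := (vqc1 1 (vqc1 1 (vqc1 1 (vqc1 1 (vqc1 1 (vqc1 1 vqy9))))));
    (vqc1 1 (vqc1 1 (vqc1 1 (vqc1 1 (vqc1 1 (vqc1 1 vqy14)))))));
    (let vqy15 : type_of% vqy13 := (vqc1 1 (vqc1 1 (vqc1 1 (vqc1 1 (vqc1 1 (vqc1 1 vqy13))))));
    (vqc1 1 (vqc1 1 (vqc1 1 (vqc1 1 (vqc1 1 (vqc1 1 vqy15)))))))))))

/-- degree 276 -/
def r1 : List ℤ := (beta% delta% lq26bf99814e23 fun vqc0 vqc1 vqc2 _ _ _ _ _ _ _ _ =>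
    (let vqy1 : type_of% (vqc0 _) := (let vqy2 : type_of% (vqc0 _) := (let vqy3 : type_of% (vqc0 _) := (let vqy4 : type_of% (vqc0 _) := (vqc1 1 (vqc1 0 (vqc1 0 (vqc1 0 (vqc1 (-1) (vqc1 1 (vqc1 1 vqc2)))))));
    (vqc1 1 (vqc1 (-1) (vqc1 0 (vqc1 (-1) (vqc1 (-1) (vqc1 0 vqy4)))))));
    (let vqy5 : type_of% vqy3 := (vqc1 1 (vqc1 0 (vqc1 (-1) (vqc1 0 (vqc1 (-1) (vqc1 0 vqy3))))));
    (vqc1 1 (vqc1 0 (vqc1 (-1) (vqc1 0 (vqc1 (-2) (vqc1 2 vqy5))))))));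
    (let vqy6 : type_of% vqy2 := (let vqy7 : type_of% vqy2 := (vqc1 2 (vqc1 (-1) (vqc1 2 (vqc1 1 (vqc1 0 (vqc1 (-1) (vqc1 1 vqy2)))))));
    (vqc1 3 (vqc1 0 (vqc1 0
    (vqc1 1 (vqc1 2 (vqc1 (-2) vqy7)))))));
    (let vqy8 : type_of% vqy6 := (vqc1 0 (vqc1 0 (vqc1 3 (vqc1 (-2) (vqc1 (-1) (vqc1 3 vqy6))))));
    (vqc1 0 (vqc1 1 (vqc1 (-1) (vqc1 (-2) (vqc1 1 (vqc1 4 vqy8)))))))));
    (let vqy9 : type_of% vqy1 := (let vqy10 : type_of% vqy1 := (let vqy11 : type_of% vqy1 := (vqc1 (-2) (vqc1 1 (vqc1 6 (vqc1 (-2) (vqc1 2 (vqc1 0 (vqc1 3 vqy1)))))));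
    (vqc1 3 (vqc1 5 (vqc1 2 (vqc1 (-3) (vqc1 0 (vqc1 5 vqy11)))))));
    (let vqy12 : type_of% vqy10 := (vqc1 8 (vqc1 0 (vqc1 0 (vqc1 0 (vqc1 6 (vqc1 0 vqy10))))));
    (vqc1 0 (vqc1 0 (vqc1 10 (vqc1 3
    (vqc1 4 (vqc1 (-4) vqy12))))))));
    (let vqy13 : type_of% vqy9 := (let vqy14 : type_of% vqy9 := (vqc1 (-6) (vqc1 5 (vqc1 14 (vqc1 (-1) (vqc1 2 (vqc1 (-3) vqy9))))));
    (vqc1 0 (vqc1 0 (vqc1 21 (vqc1 6 (vqc1 1 (vqc1 14 vqy14)))))));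
    (let vqy15 : type_of% vqy13 := (vqc1 6 (vqc1 0 (vqc1 36 (vqc1 4 (vqc1 4 (vqc1 (-4) vqy13))))));
    (vqc1 276 (vqc1 20 (vqc1 12 (vqc1 (-12) (vqc1 78 (vqc1 15 vqy15)))))))))))

/-- degree 299 -/
def r2 : List ℤ := (beta% delta% lq26bf99814e23 fun vqc0 vqc1 vqc2 _ _ _ _ _ _ _ _ =>
    (let vqy1 : type_of% (vqc0 _) := (let vqy2 : type_of% (vqc0 _) := (let vqy3 : type_of% (vqc0 _) := (let vqy4 : type_of% (vqc0 _) := (vqc1 (-1) (vqc1 0 (vqc1 0 (vqc1 0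
    (vqc1 0 (vqc1 (-2) (vqc1 (-1) vqc2)))))));
    (vqc1 (-1) (vqc1 1 (vqc1 (-1) (vqc1 0 (vqc1 0 (vqc1 0 vqy4)))))));
    (let vqy5 : type_of% vqy3 := (vqc1 (-2) (vqc1 (-1) (vqc1 0 (vqc1 0 (vqc1 0 (vqc1 (-1) vqy3))))));
    (vqc1 (-1) (vqc1 (-1) (vqc1 0 (vqc1 0 (vqc1 1 (vqc1 1 vqy5))))))));
    (let vqy6 : type_of% vqy2 := (let vqy7 : type_of% vqy2 := (vqc1 (-2) (vqc1 1 (vqc1 1 (vqc1 2 (vqc1 (-1) (vqc1 1 (vqc1 2 vqy2)))))));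
    (vqc1 0 (vqc1 (-1) (vqc1 0 (vqc1 2 (vqc1 1 (vqc1 1 vqy7)))))));
    (let vqy8 : type_of% vqy6 := (vqc1 (-1) (vqc1 (-1) (vqc1 0 (vqc1 1 (vqc1 1 (vqc1 5
    vqy6))))));
    (vqc1 (-1) (vqc1 (-2) (vqc1 0 (vqc1 2 (vqc1 2 (vqc1 4 vqy8)))))))));
    (let vqy9 : type_of% vqy1 := (let vqy10 : type_of% vqy1 := (let vqy11 : type_of% vqy1 := (vqc1 1 (vqc1 2 (vqc1 9 (vqc1 1 (vqc1 (-3) (vqc1 0 (vqc1 0 vqy1)))))));
    (vqc1 5 (vqc1 (-2) (vqc1 (-3) (vqc1 2 (vqc1 3 (vqc1 3 vqy11)))))));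
    (let vqy12 : type_of% vqy10 := (vqc1 7 (vqc1 (-1) (vqc1 (-1) (vqc1 3 (vqc1 2 (vqc1 (-1) vqy10))))));
    (vqc1 (-1) (vqc1 (-1)
    (vqc1 5 (vqc1 5 (vqc1 (-5) (vqc1 3 vqy12))))))));
    (let vqy13 : type_of% vqy9 := (let vqy14 : type_of% vqy9 := (vqc1 5 (vqc1 10 (vqc1 10 (vqc1 4 (vqc1 (-2) (vqc1 2 vqy9))))));
    (vqc1 (-1) (vqc1 (-1) (vqc1 14 (vqc1 9 (vqc1 (-1) (vqc1 1 vqy14)))))));
    (let vqy15 : type_of% vqy13 := (vqc1 2 (vqc1 (-1) (vqc1 27 (vqc1 (-5) (vqc1 11 (vqc1 3 vqy13))))));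
    (vqc1 299 (vqc1 43 (vqc1 (-13) (vqc1 11 (vqc1 65 (vqc1 20 vqy15)))))))))))

/-- degree 1771 -/
def r3 : List ℤ := (beta% delta% lq26bf99814e23 fun vqc0 vqc1 vqc2 _ _ _ _ _ _ _ _ =>
    (let vqy1 : type_of% (vqc0 _) := (let vqy2 : type_of% (vqc0 _) := (let vqy3 : type_of% (vqc0 _) := (let vqy4 : type_of% (vqc0 _) := (vqc1 0 (vqc1 (-1) (vqc1 1
    (vqc1 0 (vqc1 1 (vqc1 (-1) (vqc1 (-2) vqc2)))))));
    (vqc1 0 (vqc1 0 (vqc1 (-2) (vqc1 1 (vqc1 1 (vqc1 (-1) vqy4)))))));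
    (let vqy5 : type_of% vqy3 := (vqc1 2 (vqc1 2 (vqc1 0 (vqc1 (-1) (vqc1 (-1) (vqc1 0 vqy3))))));
    (vqc1 2 (vqc1 0 (vqc1 0 (vqc1 0 (vqc1 2 (vqc1 (-2) vqy5))))))));
    (let vqy6 : type_of% vqy2 := (let vqy7 : type_of% vqy2 := (vqc1 3 (vqc1 0 (vqc1 0 (vqc1 1 (vqc1 (-1) (vqc1 0 (vqc1 (-1) vqy2)))))));
    (vqc1 1 (vqc1 2 (vqc1 1 (vqc1 (-1) (vqc1 1 (vqc1 1 vqy7)))))));
    (let vqy8 : type_of% vqy6 := (vqc1 1 (vqc1 (-1) (vqc1 3 (vqc1 2 (vqc1 0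
    (vqc1 (-4) vqy6))))));
    (vqc1 (-2) (vqc1 (-2) (vqc1 0 (vqc1 1 (vqc1 (-2) (vqc1 1 vqy8)))))))));
    (let vqy9 : type_of% vqy1 := (let vqy10 : type_of% vqy1 := (let vqy11 : type_of% vqy1 := (vqc1 1 (vqc1 0 (vqc1 (-2) (vqc1 (-2) (vqc1 6 (vqc1 1 (vqc1 4 vqy1)))))));
    (vqc1 (-2) (vqc1 9 (vqc1 1 (vqc1 1 (vqc1 (-1) (vqc1 4 vqy11)))))));
    (let vqy12 : type_of% vqy10 := (vqc1 7 (vqc1 (-1) (vqc1 (-1) (vqc1 (-1) (vqc1 7 (vqc1 (-2) vqy10))))));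
    (vqc1 3 (vqc1 (-1)
    (vqc1 14 (vqc1 0 (vqc1 11 (vqc1 3 vqy12))))))));
    (let vqy13 : type_of% vqy9 := (let vqy14 : type_of% vqy9 := (vqc1 6 (vqc1 (-6) (vqc1 21 (vqc1 0 (vqc1 (-3) (vqc1 2 vqy9))))));
    (vqc1 7 (vqc1 (-1) (vqc1 41 (vqc1 1 (vqc1 (-4) (vqc1 30 vqy14)))))));
    (let vqy15 : type_of% vqy13 := (vqc1 (-11) (vqc1 7 (vqc1 91 (vqc1 (-5) (vqc1 (-5) (vqc1 3 vqy13))))));
    (vqc1 1771 (vqc1 (-21) (vqc1 51 (vqc1 11 (vqc1 286 (vqc1 16 vqy15)))))))))))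

/-- degree 8855 -/
def r4 : List ℤ := (beta% delta% lq26bf99814e23 fun vqc0 vqc1 vqc2 _ _ _ _ _ _ _ _ =>
    (let vqy1 : type_of% (vqc0 _) := (let vqy2 : type_of% (vqc0 _) := (let vqy3 : type_of% (vqc0 _) := (let vqy4 : type_of% (vqc0 _) := (vqc1 0 (vqc1 1
    (vqc1 0 (vqc1 (-1) (vqc1 (-1) (vqc1 1 (vqc1 1 vqc2)))))));
    (vqc1 0 (vqc1 (-1) (vqc1 2 (vqc1 0 (vqc1 (-1) (vqc1 0 vqy4)))))));
    (let vqy5 : type_of% vqy3 := (vqc1 (-1) (vqc1 (-1) (vqc1 1 (vqc1 (-1) (vqc1 2 (vqc1 (-1) vqy3))))));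
    (vqc1 0 (vqc1 0 (vqc1 0 (vqc1 0 (vqc1 (-1) (vqc1 (-1) vqy5))))))));
    (let vqy6 : type_of% vqy2 := (let vqy7 : type_of% vqy2 := (vqc1 0 (vqc1 0 (vqc1 0 (vqc1 1 (vqc1 0 (vqc1 1 (vqc1 (-3) vqy2)))))));
    (vqc1 0 (vqc1 (-2) (vqc1 0 (vqc1 (-1) (vqc1 1 (vqc1 1 vqy7)))))));
    (let vqy8 : type_of% vqy6 := (vqc1 (-1) (vqc1 1 (vqc1 2 (vqc1 1
    (vqc1 0 (vqc1 (-5) vqy6))))));
    (vqc1 (-1) (vqc1 1 (vqc1 (-1) (vqc1 3 (vqc1 (-3) (vqc1 1 vqy8)))))))));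
    (let vqy9 : type_of% vqy1 := (let vqy10 : type_of% vqy1 := (let vqy11 : type_of% vqy1 := (vqc1 0 (vqc1 0 (vqc1 (-9) (vqc1 7 (vqc1 (-1) (vqc1 (-3) (vqc1 3 vqy1)))))));
    (vqc1 (-4) (vqc1 5 (vqc1 0 (vqc1 5 (vqc1 0 (vqc1 5 vqy11)))))));
    (let vqy12 : type_of% vqy10 := (vqc1 11 (vqc1 3 (vqc1 (-1) (vqc1 (-1) (vqc1 8 (vqc1 2 vqy10))))));
    (vqc1 (-3)
    (vqc1 1 (vqc1 21 (vqc1 0 (vqc1 (-1) (vqc1 7 vqy12))))))));
    (let vqy13 : type_of% vqy9 := (let vqy14 : type_of% vqy9 := (vqc1 15 (vqc1 (-15) (vqc1 39 (vqc1 3 (vqc1 3 (vqc1 1 vqy9))))));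
    (vqc1 (-1) (vqc1 (-5) (vqc1 85 (vqc1 0 (vqc1 5 (vqc1 39 vqy14)))))));
    (let vqy15 : type_of% vqy13 := (vqc1 (-1) (vqc1 (-7) (vqc1 231 (vqc1 7 (vqc1 (-9) (vqc1 (-1) vqy13))))));
    (vqc1 8855 (vqc1 (-105) (vqc1 15 (vqc1 55 (vqc1 935 (vqc1 35 vqy15)))))))))))

/-- degree 17250 -/
def r5 : List ℤ := (beta% delta% lq26bf99814e23 fun vqc0 vqc1 vqc2 _ _ _ _ _ _ _ _ =>
    (let vqy1 : type_of% (vqc0 _) := (let vqy2 : type_of% (vqc0 _) := (let vqy3 : type_of% (vqc0 _) := (let vqy4 : type_of% (vqc0 _) := (vqc1 (-1) (vqc1 0 (vqc1 (-1) (vqc1 (-1)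
    (vqc1 0 (vqc1 2 (vqc1 0 vqc2)))))));
    (vqc1 1 (vqc1 0 (vqc1 0 (vqc1 (-1) (vqc1 0 (vqc1 (-1) vqy4)))))));
    (let vqy5 : type_of% vqy3 := (vqc1 1 (vqc1 (-1) (vqc1 (-1) (vqc1 0 (vqc1 (-1) (vqc1 1 vqy3))))));
    (vqc1 1 (vqc1 0 (vqc1 0 (vqc1 0 (vqc1 1 (vqc1 (-3) vqy5))))))));
    (let vqy6 : type_of% vqy2 := (let vqy7 : type_of% vqy2 := (vqc1 1 (vqc1 1 (vqc1 (-2) (vqc1 0 (vqc1 1 (vqc1 0 (vqc1 (-2) vqy2)))))));
    (vqc1 (-5) (vqc1 0 (vqc1 1 (vqc1 0 (vqc1 0 (vqc1 0 vqy7)))))));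
    (let vqy8 : type_of% vqy6 := (vqc1 0 (vqc1 0 (vqc1 (-1) (vqc1 (-1) (vqc1 1 (vqc1 0
    vqy6))))));
    (vqc1 3 (vqc1 3 (vqc1 1 (vqc1 2 (vqc1 (-1) (vqc1 0 vqy8)))))))));
    (let vqy9 : type_of% vqy1 := (let vqy10 : type_of% vqy1 := (let vqy11 : type_of% vqy1 := (vqc1 1 (vqc1 2 (vqc1 5 (vqc1 (-3) (vqc1 1 (vqc1 (-4) (vqc1 5 vqy1)))))));
    (vqc1 3 (vqc1 0 (vqc1 5 (vqc1 0 (vqc1 5 (vqc1 0 vqy11)))))));
    (let vqy12 : type_of% vqy10 := (vqc1 6 (vqc1 (-2) (vqc1 2 (vqc1 6 (vqc1 (-3) (vqc1 0 vqy10))))));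
    (vqc1 0
    (vqc1 0 (vqc1 (-5) (vqc1 9 (vqc1 10 (vqc1 2 vqy12))))))));
    (let vqy13 : type_of% vqy9 := (let vqy14 : type_of% vqy9 := (vqc1 9 (vqc1 19 (vqc1 10 (vqc1 13 (vqc1 (-2) (vqc1 3 vqy9))))));
    (vqc1 (-6) (vqc1 6 (vqc1 0 (vqc1 25 (vqc1 0 (vqc1 (-35) vqy14)))))));
    (let vqy15 : type_of% vqy13 := (vqc1 (-30) (vqc1 0 (vqc1 50 (vqc1 18 (vqc1 50 (vqc1 10 vqy13))))));
    (vqc1 17250 (vqc1 610 (vqc1 90 (vqc1 66 (vqc1 285 (vqc1 141 vqy15)))))))))))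

/-- degree 27300 -/
def r6 : List ℤ := (beta% delta% lq26bf99814e23 fun vqc0 vqc1 vqc2 _ _ _ _ _ _ _ _ =>
    (let vqy1 : type_of% (vqc0 _) := (let vqy2 : type_of% (vqc0 _) := (let vqy3 : type_of% (vqc0 _) := (let vqy4 : type_of% (vqc0 _) := (vqc1 1 (vqc1 (-1) (vqc1 (-1) (vqc1 0 (vqc1 0
    (vqc1 2 (vqc1 1 vqc2)))))));
    (vqc1 0 (vqc1 1 (vqc1 0 (vqc1 0 (vqc1 0 (vqc1 0 vqy4)))))));
    (let vqy5 : type_of% vqy3 := (vqc1 2 (vqc1 0 (vqc1 0 (vqc1 0 (vqc1 0 (vqc1 0 vqy3))))));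
    (vqc1 (-1) (vqc1 0 (vqc1 0 (vqc1 (-1) (vqc1 2 (vqc1 2 vqy5))))))));
    (let vqy6 : type_of% vqy2 := (let vqy7 : type_of% vqy2 := (vqc1 3 (vqc1 0 (vqc1 0 (vqc1 (-2) (vqc1 0 (vqc1 0 (vqc1 2 vqy2)))))));
    (vqc1 4 (vqc1 0 (vqc1 (-2) (vqc1 0 (vqc1 (-2) (vqc1 2 vqy7)))))));
    (let vqy8 : type_of% vqy6 := (vqc1 0 (vqc1 0 (vqc1 0 (vqc1 2 (vqc1 0 (vqc1 9
    vqy6))))));
    (vqc1 0 (vqc1 2 (vqc1 0 (vqc1 2 (vqc1 2 (vqc1 2 vqy8)))))))));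
    (let vqy9 : type_of% vqy1 := (let vqy10 : type_of% vqy1 := (let vqy11 : type_of% vqy1 := (vqc1 2 (vqc1 (-2) (vqc1 26 (vqc1 2 (vqc1 6 (vqc1 2 (vqc1 (-4) vqy1)))))));
    (vqc1 6 (vqc1 10 (vqc1 6 (vqc1 6 (vqc1 0 (vqc1 0 vqy11)))))));
    (let vqy12 : type_of% vqy10 := (vqc1 8 (vqc1 0 (vqc1 0 (vqc1 0 (vqc1 3 (vqc1 0 vqy10))))));
    (vqc1 0
    (vqc1 0 (vqc1 14 (vqc1 0 (vqc1 20 (vqc1 12 vqy12))))))));
    (let vqy13 : type_of% vqy9 := (let vqy14 : type_of% vqy9 := (vqc1 30 (vqc1 30 (vqc1 30 (vqc1 0 (vqc1 6 (vqc1 6 vqy9))))));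
    (vqc1 0 (vqc1 0 (vqc1 90 (vqc1 10 (vqc1 0 (vqc1 66 vqy14)))))));
    (let vqy15 : type_of% vqy13 := (vqc1 30 (vqc1 0 (vqc1 308 (vqc1 20 (vqc1 20 (vqc1 12 vqy13))))));
    (vqc1 27300 (vqc1 420 (vqc1 156 (vqc1 132 (vqc1 1794 (vqc1 48 vqy15)))))))))))

/-- degree 37674 -/
def r7 : List ℤ := (beta% delta% lq26bf99814e23 fun vqc0 vqc1 vqc2 _ _ _ _ _ _ _ _ =>
    (let vqy1 : type_of% (vqc0 _) := (let vqy2 : type_of% (vqc0 _) := (let vqy3 : type_of% (vqc0 _) := (let vqy4 : type_of% (vqc0 _) := (vqc1 (-1) (vqc1 0 (vqc1 (-1) (vqc1 0 (vqc1 1 (vqc1 (-1) (vqc1 0 vqc2)))))));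
    (vqc1 0 (vqc1 0 (vqc1 0 (vqc1 0 (vqc1 1 (vqc1 0
    vqy4)))))));
    (let vqy5 : type_of% vqy3 := (vqc1 (-2) (vqc1 (-1) (vqc1 0 (vqc1 1 (vqc1 0 (vqc1 1 vqy3))))));
    (vqc1 (-1) (vqc1 0 (vqc1 1 (vqc1 0 (vqc1 1 (vqc1 1 vqy5))))))));
    (let vqy6 : type_of% vqy2 := (let vqy7 : type_of% vqy2 := (vqc1 (-3) (vqc1 0 (vqc1 0 (vqc1 (-3) (vqc1 1 (vqc1 (-1) (vqc1 (-1) vqy2)))))));
    (vqc1 0 (vqc1 0 (vqc1 0 (vqc1 (-1) (vqc1 0 (vqc1 0 vqy7)))))));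
    (let vqy8 : type_of% vqy6 := (vqc1 0 (vqc1 0
    (vqc1 0 (vqc1 (-1) (vqc1 0 (vqc1 0 vqy6))))));
    (vqc1 3 (vqc1 0 (vqc1 2 (vqc1 (-3) (vqc1 0 (vqc1 3 vqy8)))))))));
    (let vqy9 : type_of% vqy1 := (let vqy10 : type_of% vqy1 := (let vqy11 : type_of% vqy1 := (vqc1 1 (vqc1 (-1) (vqc1 5 (vqc1 (-3) (vqc1 (-7) (vqc1 (-1) (vqc1 2 vqy1)))))));
    (vqc1 0 (vqc1 (-3) (vqc1 (-3) (vqc1 (-3) (vqc1 (-3) (vqc1 7 vqy11)))))));
    (let vqy12 : type_of% vqy10 := (vqc1 22 (vqc1 (-2) (vqc1 2 (vqc1 (-2) (vqc1 9 (vqc1 0 vqy10))))));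
    (vqc1 0 (vqc1 0 (vqc1 35 (vqc1 0 (vqc1 (-14) (vqc1 (-6) vqy12))))))));
    (let vqy13 : type_of% vqy9 := (let vqy14 : type_of% vqy9 := (vqc1 (-15) (vqc1 0 (vqc1 81 (vqc1 (-6) (vqc1 (-3) (vqc1 0
    vqy9))))));
    (vqc1 (-6) (vqc1 6 (vqc1 189 (vqc1 9 (vqc1 (-1) (vqc1 45 vqy14)))))));
    (let vqy15 : type_of% vqy13 := (vqc1 9 (vqc1 0 (vqc1 602 (vqc1 (-6) (vqc1 (-6) (vqc1 2 vqy13))))));
    (vqc1 37674 (vqc1 42 (vqc1 (-78) (vqc1 (-54) (vqc1 2925 (vqc1 90 vqy15)))))))))))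

/-- degree 44275 -/
def r8 : List ℤ := (beta% delta% lq26bf99814e23 fun vqc0 vqc1 vqc2 _ _ _ _ _ _ _ _ =>
    (let vqy1 : type_of% (vqc0 _) := (let vqy2 : type_of% (vqc0 _) := (let vqy3 : type_of% (vqc0 _) := (let vqy4 : type_of% (vqc0 _) := (vqc1 0 (vqc1 0 (vqc1 1 (vqc1 0 (vqc1 0 (vqc1 0 (vqc1 (-1) vqc2)))))));
    (vqc1 (-1) (vqc1 (-1)
    (vqc1 1 (vqc1 1 (vqc1 0 (vqc1 0 vqy4)))))));
    (let vqy5 : type_of% vqy3 := (vqc1 1 (vqc1 2 (vqc1 1 (vqc1 (-1) (vqc1 1 (vqc1 0 vqy3))))));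
    (vqc1 0 (vqc1 1 (vqc1 0 (vqc1 0 (vqc1 (-2) (vqc1 (-2) vqy5))))))));
    (let vqy6 : type_of% vqy2 := (let vqy7 : type_of% vqy2 := (vqc1 (-1) (vqc1 (-1) (vqc1 (-1) (vqc1 2 (vqc1 0 (vqc1 0 (vqc1 0 vqy2)))))));
    (vqc1 (-3) (vqc1 1 (vqc1 0 (vqc1 0 (vqc1 (-1) (vqc1 (-1) vqy7)))))));
    (let vqy8 : type_of% vqy6 := (vqc1 1 (vqc1 1 (vqc1 (-3) (vqc1 0 (vqc1 (-1) (vqc1 7 vqy6))))));
    (vqc1 (-2) (vqc1 (-1) (vqc1 (-1) (vqc1 (-1) (vqc1 (-1)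
    (vqc1 5 vqy8)))))))));
    (let vqy9 : type_of% vqy1 := (let vqy10 : type_of% vqy1 := (let vqy11 : type_of% vqy1 := (vqc1 (-2) (vqc1 0 (vqc1 34 (vqc1 2 (vqc1 2 (vqc1 1 (vqc1 (-5) vqy1)))))));
    (vqc1 7 (vqc1 (-10) (vqc1 (-2) (vqc1 (-2) (vqc1 0 (vqc1 0 vqy11)))))));
    (let vqy12 : type_of% vqy10 := (vqc1 19 (vqc1 3 (vqc1 (-1) (vqc1 (-1) (vqc1 (-5) (vqc1 1 vqy10))))));
    (vqc1 1 (vqc1 1 (vqc1 0 (vqc1 7 (vqc1 (-5) (vqc1 (-5) vqy12))))))));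
    (let vqy13 : type_of% vqy9 := (let vqy14 : type_of% vqy9 := (vqc1 (-14) (vqc1 35 (vqc1 35 (vqc1 (-1)
    (vqc1 (-1) (vqc1 (-5) vqy9))))));
    (vqc1 7 (vqc1 (-5) (vqc1 70 (vqc1 30 (vqc1 0 (vqc1 (-46) vqy14)))))));
    (let vqy15 : type_of% vqy13 := (vqc1 (-5) (vqc1 1 (vqc1 307 (vqc1 (-13) (vqc1 35 (vqc1 (-13) vqy13))))));
    (vqc1 44275 (vqc1 755 (vqc1 (-77) (vqc1 (-77) (vqc1 2002 (vqc1 175 vqy15)))))))))))

/-- degree 80730 -/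
def r9 : List ℤ := (beta% delta% lq26bf99814e23 fun vqc0 vqc1 vqc2 _ _ _ _ _ _ _ _ =>
    (let vqy1 : type_of% (vqc0 _) := (let vqy2 : type_of% (vqc0 _) := (let vqy3 : type_of% (vqc0 _) := (let vqy4 : type_of% (vqc0 _) := (vqc1 1 (vqc1 (-1)
    (vqc1 0 (vqc1 0 (vqc1 (-1) (vqc1 (-1) (vqc1 0 vqc2)))))));
    (vqc1 0 (vqc1 (-2) (vqc1 0 (vqc1 0 (vqc1 1 (vqc1 1 vqy4)))))));
    (let vqy5 : type_of% vqy3 := (vqc1 0 (vqc1 1 (vqc1 2 (vqc1 0 (vqc1 0 (vqc1 (-1) vqy3))))));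
    (vqc1 (-1) (vqc1 0 (vqc1 (-1) (vqc1 0 (vqc1 (-3) (vqc1 1 vqy5))))))));
    (let vqy6 : type_of% vqy2 := (let vqy7 : type_of% vqy2 := (vqc1 0 (vqc1 0 (vqc1 0 (vqc1 (-3) (vqc1 1 (vqc1 (-1) (vqc1 (-1) vqy2)))))));
    (vqc1 4 (vqc1 0 (vqc1 1 (vqc1 (-1) (vqc1 0 (vqc1 0 vqy7)))))));
    (let vqy8 : type_of% vqy6 := (vqc1 0 (vqc1 0 (vqc1 0 (vqc1 (-1)
    (vqc1 2 (vqc1 (-6) vqy6))))));
    (vqc1 (-3) (vqc1 (-2) (vqc1 4 (vqc1 2 (vqc1 2 (vqc1 (-2) vqy8)))))))));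
    (let vqy9 : type_of% vqy1 := (let vqy10 : type_of% vqy1 := (let vqy11 : type_of% vqy1 := (vqc1 1 (vqc1 1 (vqc1 (-15) (vqc1 1 (vqc1 1 (vqc1 6 (vqc1 0 vqy1)))))));
    (vqc1 0 (vqc1 1 (vqc1 (-3) (vqc1 (-3) (vqc1 1 (vqc1 1 vqy11)))))));
    (let vqy12 : type_of% vqy10 := (vqc1 (-2) (vqc1 6 (vqc1 (-2) (vqc1 6 (vqc1 0 (vqc1 0 vqy10))))));
    (vqc1 0 (vqc1 0 (vqc1 (-1) (vqc1 6 (vqc1 (-6) (vqc1 2 vqy12))))))));
    (let vqy13 : type_of% vqy9 := (let vqy14 : type_of% vqy9 := (vqc1 (-15) (vqc1 6 (vqc1 6 (vqc1 24 (vqc1 6 (vqc1 6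
    vqy9))))));
    (vqc1 6 (vqc1 6 (vqc1 (-15) (vqc1 25 (vqc1 5 (vqc1 33 vqy14)))))));
    (let vqy15 : type_of% vqy13 := (vqc1 54 (vqc1 0 (vqc1 42 (vqc1 10 (vqc1 74 (vqc1 34 vqy13))))));
    (vqc1 80730 (vqc1 1626 (vqc1 (-78) (vqc1 186 (vqc1 (-351) (vqc1 216 vqy15)))))))))))

/-- degree 94875 -/
def r10 : List ℤ := (beta% delta% lq26bf99814e23 fun vqc0 vqc1 vqc2 _ _ _ _ _ _ _ _ =>
    (let vqy1 : type_of% (vqc0 _) := (let vqy2 : type_of% (vqc0 _) := (let vqy3 : type_of% (vqc0 _) := (let vqy4 : type_of% (vqc0 _) := (vqc1 0 (vqc1 0 (vqc1 0 (vqc1 1 (vqc1 (-1) (vqc1 0 (vqc1 (-1) vqc2)))))));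
    (vqc1 (-1) (vqc1 3 (vqc1 1 (vqc1 0 (vqc1 0
    (vqc1 0 vqy4)))))));
    (let vqy5 : type_of% vqy3 := (vqc1 1 (vqc1 (-1) (vqc1 (-1) (vqc1 0 (vqc1 1 (vqc1 (-1) vqy3))))));
    (vqc1 1 (vqc1 0 (vqc1 0 (vqc1 0 (vqc1 1 (vqc1 (-3) vqy5))))))));
    (let vqy6 : type_of% vqy2 := (let vqy7 : type_of% vqy2 := (vqc1 2 (vqc1 2 (vqc1 (-1) (vqc1 (-1) (vqc1 0 (vqc1 0 (vqc1 4 vqy2)))))));
    (vqc1 0 (vqc1 1 (vqc1 0 (vqc1 0 (vqc1 (-1) (vqc1 (-1) vqy7)))))));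
    (let vqy8 : type_of% vqy6 := (vqc1 (-1)
    (vqc1 1 (vqc1 1 (vqc1 (-3) (vqc1 1 (vqc1 (-5) vqy6))))));
    (vqc1 (-1) (vqc1 1 (vqc1 (-1) (vqc1 (-2) (vqc1 1 (vqc1 (-2) vqy8)))))))));
    (let vqy9 : type_of% vqy1 := (let vqy10 : type_of% vqy1 := (let vqy11 : type_of% vqy1 := (vqc1 0 (vqc1 0 (vqc1 9 (vqc1 1 (vqc1 5 (vqc1 6 (vqc1 3 vqy1)))))));
    (vqc1 0 (vqc1 15 (vqc1 0 (vqc1 (-5) (vqc1 0 (vqc1 0 vqy11)))))));
    (let vqy12 : type_of% vqy10 := (vqc1 3 (vqc1 3 (vqc1 (-1) (vqc1 3 (vqc1 6 (vqc1 3 vqy10))))));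
    (vqc1 1 (vqc1 (-3) (vqc1 25 (vqc1 (-3) (vqc1 19 (vqc1 (-13) vqy12))))))));
    (let vqy13 : type_of% vqy9 := (let vqy14 : type_of% vqy9 := (vqc1 (-35) (vqc1 5 (vqc1 50 (vqc1 (-1)
    (vqc1 2 (vqc1 (-3) vqy9))))));
    (vqc1 (-1) (vqc1 (-5) (vqc1 175 (vqc1 0 (vqc1 0 (vqc1 113 vqy14)))))));
    (let vqy15 : type_of% vqy13 := (vqc1 (-30) (vqc1 21 (vqc1 699 (vqc1 (-5) (vqc1 (-5) (vqc1 11 vqy13))))));
    (vqc1 94875 (vqc1 155 (vqc1 235 (vqc1 (-165) (vqc1 4785 (vqc1 15 vqy15)))))))))))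

/-- degree 313950 -/
def r11 : List ℤ := (beta% delta% lq26bf99814e23 fun vqc0 vqc1 vqc2 _ _ _ _ _ _ _ _ =>
    (let vqy1 : type_of% (vqc0 _) := (let vqy2 : type_of% (vqc0 _) := (let vqy3 : type_of% (vqc0 _) := (let vqy4 : type_of% (vqc0 _) := (vqc1 (-1) (vqc1 (-1) (vqc1 1 (vqc1 0 (vqc1 0 (vqc1 (-1) (vqc1 0 vqc2)))))));
    (vqc1 0 (vqc1 0 (vqc1 1
    (vqc1 0 (vqc1 0 (vqc1 0 vqy4)))))));
    (let vqy5 : type_of% vqy3 := (vqc1 (-1) (vqc1 1 (vqc1 (-1) (vqc1 1 (vqc1 0 (vqc1 0 vqy3))))));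
    (vqc1 2 (vqc1 0 (vqc1 (-1) (vqc1 0 (vqc1 (-1) (vqc1 3 vqy5))))))));
    (let vqy6 : type_of% vqy2 := (let vqy7 : type_of% vqy2 := (vqc1 (-1) (vqc1 (-1) (vqc1 (-1) (vqc1 0 (vqc1 0 (vqc1 0 (vqc1 (-1) vqy2)))))));
    (vqc1 (-4) (vqc1 1 (vqc1 2 (vqc1 0 (vqc1 0 (vqc1 0 vqy7)))))));
    (let vqy8 : type_of% vqy6 := (vqc1 (-1) (vqc1 1 (vqc1 0 (vqc1 2 (vqc1 0 (vqc1 16 vqy6))))));
    (vqc1 5 (vqc1 3 (vqc1 (-1) (vqc1 3 (vqc1 3
    (vqc1 (-3) vqy8)))))))));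
    (let vqy9 : type_of% vqy1 := (let vqy10 : type_of% vqy1 := (let vqy11 : type_of% vqy1 := (vqc1 (-2) (vqc1 (-1) (vqc1 (-5) (vqc1 3 (vqc1 (-1) (vqc1 1 (vqc1 7 vqy1)))))));
    (vqc1 3 (vqc1 0 (vqc1 (-6) (vqc1 4 (vqc1 0 (vqc1 0 vqy11)))))));
    (let vqy12 : type_of% vqy10 := (vqc1 (-6) (vqc1 2 (vqc1 (-2) (vqc1 (-2) (vqc1 3 (vqc1 3 vqy10))))));
    (vqc1 1 (vqc1 (-3) (vqc1 14 (vqc1 0 (vqc1 (-10) (vqc1 14 vqy12))))))));
    (let vqy13 : type_of% vqy9 := (let vqy14 : type_of% vqy9 := (vqc1 55 (vqc1 35 (vqc1 35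
    (vqc1 (-1) (vqc1 (-1) (vqc1 3 vqy9))))));
    (vqc1 14 (vqc1 10 (vqc1 160 (vqc1 (-10) (vqc1 0 (vqc1 35 vqy14)))))));
    (let vqy15 : type_of% vqy13 := (vqc1 75 (vqc1 21 (vqc1 910 (vqc1 (-18) (vqc1 30 (vqc1 (-10) vqy13))))));
    (vqc1 313950 (vqc1 350 (vqc1 (-26) (vqc1 318 (vqc1 8931 (vqc1 (-33) vqy15)))))))))))

/-- degree 345345 -/
def r12 : List ℤ := (beta% delta% lq26bf99814e23 fun vqc0 vqc1 vqc2 _ _ _ _ _ _ _ _ =>
    (let vqy1 : type_of% (vqc0 _) := (let vqy2 : type_of% (vqc0 _) := (let vqy3 : type_of% (vqc0 _) := (let vqy4 : type_of% (vqc0 _) := (vqc1 0 (vqc1 0 (vqc1 0 (vqc1 0 (vqc1 0 (vqc1 (-1) (vqc1 (-1) vqc2)))))));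
    (vqc1 0
    (vqc1 (-1) (vqc1 (-1) (vqc1 (-1) (vqc1 (-1) (vqc1 1 vqy4)))))));
    (let vqy5 : type_of% vqy3 := (vqc1 1 (vqc1 1 (vqc1 1 (vqc1 1 (vqc1 0 (vqc1 1 vqy3))))));
    (vqc1 (-1) (vqc1 0 (vqc1 0 (vqc1 0 (vqc1 (-5) (vqc1 (-1) vqy5))))))));
    (let vqy6 : type_of% vqy2 := (let vqy7 : type_of% vqy2 := (vqc1 2 (vqc1 (-1) (vqc1 (-1) (vqc1 2 (vqc1 0 (vqc1 1 (vqc1 (-1) vqy2)))))));
    (vqc1 (-1) (vqc1 (-1) (vqc1 (-1) (vqc1 1 (vqc1 (-1) (vqc1 (-1) vqy7)))))));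
    (let vqy8 : type_of% vqy6 := (vqc1 1 (vqc1 (-1) (vqc1 0 (vqc1 (-1) (vqc1 0 (vqc1 (-1) vqy6))))));
    (vqc1 1 (vqc1 (-3) (vqc1 1 (vqc1 1
    (vqc1 1 (vqc1 (-3) vqy8)))))))));
    (let vqy9 : type_of% vqy1 := (let vqy10 : type_of% vqy1 := (let vqy11 : type_of% vqy1 := (vqc1 (-2) (vqc1 0 (vqc1 (-21) (vqc1 3 (vqc1 7 (vqc1 (-3) (vqc1 (-3) vqy1)))))));
    (vqc1 (-3) (vqc1 14 (vqc1 2 (vqc1 2 (vqc1 4 (vqc1 (-1) vqy11)))))));
    (let vqy12 : type_of% vqy10 := (vqc1 5 (vqc1 (-3) (vqc1 1 (vqc1 1 (vqc1 6 (vqc1 (-3) vqy10))))));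
    (vqc1 (-1) (vqc1 3 (vqc1 35 (vqc1 0 (vqc1 25 (vqc1 1 vqy12))))))));
    (let vqy13 : type_of% vqy9 := (let vqy14 : type_of% vqy9 := (vqc1 (-1) (vqc1 (-19)
    (vqc1 89 (vqc1 5 (vqc1 (-7) (vqc1 (-3) vqy9))))));
    (vqc1 1 (vqc1 5 (vqc1 350 (vqc1 (-10) (vqc1 (-5) (vqc1 179 vqy14)))))));
    (let vqy15 : type_of% vqy13 := (vqc1 (-39) (vqc1 (-21) (vqc1 1617 (vqc1 (-15) (vqc1 1 (vqc1 (-23) vqy13))))));
    (vqc1 345345 (vqc1 (-511) (vqc1 377 (vqc1 33 (vqc1 13299 (vqc1 69 vqy15)))))))))))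

/-- degree 376740 -/
def r13 : List ℤ := (beta% delta% lq26bf99814e23 fun vqc0 vqc1 vqc2 _ _ _ _ _ _ _ _ =>
    (let vqy1 : type_of% (vqc0 _) := (let vqy2 : type_of% (vqc0 _) := (let vqy3 : type_of% (vqc0 _) := (let vqy4 : type_of% (vqc0 _) := (vqc1 1 (vqc1 0 (vqc1 0 (vqc1 0 (vqc1 1 (vqc1 0 (vqc1 0 vqc2)))))));
    (vqc1 (-1) (vqc1 0 (vqc1 1 (vqc1 (-1)
    (vqc1 (-1) (vqc1 (-1) vqy4)))))));
    (let vqy5 : type_of% vqy3 := (vqc1 (-1) (vqc1 0 (vqc1 (-1) (vqc1 1 (vqc1 0 (vqc1 0 vqy3))))));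
    (vqc1 0 (vqc1 1 (vqc1 1 (vqc1 0 (vqc1 2 (vqc1 2 vqy5))))))));
    (let vqy6 : type_of% vqy2 := (let vqy7 : type_of% vqy2 := (vqc1 0 (vqc1 0 (vqc1 0 (vqc1 (-3) (vqc1 (-2) (vqc1 0 (vqc1 0 vqy2)))))));
    (vqc1 7 (vqc1 1 (vqc1 1 (vqc1 (-1) (vqc1 0 (vqc1 0 vqy7)))))));
    (let vqy8 : type_of% vqy6 := (vqc1 0 (vqc1 0 (vqc1 0 (vqc1 0 (vqc1 (-1) (vqc1 (-8) vqy6))))));
    (vqc1 0 (vqc1 (-3) (vqc1 (-3) (vqc1 1 (vqc1 1 (vqc1 (-3)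
    vqy8)))))))));
    (let vqy9 : type_of% vqy1 := (let vqy10 : type_of% vqy1 := (let vqy11 : type_of% vqy1 := (vqc1 0 (vqc1 1 (vqc1 (-30) (vqc1 (-6) (vqc1 6 (vqc1 (-3) (vqc1 (-3) vqy1)))))));
    (vqc1 0 (vqc1 (-3) (vqc1 (-4) (vqc1 1 (vqc1 2 (vqc1 2 vqy11)))))));
    (let vqy12 : type_of% vqy10 := (vqc1 (-4) (vqc1 (-4) (vqc1 0 (vqc1 4 (vqc1 0 (vqc1 0 vqy10))))));
    (vqc1 (-4) (vqc1 4 (vqc1 0 (vqc1 7 (vqc1 (-4) (vqc1 (-4) vqy12))))))));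
    (let vqy13 : type_of% vqy9 := (let vqy14 : type_of% vqy9 := (vqc1 14 (vqc1 9 (vqc1 9
    (vqc1 9 (vqc1 9 (vqc1 1 vqy9))))));
    (vqc1 0 (vqc1 (-12) (vqc1 (-35) (vqc1 40 (vqc1 (-10) (vqc1 90 vqy14)))))));
    (let vqy15 : type_of% vqy13 := (vqc1 9 (vqc1 36 (vqc1 132 (vqc1 (-60) (vqc1 100 (vqc1 (-12) vqy13))))));
    (vqc1 376740 (vqc1 3492 (vqc1 (-364) (vqc1 100 (vqc1 (-1638) (vqc1 441 vqy15)))))))))))

/-- degree 483000 -/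
def r14 : List ℤ := (beta% delta% lq26bf99814e23 fun vqc0 vqc1 vqc2 _ _ _ _ _ _ _ _ =>
    (let vqy1 : type_of% (vqc0 _) := (let vqy2 : type_of% (vqc0 _) := (let vqy3 : type_of% (vqc0 _) := (let vqy4 : type_of% (vqc0 _) := (vqc1 1 (vqc1 (-1) (vqc1 1 (vqc1 1 (vqc1 0 (vqc1 2 (vqc1 1 vqc2)))))));
    (vqc1 0 (vqc1 1 (vqc1 0
    (vqc1 0 (vqc1 0 (vqc1 0 vqy4)))))));
    (let vqy5 : type_of% vqy3 := (vqc1 (-1) (vqc1 0 (vqc1 (-1) (vqc1 0 (vqc1 (-2) (vqc1 0 vqy3))))));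
    (vqc1 (-1) (vqc1 0 (vqc1 (-1) (vqc1 0 (vqc1 2 (vqc1 (-2) vqy5))))))));
    (let vqy6 : type_of% vqy2 := (let vqy7 : type_of% vqy2 := (vqc1 (-3) (vqc1 0 (vqc1 0 (vqc1 4 (vqc1 0 (vqc1 0 (vqc1 2 vqy2)))))));
    (vqc1 0 (vqc1 0 (vqc1 0 (vqc1 0 (vqc1 0 (vqc1 0 vqy7)))))));
    (let vqy8 : type_of% vqy6 := (vqc1 0 (vqc1 0 (vqc1 (-2) (vqc1 2 (vqc1 0 (vqc1 (-15) vqy6))))));
    (vqc1 0 (vqc1 3 (vqc1 (-1) (vqc1 2 (vqc1 (-1)
    (vqc1 0 vqy8)))))))));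
    (let vqy9 : type_of% vqy1 := (let vqy10 : type_of% vqy1 := (let vqy11 : type_of% vqy1 := (vqc1 0 (vqc1 1 (vqc1 (-14) (vqc1 (-6) (vqc1 (-10) (vqc1 4 (vqc1 (-5) vqy1)))))));
    (vqc1 (-6) (vqc1 (-20) (vqc1 0 (vqc1 0 (vqc1 0 (vqc1 0 vqy11)))))));
    (let vqy12 : type_of% vqy10 := (vqc1 16 (vqc1 0 (vqc1 0 (vqc1 0 (vqc1 (-3) (vqc1 0 vqy10))))));
    (vqc1 0 (vqc1 0 (vqc1 14 (vqc1 0 (vqc1 (-40) (vqc1 8 vqy12))))))));
    (let vqy13 : type_of% vqy9 := (let vqy14 : type_of% vqy9 := (vqc1 30 (vqc1 (-45) (vqc1 90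
    (vqc1 3 (vqc1 6 (vqc1 3 vqy9))))));
    (vqc1 0 (vqc1 0 (vqc1 300 (vqc1 0 (vqc1 0 (vqc1 (-54) vqy14)))))));
    (let vqy15 : type_of% vqy13 := (vqc1 (-30) (vqc1 0 (vqc1 1624 (vqc1 24 (vqc1 (-40) (vqc1 8 vqy13))))));
    (vqc1 483000 (vqc1 (-840) (vqc1 (-600) (vqc1 120 (vqc1 14730 (vqc1 195 vqy15)))))))))))

/-- degree 644644 -/
def r15 : List ℤ := (beta% delta% lq26bf99814e23 fun vqc0 vqc1 vqc2 _ _ _ _ _ _ _ _ =>
    (let vqy1 : type_of% (vqc0 _) := (let vqy2 : type_of% (vqc0 _) := (let vqy3 : type_of% (vqc0 _) := (let vqy4 : type_of% (vqc0 _) := (vqc1 0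
    (vqc1 0 (vqc1 (-1) (vqc1 0 (vqc1 0 (vqc1 0 (vqc1 (-1) vqc2)))))));
    (vqc1 0 (vqc1 1 (vqc1 (-1) (vqc1 1 (vqc1 (-2) (vqc1 0 vqy4)))))));
    (let vqy5 : type_of% vqy3 := (vqc1 (-1) (vqc1 1 (vqc1 1 (vqc1 0 (vqc1 0 (vqc1 0 vqy3))))));
    (vqc1 0 (vqc1 0 (vqc1 0 (vqc1 0 (vqc1 5 (vqc1 1 vqy5))))))));
    (let vqy6 : type_of% vqy2 := (let vqy7 : type_of% vqy2 := (vqc1 (-3) (vqc1 0 (vqc1 0 (vqc1 2 (vqc1 (-1) (vqc1 0 (vqc1 0 vqy2)))))));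
    (vqc1 5 (vqc1 (-1) (vqc1 2 (vqc1 0 (vqc1 0 (vqc1 0 vqy7)))))));
    (let vqy8 : type_of% vqy6 := (vqc1 1
    (vqc1 1 (vqc1 0 (vqc1 0 (vqc1 0 (vqc1 5 vqy6))))));
    (vqc1 1 (vqc1 3 (vqc1 5 (vqc1 (-4) (vqc1 (-1) (vqc1 0 vqy8)))))))));
    (let vqy9 : type_of% vqy1 := (let vqy10 : type_of% vqy1 := (let vqy11 : type_of% vqy1 := (vqc1 (-1) (vqc1 0 (vqc1 29 (vqc1 (-3) (vqc1 5 (vqc1 8 (vqc1 5 vqy1)))))));
    (vqc1 (-2) (vqc1 (-2) (vqc1 7 (vqc1 2 (vqc1 3 (vqc1 (-2) vqy11)))))));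
    (let vqy12 : type_of% vqy10 := (vqc1 4 (vqc1 4 (vqc1 4 (vqc1 0 (vqc1 1 (vqc1 4 vqy10))))));
    (vqc1 9 (vqc1 1 (vqc1 0 (vqc1 0 (vqc1 20 (vqc1 4 vqy12))))))));
    (let vqy13 : type_of% vqy9 := (let vqy14 : type_of% vqy9 := (vqc1 21 (vqc1 15 (vqc1 (-12)
    (vqc1 9 (vqc1 12 (vqc1 7 vqy9))))));
    (vqc1 28 (vqc1 4 (vqc1 14 (vqc1 (-1) (vqc1 (-6) (vqc1 141 vqy14)))))));
    (let vqy15 : type_of% vqy13 := (vqc1 100 (vqc1 49 (vqc1 (-28) (vqc1 36 (vqc1 20 (vqc1 68 vqy13))))));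
    (vqc1 644644 (vqc1 3108 (vqc1 1092 (vqc1 484 (vqc1 5005 (vqc1 217 vqy15)))))))))))

/-- degree 822250 -/
def r16 : List ℤ := (beta% delta% lq26bf99814e23 fun vqc0 vqc1 vqc2 _ _ _ _ _ _ _ _ =>
    (let vqy1 : type_of% (vqc0 _) := (let vqy2 : type_of% (vqc0 _) := (let vqy3 : type_of% (vqc0 _) := (let vqy4 : type_of% (vqc0 _) := (vqc1 0 (vqc1 1 (vqc1 (-1) (vqc1 0 (vqc1 (-1) (vqc1 0 (vqc1 0 vqc2)))))));
    (vqc1 1 (vqc1 0 (vqc1 (-1) (vqc1 0 (vqc1 0 (vqc1 0 vqy4)))))));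
    (let vqy5 : type_of% vqy3 := (vqc1 (-1) (vqc1 (-1) (vqc1 1 (vqc1 (-1) (vqc1 0 (vqc1 0
    vqy3))))));
    (vqc1 1 (vqc1 1 (vqc1 0 (vqc1 0 (vqc1 (-1) (vqc1 (-1) vqy5))))))));
    (let vqy6 : type_of% vqy2 := (let vqy7 : type_of% vqy2 := (vqc1 (-3) (vqc1 0 (vqc1 0 (vqc1 (-3) (vqc1 0 (vqc1 0 (vqc1 4 vqy2)))))));
    (vqc1 0 (vqc1 3 (vqc1 0 (vqc1 0 (vqc1 0 (vqc1 0 vqy7)))))));
    (let vqy8 : type_of% vqy6 := (vqc1 1 (vqc1 (-1) (vqc1 0 (vqc1 0 (vqc1 (-1) (vqc1 0 vqy6))))));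
    (vqc1 (-5) (vqc1 (-3)
    (vqc1 (-1) (vqc1 1 (vqc1 1 (vqc1 (-3) vqy8)))))))));
    (let vqy9 : type_of% vqy1 := (let vqy10 : type_of% vqy1 := (let vqy11 : type_of% vqy1 := (vqc1 0 (vqc1 0 (vqc1 35 (vqc1 3 (vqc1 (-13) (vqc1 5 (vqc1 11 vqy1)))))));
    (vqc1 4 (vqc1 (-15) (vqc1 0 (vqc1 5 (vqc1 0 (vqc1 0 vqy11)))))));
    (let vqy12 : type_of% vqy10 := (vqc1 (-10) (vqc1 (-2) (vqc1 2 (vqc1 2 (vqc1 1 (vqc1 (-2) vqy10))))));
    (vqc1 (-1) (vqc1 3 (vqc1 16 (vqc1 (-5) (vqc1 (-46) (vqc1 10 vqy12))))))));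
    (let vqy13 : type_of% vqy9 := (let vqy14 : type_of% vqy9 := (vqc1 35 (vqc1 45
    (vqc1 45 (vqc1 3 (vqc1 (-3) (vqc1 (-3) vqy9))))));
    (vqc1 (-14) (vqc1 (-10) (vqc1 225 (vqc1 0 (vqc1 0 (vqc1 (-45) vqy14)))))));
    (let vqy15 : type_of% vqy13 := (vqc1 (-35) (vqc1 43 (vqc1 1562 (vqc1 (-6) (vqc1 10 (vqc1 2 vqy13))))));
    (vqc1 822250 (vqc1 1770 (vqc1 (-910) (vqc1 330 (vqc1 17875 (vqc1 (-125) vqy15)))))))))))

/-- degree 871884 -/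
def r17 : List ℤ := (beta% delta% lq26bf99814e23 fun vqc0 vqc1 vqc2 _ _ _ _ _ _ _ _ =>
    (let vqy1 : type_of% (vqc0 _) := (let vqy2 : type_of% (vqc0 _) := (let vqy3 : type_of% (vqc0 _) := (let vqy4 : type_of% (vqc0 _) := (vqc1 (-1) (vqc1 1
    (vqc1 0 (vqc1 0 (vqc1 0 (vqc1 (-1) (vqc1 2 vqc2)))))));
    (vqc1 (-1) (vqc1 (-2) (vqc1 2 (vqc1 0 (vqc1 0 (vqc1 0 vqy4)))))));
    (let vqy5 : type_of% vqy3 := (vqc1 0 (vqc1 1 (vqc1 0 (vqc1 0 (vqc1 0 (vqc1 0 vqy3))))));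
    (vqc1 0 (vqc1 (-1) (vqc1 0 (vqc1 0 (vqc1 3 (vqc1 (-1) vqy5))))))));
    (let vqy6 : type_of% vqy2 := (let vqy7 : type_of% vqy2 := (vqc1 0 (vqc1 0 (vqc1 0 (vqc1 2 (vqc1 1 (vqc1 (-1) (vqc1 3 vqy2)))))));
    (vqc1 0 (vqc1 2 (vqc1 0 (vqc1 0 (vqc1 0 (vqc1 0 vqy7)))))));
    (let vqy8 : type_of% vqy6 := (vqc1 1 (vqc1 (-1) (vqc1 0
    (vqc1 2 (vqc1 (-1) (vqc1 (-10) vqy6))))));
    (vqc1 1 (vqc1 0 (vqc1 0 (vqc1 0 (vqc1 0 (vqc1 0 vqy8)))))))));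
    (let vqy9 : type_of% vqy1 := (let vqy10 : type_of% vqy1 := (let vqy11 : type_of% vqy1 := (vqc1 1 (vqc1 2 (vqc1 27 (vqc1 3 (vqc1 15 (vqc1 0 (vqc1 0 vqy1)))))));
    (vqc1 0 (vqc1 22 (vqc1 (-3) (vqc1 2 (vqc1 (-3) (vqc1 (-3) vqy11)))))));
    (let vqy12 : type_of% vqy10 := (vqc1 (-4) (vqc1 (-4) (vqc1 4 (vqc1 0 (vqc1 0 (vqc1 0 vqy10))))));
    (vqc1 7 (vqc1 3 (vqc1 6 (vqc1 (-1) (vqc1 60 (vqc1 12 vqy12))))))));
    (let vqy13 : type_of% vqy9 := (let vqy14 : type_of% vqy9 := (vqc1 55 (vqc1 0 (vqc1 0 (vqc1 0 (vqc1 0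
    (vqc1 0 vqy9))))));
    (vqc1 28 (vqc1 (-4) (vqc1 134 (vqc1 9 (vqc1 9 (vqc1 243 vqy14)))))));
    (let vqy15 : type_of% vqy13 := (vqc1 0 (vqc1 27 (vqc1 972 (vqc1 12 (vqc1 (-36) (vqc1 12 vqy13))))));
    (vqc1 871884 (vqc1 972 (vqc1 1612 (vqc1 396 (vqc1 15795 (vqc1 0 vqy15)))))))))))

/-- degree 1434510 -/
def r18 : List ℤ := (beta% delta% lq26bf99814e23 fun vqc0 vqc1 vqc2 _ _ _ _ _ _ _ _ =>
    (let vqy1 : type_of% (vqc0 _) := (let vqy2 : type_of% (vqc0 _) := (let vqy3 : type_of% (vqc0 _) := (let vqy4 : type_of% (vqc0 _) := (vqc1 0 (vqc1 1 (vqc1 0 (vqc1 (-1) (vqc1 1 (vqc1 1 (vqc1 2 vqc2)))))));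
    (vqc1 0 (vqc1 0 (vqc1 0 (vqc1 1 (vqc1 1
    (vqc1 0 vqy4)))))));
    (let vqy5 : type_of% vqy3 := (vqc1 0 (vqc1 1 (vqc1 0 (vqc1 (-1) (vqc1 (-1) (vqc1 (-1) vqy3))))));
    (vqc1 0 (vqc1 0 (vqc1 0 (vqc1 0 (vqc1 3 (vqc1 3 vqy5))))))));
    (let vqy6 : type_of% vqy2 := (let vqy7 : type_of% vqy2 := (vqc1 0 (vqc1 0 (vqc1 0 (vqc1 (-1) (vqc1 (-1) (vqc1 0 (vqc1 (-3) vqy2)))))));
    (vqc1 (-3) (vqc1 0 (vqc1 0 (vqc1 1 (vqc1 0 (vqc1 0 vqy7)))))));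
    (let vqy8 : type_of% vqy6 := (vqc1 0 (vqc1 0 (vqc1 (-1) (vqc1 1 (vqc1 0 (vqc1 12 vqy6))))));
    (vqc1 (-3) (vqc1 0 (vqc1 0 (vqc1 (-3) (vqc1 0 (vqc1 (-3)
    vqy8)))))))));
    (let vqy9 : type_of% vqy1 := (let vqy10 : type_of% vqy1 := (let vqy11 : type_of% vqy1 := (vqc1 1 (vqc1 0 (vqc1 (-33) (vqc1 (-9) (vqc1 3 (vqc1 (-3) (vqc1 0 vqy1)))))));
    (vqc1 0 (vqc1 3 (vqc1 1 (vqc1 (-9) (vqc1 3 (vqc1 (-2) vqy11)))))));
    (let vqy12 : type_of% vqy10 := (vqc1 (-6) (vqc1 2 (vqc1 (-2) (vqc1 2 (vqc1 0 (vqc1 0 vqy10))))));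
    (vqc1 0 (vqc1 0 (vqc1 21 (vqc1 0 (vqc1 6 (vqc1 (-18) vqy12))))))));
    (let vqy13 : type_of% vqy9 := (let vqy14 : type_of% vqy9 := (vqc1 (-69) (vqc1 0 (vqc1 81
    (vqc1 0 (vqc1 9 (vqc1 0 vqy9))))));
    (vqc1 6 (vqc1 (-6) (vqc1 435 (vqc1 (-15) (vqc1 10 (vqc1 135 vqy14)))))));
    (let vqy15 : type_of% vqy13 := (vqc1 81 (vqc1 0 (vqc1 2814 (vqc1 30 (vqc1 30 (vqc1 6 vqy13))))));
    (vqc1 1434510 (vqc1 (-882) (vqc1 246 (vqc1 (-594) (vqc1 32967 (vqc1 0 vqy15)))))))))))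

/-- degree 1450449 -/
def r19 : List ℤ := (beta% delta% lq26bf99814e23 fun vqc0 vqc1 vqc2 _ _ _ _ _ _ _ _ =>
    (let vqy1 : type_of% (vqc0 _) := (let vqy2 : type_of% (vqc0 _) := (let vqy3 : type_of% (vqc0 _) := (let vqy4 : type_of% (vqc0 _) := (vqc1 0 (vqc1 0 (vqc1 0 (vqc1 0 (vqc1 0 (vqc1 0 (vqc1 1 vqc2)))))));
    (vqc1 0
    (vqc1 (-1) (vqc1 (-1) (vqc1 0 (vqc1 1 (vqc1 0 vqy4)))))));
    (let vqy5 : type_of% vqy3 := (vqc1 (-2) (vqc1 (-2) (vqc1 0 (vqc1 0 (vqc1 0 (vqc1 0 vqy3))))));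
    (vqc1 0 (vqc1 0 (vqc1 0 (vqc1 0 (vqc1 (-2) (vqc1 2 vqy5))))))));
    (let vqy6 : type_of% vqy2 := (let vqy7 : type_of% vqy2 := (vqc1 0 (vqc1 0 (vqc1 0 (vqc1 4 (vqc1 0 (vqc1 1 (vqc1 0 vqy2)))))));
    (vqc1 8 (vqc1 3 (vqc1 2 (vqc1 (-1) (vqc1 (-1) (vqc1 (-1) vqy7)))))));
    (let vqy8 : type_of% vqy6 := (vqc1 (-1) (vqc1 (-1) (vqc1 0 (vqc1 0 (vqc1 0 (vqc1 3 vqy6))))));
    (vqc1 2 (vqc1 2 (vqc1 0
    (vqc1 4 (vqc1 (-2) (vqc1 2 vqy8)))))))));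
    (let vqy9 : type_of% vqy1 := (let vqy10 : type_of% vqy1 := (let vqy11 : type_of% vqy1 := (vqc1 (-2) (vqc1 0 (vqc1 66 (vqc1 2 (vqc1 (-6) (vqc1 6 (vqc1 0 vqy1)))))));
    (vqc1 0 (vqc1 20 (vqc1 6 (vqc1 (-4) (vqc1 0 (vqc1 (-5) vqy11)))))));
    (let vqy12 : type_of% vqy10 := (vqc1 5 (vqc1 (-3) (vqc1 1 (vqc1 (-3) (vqc1 0 (vqc1 0 vqy10))))));
    (vqc1 (-1) (vqc1 (-1) (vqc1 0 (vqc1 0 (vqc1 25 (vqc1 (-15) vqy12))))))));
    (let vqy13 : type_of% vqy9 := (let vqy14 : type_of% vqy9 := (vqc1 (-70) (vqc1 30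
    (vqc1 (-24) (vqc1 12 (vqc1 12 (vqc1 (-10) vqy9))))));
    (vqc1 (-7) (vqc1 5 (vqc1 84 (vqc1 14 (vqc1 (-1) (vqc1 354 vqy14)))))));
    (let vqy15 : type_of% vqy13 := (vqc1 144 (vqc1 63 (vqc1 609 (vqc1 65 (vqc1 1 (vqc1 (-39) vqy13))))));
    (vqc1 1450449 (vqc1 4305 (vqc1 1001 (vqc1 (-847) (vqc1 18018 (vqc1 252 vqy15)))))))))))

/-- degree 1771000 -/
def r20 : List ℤ := (beta% delta% lq26bf99814e23 fun vqc0 vqc1 vqc2 _ _ _ _ _ _ _ _ =>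
    (let vqy1 : type_of% (vqc0 _) := (let vqy2 : type_of% (vqc0 _) := (let vqy3 : type_of% (vqc0 _) := (let vqy4 : type_of% (vqc0 _) := (vqc1 0 (vqc1 1 (vqc1 (-1) (vqc1 0 (vqc1 (-1) (vqc1 (-2) (vqc1 0 vqc2)))))));
    (vqc1 0 (vqc1 0 (vqc1 (-1) (vqc1 0 (vqc1 0
    (vqc1 0 vqy4)))))));
    (let vqy5 : type_of% vqy3 := (vqc1 3 (vqc1 0 (vqc1 (-1) (vqc1 0 (vqc1 1 (vqc1 0 vqy3))))));
    (vqc1 1 (vqc1 0 (vqc1 0 (vqc1 0 (vqc1 0 (vqc1 4 vqy5))))))));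
    (let vqy6 : type_of% vqy2 := (let vqy7 : type_of% vqy2 := (vqc1 1 (vqc1 1 (vqc1 1 (vqc1 (-3) (vqc1 0 (vqc1 0 (vqc1 (-2) vqy2)))))));
    (vqc1 0 (vqc1 3 (vqc1 0 (vqc1 0 (vqc1 0 (vqc1 0 vqy7)))))));
    (let vqy8 : type_of% vqy6 := (vqc1 0 (vqc1 0 (vqc1 (-3) (vqc1 (-2) (vqc1 0 (vqc1 0 vqy6))))));
    (vqc1 0 (vqc1 (-1) (vqc1 (-1) (vqc1 2 (vqc1 (-1)
    (vqc1 2 vqy8)))))))));
    (let vqy9 : type_of% vqy1 := (let vqy10 : type_of% vqy1 := (let vqy11 : type_of% vqy1 := (vqc1 0 (vqc1 0 (vqc1 (-40) (vqc1 8 (vqc1 8 (vqc1 2 (vqc1 (-1) vqy1)))))));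
    (vqc1 (-5) (vqc1 (-15) (vqc1 0 (vqc1 5 (vqc1 0 (vqc1 0 vqy11)))))));
    (let vqy12 : type_of% vqy10 := (vqc1 16 (vqc1 0 (vqc1 0 (vqc1 0 (vqc1 (-11) (vqc1 1 vqy10))))));
    (vqc1 4 (vqc1 (-4) (vqc1 (-14) (vqc1 0 (vqc1 24 (vqc1 8 vqy12))))))));
    (let vqy13 : type_of% vqy9 := (let vqy14 : type_of% vqy9 := (vqc1 40 (vqc1 (-65) (vqc1 70
    (vqc1 7 (vqc1 (-2) (vqc1 (-1) vqy9))))));
    (vqc1 0 (vqc1 0 (vqc1 225 (vqc1 0 (vqc1 0 (vqc1 (-200) vqy14)))))));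
    (let vqy15 : type_of% vqy13 := (vqc1 70 (vqc1 28 (vqc1 2072 (vqc1 (-40) (vqc1 (-40) (vqc1 8 vqy13))))));
    (vqc1 1771000 (vqc1 (-3080) (vqc1 40 (vqc1 440 (vqc1 28600 (vqc1 295 vqy15)))))))))))

/-- degree 1821600 -/
def r21 : List ℤ := (beta% delta% lq26bf99814e23 fun vqc0 vqc1 vqc2 _ _ _ _ _ _ _ _ =>
    (let vqy1 : type_of% (vqc0 _) := (let vqy2 : type_of% (vqc0 _) := (let vqy3 : type_of% (vqc0 _) := (let vqy4 : type_of% (vqc0 _) := (vqc1 0 (vqc1 0 (vqc1 0 (vqc1 1 (vqc1 0 (vqc1 (-1) (vqc1 1 vqc2)))))));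
    (vqc1 1 (vqc1 1
    (vqc1 (-1) (vqc1 2 (vqc1 0 (vqc1 0 vqy4)))))));
    (let vqy5 : type_of% vqy3 := (vqc1 0 (vqc1 0 (vqc1 0 (vqc1 0 (vqc1 1 (vqc1 0 vqy3))))));
    (vqc1 (-1) (vqc1 (-1) (vqc1 0 (vqc1 0 (vqc1 0 (vqc1 0 vqy5))))))));
    (let vqy6 : type_of% vqy2 := (let vqy7 : type_of% vqy2 := (vqc1 0 (vqc1 0 (vqc1 0 (vqc1 (-2) (vqc1 0 (vqc1 0 (vqc1 (-1) vqy2)))))));
    (vqc1 (-2) (vqc1 (-1) (vqc1 (-2) (vqc1 0 (vqc1 0 (vqc1 0 vqy7)))))));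
    (let vqy8 : type_of% vqy6 := (vqc1 0 (vqc1 0 (vqc1 1 (vqc1 2 (vqc1 (-1) (vqc1 (-7) vqy6))))));
    (vqc1 0 (vqc1 2 (vqc1 (-2) (vqc1 (-2)
    (vqc1 (-2) (vqc1 (-4) vqy8)))))))));
    (let vqy9 : type_of% vqy1 := (let vqy10 : type_of% vqy1 := (let vqy11 : type_of% vqy1 := (vqc1 (-2) (vqc1 0 (vqc1 (-24) (vqc1 8 (vqc1 (-8) (vqc1 0 (vqc1 6 vqy1)))))));
    (vqc1 0 (vqc1 10 (vqc1 2 (vqc1 2 (vqc1 0 (vqc1 0 vqy11)))))));
    (let vqy12 : type_of% vqy10 := (vqc1 0 (vqc1 0 (vqc1 0 (vqc1 0 (vqc1 0 (vqc1 0 vqy10))))));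
    (vqc1 4 (vqc1 (-4) (vqc1 (-10) (vqc1 11 (vqc1 0 (vqc1 0 vqy12))))))));
    (let vqy13 : type_of% vqy9 := (let vqy14 : type_of% vqy9 := (vqc1 (-8) (vqc1 30
    (vqc1 30 (vqc1 (-6) (vqc1 (-6) (vqc1 (-10) vqy9))))));
    (vqc1 0 (vqc1 0 (vqc1 (-70) (vqc1 70 (vqc1 0 (vqc1 (-24) vqy14)))))));
    (let vqy15 : type_of% vqy13 := (vqc1 (-90) (vqc1 (-36) (vqc1 288 (vqc1 32 (vqc1 160 (vqc1 (-32) vqy13))))));
    (vqc1 1821600 (vqc1 9120 (vqc1 352 (vqc1 (-352) (vqc1 (-792) (vqc1 1098 vqy15)))))))))))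

/-- degree 2055625 -/
def r22 : List ℤ := (beta% delta% lq26bf99814e23 fun vqc0 vqc1 vqc2 _ _ _ _ _ _ _ _ =>
    (let vqy1 : type_of% (vqc0 _) := (let vqy2 : type_of% (vqc0 _) := (let vqy3 : type_of% (vqc0 _) := (let vqy4 : type_of% (vqc0 _) := (vqc1 0 (vqc1 0 (vqc1 0 (vqc1 0 (vqc1 0 (vqc1 (-2) (vqc1 0 vqc2)))))));
    (vqc1 0 (vqc1 0 (vqc1 0
    (vqc1 0 (vqc1 0 (vqc1 0 vqy4)))))));
    (let vqy5 : type_of% vqy3 := (vqc1 0 (vqc1 (-1) (vqc1 (-2) (vqc1 0 (vqc1 0 (vqc1 (-1) vqy3))))));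
    (vqc1 (-1) (vqc1 1 (vqc1 0 (vqc1 0 (vqc1 (-3) (vqc1 1 vqy5))))))));
    (let vqy6 : type_of% vqy2 := (let vqy7 : type_of% vqy2 := (vqc1 2 (vqc1 (-1) (vqc1 (-1) (vqc1 0 (vqc1 0 (vqc1 0 (vqc1 2 vqy2)))))));
    (vqc1 0 (vqc1 0 (vqc1 0 (vqc1 0 (vqc1 1 (vqc1 1 vqy7)))))));
    (let vqy8 : type_of% vqy6 := (vqc1 1 (vqc1 1 (vqc1 0 (vqc1 1 (vqc1 2 (vqc1 0 vqy6))))));
    (vqc1 (-5) (vqc1 6 (vqc1 0 (vqc1 (-2)
    (vqc1 (-2) (vqc1 0 vqy8)))))))));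
    (let vqy9 : type_of% vqy1 := (let vqy10 : type_of% vqy1 := (let vqy11 : type_of% vqy1 := (vqc1 0 (vqc1 0 (vqc1 (-15) (vqc1 9 (vqc1 (-3) (vqc1 (-12) (vqc1 0 vqy1)))))));
    (vqc1 1 (vqc1 0 (vqc1 0 (vqc1 0 (vqc1 0 (vqc1 0 vqy11)))))));
    (let vqy12 : type_of% vqy10 := (vqc1 1 (vqc1 1 (vqc1 5 (vqc1 (-3) (vqc1 (-2) (vqc1 (-5) vqy10))))));
    (vqc1 5 (vqc1 5 (vqc1 5 (vqc1 (-2) (vqc1 (-15) (vqc1 1 vqy12))))))));
    (let vqy13 : type_of% vqy9 := (let vqy14 : type_of% vqy9 := (vqc1 5 (vqc1 (-10)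
    (vqc1 (-10) (vqc1 32 (vqc1 2 (vqc1 (-10) vqy9))))));
    (vqc1 13 (vqc1 25 (vqc1 0 (vqc1 0 (vqc1 0 (vqc1 (-55) vqy14)))))));
    (let vqy15 : type_of% vqy13 := (vqc1 (-290) (vqc1 85 (vqc1 105 (vqc1 105 (vqc1 25 (vqc1 57 vqy13))))));
    (vqc1 2055625 (vqc1 7625 (vqc1 1625 (vqc1 (-55) (vqc1 (-3575) (vqc1 160 vqy15)))))))))))

/-- degree 2417415 -/
def r23 : List ℤ := (beta% delta% lq26bf99814e23 fun vqc0 vqc1 vqc2 _ _ _ _ _ _ _ _ =>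
    (let vqy1 : type_of% (vqc0 _) := (let vqy2 : type_of% (vqc0 _) := (let vqy3 : type_of% (vqc0 _) := (let vqy4 : type_of% (vqc0 _) := (vqc1 0 (vqc1 0 (vqc1 (-1) (vqc1 0 (vqc1 (-1) (vqc1 0 (vqc1 0 vqc2)))))));
    (vqc1 0 (vqc1 0 (vqc1 (-1) (vqc1 2 (vqc1 0 (vqc1 (-1) vqy4)))))));
    (let vqy5 : type_of% vqy3 := (vqc1 (-1) (vqc1 1 (vqc1 (-1) (vqc1 1 (vqc1 0
    (vqc1 0 vqy3))))));
    (vqc1 0 (vqc1 0 (vqc1 0 (vqc1 0 (vqc1 (-1) (vqc1 (-1) vqy5))))))));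
    (let vqy6 : type_of% vqy2 := (let vqy7 : type_of% vqy2 := (vqc1 1 (vqc1 (-2) (vqc1 1 (vqc1 3 (vqc1 1 (vqc1 1 (vqc1 0 vqy2)))))));
    (vqc1 (-2) (vqc1 (-1) (vqc1 1 (vqc1 0 (vqc1 (-1) (vqc1 (-1) vqy7)))))));
    (let vqy8 : type_of% vqy6 := (vqc1 0 (vqc1 0 (vqc1 0 (vqc1 0 (vqc1 0 (vqc1 8 vqy6))))));
    (vqc1 (-3) (vqc1 (-1)
    (vqc1 (-1) (vqc1 (-1) (vqc1 (-1) (vqc1 (-1) vqy8)))))))));
    (let vqy9 : type_of% vqy1 := (let vqy10 : type_of% vqy1 := (let vqy11 : type_of% vqy1 := (vqc1 3 (vqc1 0 (vqc1 35 (vqc1 11 (vqc1 (-1) (vqc1 (-1) (vqc1 (-1) vqy1)))))));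
    (vqc1 0 (vqc1 3 (vqc1 (-1) (vqc1 (-1) (vqc1 (-7) (vqc1 3 vqy11)))))));
    (let vqy12 : type_of% vqy10 := (vqc1 (-1) (vqc1 (-1) (vqc1 (-5) (vqc1 7 (vqc1 (-3) (vqc1 3 vqy10))))));
    (vqc1 4 (vqc1 4 (vqc1 0 (vqc1 0 (vqc1 (-1) (vqc1 (-1) vqy12))))))));
    (let vqy13 : type_of% vqy9 := (let vqy14 : type_of% vqy9 := (vqc1 7
    (vqc1 (-41) (vqc1 (-5) (vqc1 7 (vqc1 19 (vqc1 7 vqy9))))));
    (vqc1 (-21) (vqc1 (-9) (vqc1 35 (vqc1 (-5) (vqc1 15 (vqc1 (-5) vqy14)))))));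
    (let vqy15 : type_of% vqy13 := (vqc1 (-165) (vqc1 84 (vqc1 (-217) (vqc1 (-25) (vqc1 71 (vqc1 (-73) vqy13))))));
    (vqc1 2417415 (vqc1 5383 (vqc1 (-1001) (vqc1 583 (vqc1 3003 (vqc1 231 vqy15)))))))))))

/-- degree 2816856 -/
def r24 : List ℤ := (beta% delta% lq26bf99814e23 fun vqc0 vqc1 vqc2 _ _ _ _ _ _ _ _ =>
    (let vqy1 : type_of% (vqc0 _) := (let vqy2 : type_of% (vqc0 _) := (let vqy3 : type_of% (vqc0 _) := (let vqy4 : type_of% (vqc0 _) := (vqc1 1 (vqc1 1 (vqc1 0 (vqc1 0 (vqc1 0 (vqc1 (-2) (vqc1 1 vqc2)))))));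
    (vqc1 0 (vqc1 1 (vqc1 0 (vqc1 (-1) (vqc1 0
    (vqc1 1 vqy4)))))));
    (let vqy5 : type_of% vqy3 := (vqc1 (-1) (vqc1 0 (vqc1 (-1) (vqc1 0 (vqc1 (-1) (vqc1 0 vqy3))))));
    (vqc1 1 (vqc1 0 (vqc1 0 (vqc1 0 (vqc1 2 (vqc1 (-2) vqy5))))))));
    (let vqy6 : type_of% vqy2 := (let vqy7 : type_of% vqy2 := (vqc1 0 (vqc1 0 (vqc1 0 (vqc1 4 (vqc1 0 (vqc1 0 (vqc1 (-2) vqy2)))))));
    (vqc1 (-1) (vqc1 0 (vqc1 (-1) (vqc1 0 (vqc1 0 (vqc1 0 vqy7)))))));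
    (let vqy8 : type_of% vqy6 := (vqc1 0 (vqc1 0 (vqc1 3 (vqc1 (-2) (vqc1 0 (vqc1 9 vqy6))))));
    (vqc1 0 (vqc1 (-3) (vqc1 1 (vqc1 0 (vqc1 (-3) (vqc1 0
    vqy8)))))))));
    (let vqy9 : type_of% vqy1 := (let vqy10 : type_of% vqy1 := (let vqy11 : type_of% vqy1 := (vqc1 2 (vqc1 (-2) (vqc1 66 (vqc1 (-6) (vqc1 (-2) (vqc1 0 (vqc1 (-3) vqy1)))))));
    (vqc1 0 (vqc1 4 (vqc1 (-10) (vqc1 0 (vqc1 4 (vqc1 (-6) vqy11)))))));
    (let vqy12 : type_of% vqy10 := (vqc1 16 (vqc1 0 (vqc1 0 (vqc1 0 (vqc1 0 (vqc1 0 vqy10))))));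
    (vqc1 0 (vqc1 0 (vqc1 (-14) (vqc1 0 (vqc1 (-40) (vqc1 8 vqy12))))))));
    (let vqy13 : type_of% vqy9 := (let vqy14 : type_of% vqy9 := (vqc1 54 (vqc1 81 (vqc1 0
    (vqc1 9 (vqc1 0 (vqc1 9 vqy9))))));
    (vqc1 0 (vqc1 0 (vqc1 36 (vqc1 26 (vqc1 6 (vqc1 (-54) vqy14)))))));
    (let vqy15 : type_of% vqy13 := (vqc1 0 (vqc1 0 (vqc1 504 (vqc1 (-72) (vqc1 120 (vqc1 40 vqy13))))));
    (vqc1 2816856 (vqc1 10584 (vqc1 (-1080) (vqc1 792 (vqc1 18954 (vqc1 729 vqy15)))))))))))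

/-- degree 2877875 -/
def r25 : List ℤ := (beta% delta% lq26bf99814e23 fun vqc0 vqc1 vqc2 _ _ _ _ _ _ _ _ =>
    (let vqy1 : type_of% (vqc0 _) := (let vqy2 : type_of% (vqc0 _) := (let vqy3 : type_of% (vqc0 _) := (let vqy4 : type_of% (vqc0 _) := (vqc1 0 (vqc1 0 (vqc1 0 (vqc1 0 (vqc1 0 (vqc1 1 (vqc1 0 vqc2)))))));
    (vqc1 0 (vqc1 0 (vqc1 0 (vqc1 (-1) (vqc1 0 (vqc1 1 vqy4)))))));
    (let vqy5 : type_of% vqy3 := (vqc1 (-1) (vqc1 (-1) (vqc1 1 (vqc1 1 (vqc1 0 (vqc1 (-1)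
    vqy3))))));
    (vqc1 1 (vqc1 0 (vqc1 0 (vqc1 0 (vqc1 (-1) (vqc1 (-1) vqy5))))))));
    (let vqy6 : type_of% vqy2 := (let vqy7 : type_of% vqy2 := (vqc1 2 (vqc1 (-1) (vqc1 (-1) (vqc1 0 (vqc1 (-1) (vqc1 0 (vqc1 1 vqy2)))))));
    (vqc1 (-5) (vqc1 0 (vqc1 1 (vqc1 0 (vqc1 1 (vqc1 1 vqy7)))))));
    (let vqy8 : type_of% vqy6 := (vqc1 (-1) (vqc1 (-1) (vqc1 0 (vqc1 1 (vqc1 0 (vqc1 0 vqy6))))));
    (vqc1 (-1) (vqc1 (-1) (vqc1 1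
    (vqc1 (-3) (vqc1 3 (vqc1 (-1) vqy8)))))))));
    (let vqy9 : type_of% vqy1 := (let vqy10 : type_of% vqy1 := (let vqy11 : type_of% vqy1 := (vqc1 1 (vqc1 0 (vqc1 15 (vqc1 (-1) (vqc1 7 (vqc1 3 (vqc1 9 vqy1)))))));
    (vqc1 (-1) (vqc1 0 (vqc1 5 (vqc1 0 (vqc1 (-5) (vqc1 0 vqy11)))))));
    (let vqy12 : type_of% vqy10 := (vqc1 23 (vqc1 (-1) (vqc1 (-1) (vqc1 (-5) (vqc1 (-10) (vqc1 (-1) vqy10))))));
    (vqc1 (-5) (vqc1 3 (vqc1 (-35) (vqc1 0 (vqc1 35 (vqc1 (-5) vqy12))))))));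
    (let vqy13 : type_of% vqy9 := (let vqy14 : type_of% vqy9 := (vqc1 (-41) (vqc1 11
    (vqc1 65 (vqc1 (-19) (vqc1 5 (vqc1 3 vqy9))))));
    (vqc1 (-1) (vqc1 (-1) (vqc1 0 (vqc1 25 (vqc1 0 (vqc1 (-385) vqy14)))))));
    (let vqy15 : type_of% vqy13 := (vqc1 (-55) (vqc1 35 (vqc1 1155 (vqc1 35 (vqc1 (-45) (vqc1 (-5) vqy13))))));
    (vqc1 2877875 (vqc1 1715 (vqc1 715 (vqc1 (-429) (vqc1 20735 (vqc1 701 vqy15)))))))))))

/-- degree 4100096 -/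
def r26 : List ℤ := (beta% delta% lq26bf99814e23 fun vqc0 vqc1 vqc2 _ _ _ _ _ _ _ _ =>
    (let vqy1 : type_of% (vqc0 _) := (let vqy2 : type_of% (vqc0 _) := (let vqy3 : type_of% (vqc0 _) := (let vqy4 : type_of% (vqc0 _) := (vqc1 0 (vqc1 0 (vqc1 1
    (vqc1 0 (vqc1 0 (vqc1 0 (vqc1 (-1) vqc2)))))));
    (vqc1 1 (vqc1 (-1) (vqc1 0 (vqc1 0 (vqc1 (-1) (vqc1 (-1) vqy4)))))));
    (let vqy5 : type_of% vqy3 := (vqc1 0 (vqc1 0 (vqc1 0 (vqc1 0 (vqc1 0 (vqc1 0 vqy3))))));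
    (vqc1 0 (vqc1 (-1) (vqc1 0 (vqc1 1 (vqc1 0 (vqc1 0 vqy5))))))));
    (let vqy6 : type_of% vqy2 := (let vqy7 : type_of% vqy2 := (vqc1 1 (vqc1 1 (vqc1 1 (vqc1 (-4) (vqc1 0 (vqc1 0 (vqc1 0 vqy2)))))));
    (vqc1 4 (vqc1 (-4) (vqc1 1 (vqc1 (-1) (vqc1 0 (vqc1 0 vqy7)))))));
    (let vqy8 : type_of% vqy6 := (vqc1 0 (vqc1 0 (vqc1 0 (vqc1 0
    (vqc1 1 (vqc1 (-1) vqy6))))));
    (vqc1 0 (vqc1 0 (vqc1 0 (vqc1 0 (vqc1 0 (vqc1 0 vqy8)))))))));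
    (let vqy9 : type_of% vqy1 := (let vqy10 : type_of% vqy1 := (let vqy11 : type_of% vqy1 := (vqc1 0 (vqc1 0 (vqc1 64 (vqc1 0 (vqc1 0 (vqc1 (-8) (vqc1 (-8) vqy1)))))));
    (vqc1 5 (vqc1 (-4) (vqc1 0 (vqc1 0 (vqc1 (-4) (vqc1 (-4) vqy11)))))));
    (let vqy12 : type_of% vqy10 := (vqc1 0 (vqc1 0 (vqc1 0 (vqc1 0 (vqc1 (-7) (vqc1 (-1) vqy10))))));
    (vqc1 0 (vqc1 0 (vqc1 0 (vqc1 (-7) (vqc1 0 (vqc1 0 vqy12))))))));
    (let vqy13 : type_of% vqy9 := (let vqy14 : type_of% vqy9 := (vqc1 0 (vqc1 64 (vqc1 64 (vqc1 (-8) (vqc1 (-8)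
    (vqc1 0 vqy9))))));
    (vqc1 0 (vqc1 0 (vqc1 476 (vqc1 16 (vqc1 (-4) (vqc1 64 vqy14)))))));
    (let vqy15 : type_of% vqy13 := (vqc1 (-16) (vqc1 (-64) (vqc1 4096 (vqc1 0 (vqc1 0 (vqc1 0 vqy13))))));
    (vqc1 4100096 (vqc1 4096 (vqc1 0 (vqc1 0 (vqc1 64064 (vqc1 56 vqy15)))))))))))

/-- degree 5494125 -/
def r27 : List ℤ := (beta% delta% lq26bf99814e23 fun vqc0 vqc1 vqc2 _ _ _ _ _ _ _ _ =>
    (let vqy1 : type_of% (vqc0 _) := (let vqy2 : type_of% (vqc0 _) := (let vqy3 : type_of% (vqc0 _) := (let vqy4 : type_of% (vqc0 _) := (vqc1 (-1) (vqc1 0 (vqc1 1 (vqc1 0 (vqc1 0 (vqc1 0 (vqc1 0 vqc2)))))));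
    (vqc1 0 (vqc1 0 (vqc1 0 (vqc1 (-1)
    (vqc1 0 (vqc1 1 vqy4)))))));
    (let vqy5 : type_of% vqy3 := (vqc1 2 (vqc1 (-1) (vqc1 0 (vqc1 (-1) (vqc1 0 (vqc1 0 vqy3))))));
    (vqc1 0 (vqc1 0 (vqc1 1 (vqc1 0 (vqc1 (-1) (vqc1 (-1) vqy5))))))));
    (let vqy6 : type_of% vqy2 := (let vqy7 : type_of% vqy2 := (vqc1 (-1) (vqc1 (-1) (vqc1 2 (vqc1 0 (vqc1 (-1) (vqc1 0 (vqc1 0 vqy2)))))));
    (vqc1 (-5) (vqc1 0 (vqc1 1 (vqc1 0 (vqc1 (-1) (vqc1 (-1) vqy7)))))));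
    (let vqy8 : type_of% vqy6 := (vqc1 0 (vqc1 0 (vqc1 0 (vqc1 0 (vqc1 0 (vqc1 0 vqy6))))));
    (vqc1 3 (vqc1 4 (vqc1 (-2) (vqc1 1 (vqc1 4 (vqc1 1
    vqy8)))))))));
    (let vqy9 : type_of% vqy1 := (let vqy10 : type_of% vqy1 := (let vqy11 : type_of% vqy1 := (vqc1 1 (vqc1 (-1) (vqc1 (-5) (vqc1 (-5) (vqc1 (-5) (vqc1 1 (vqc1 (-2) vqy1)))))));
    (vqc1 (-3) (vqc1 0 (vqc1 5 (vqc1 0 (vqc1 (-5) (vqc1 0 vqy11)))))));
    (let vqy12 : type_of% vqy10 := (vqc1 (-7) (vqc1 1 (vqc1 5 (vqc1 5 (vqc1 3 (vqc1 0 vqy10))))));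
    (vqc1 0 (vqc1 0 (vqc1 0 (vqc1 0 (vqc1 5 (vqc1 (-3) vqy12))))))));
    (let vqy13 : type_of% vqy9 := (let vqy14 : type_of% vqy9 := (vqc1 (-21) (vqc1 (-4) (vqc1 5
    (vqc1 38 (vqc1 (-19) (vqc1 12 vqy9))))));
    (vqc1 21 (vqc1 9 (vqc1 0 (vqc1 25 (vqc1 0 (vqc1 (-85) vqy14)))))));
    (let vqy15 : type_of% vqy13 := (vqc1 165 (vqc1 0 (vqc1 (-35) (vqc1 61 (vqc1 205 (vqc1 37 vqy13))))));
    (vqc1 5494125 (vqc1 19565 (vqc1 1365 (vqc1 1101 (vqc1 (-1365) (vqc1 966 vqy15)))))))))))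

/-- degree 5801796 -/
def r28 : List ℤ := (beta% delta% lq26bf99814e23 fun vqc0 vqc1 vqc2 _ _ _ _ _ _ _ _ =>
    (let vqy1 : type_of% (vqc0 _) := (let vqy2 : type_of% (vqc0 _) := (let vqy3 : type_of% (vqc0 _) := (let vqy4 : type_of% (vqc0 _) := (vqc1 0 (vqc1 0 (vqc1 0 (vqc1 0 (vqc1 2 (vqc1 0 (vqc1 0 vqc2)))))));
    (vqc1 0
    (vqc1 2 (vqc1 (-1) (vqc1 1 (vqc1 (-2) (vqc1 1 vqy4)))))));
    (let vqy5 : type_of% vqy3 := (vqc1 (-1) (vqc1 (-1) (vqc1 1 (vqc1 0 (vqc1 0 (vqc1 0 vqy3))))));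
    (vqc1 0 (vqc1 0 (vqc1 0 (vqc1 0 (vqc1 (-1) (vqc1 (-1) vqy5))))))));
    (let vqy6 : type_of% vqy2 := (let vqy7 : type_of% vqy2 := (vqc1 0 (vqc1 0 (vqc1 0 (vqc1 0 (vqc1 1 (vqc1 (-1) (vqc1 0 vqy2)))))));
    (vqc1 1 (vqc1 3 (vqc1 1 (vqc1 0 (vqc1 0 (vqc1 0 vqy7)))))));
    (let vqy8 : type_of% vqy6 := (vqc1 (-1) (vqc1 (-1) (vqc1 0 (vqc1 0 (vqc1 0 (vqc1 6 vqy6))))));
    (vqc1 (-1) (vqc1 3
    (vqc1 (-3) (vqc1 2 (vqc1 (-1) (vqc1 0 vqy8)))))))));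
    (let vqy9 : type_of% vqy1 := (let vqy10 : type_of% vqy1 := (let vqy11 : type_of% vqy1 := (vqc1 1 (vqc1 0 (vqc1 15 (vqc1 15 (vqc1 15 (vqc1 (-12) (vqc1 (-3) vqy1)))))));
    (vqc1 0 (vqc1 (-4) (vqc1 1 (vqc1 (-4) (vqc1 1 (vqc1 1 vqy11)))))));
    (let vqy12 : type_of% vqy10 := (vqc1 (-4) (vqc1 12 (vqc1 (-4) (vqc1 0 (vqc1 0 (vqc1 0 vqy10))))));
    (vqc1 (-1) (vqc1 (-1) (vqc1 0 (vqc1 0 (vqc1 (-28) (vqc1 4 vqy12))))))));
    (let vqy13 : type_of% vqy9 := (let vqy14 : type_of% vqy9 := (vqc1 (-49)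
    (vqc1 (-9) (vqc1 18 (vqc1 9 (vqc1 (-18) (vqc1 (-1) vqy9))))));
    (vqc1 (-28) (vqc1 (-4) (vqc1 (-84) (vqc1 1 (vqc1 21 (vqc1 207 vqy14)))))));
    (let vqy15 : type_of% vqy13 := (vqc1 90 (vqc1 63 (vqc1 420 (vqc1 36 (vqc1 (-76) (vqc1 (-12) vqy13))))));
    (vqc1 5801796 (vqc1 (-4284) (vqc1 (-364) (vqc1 836 (vqc1 (-9009) (vqc1 441 vqy15)))))))))))

/-- degree 7628985 -/
def r29 : List ℤ := (beta% delta% lq26bf99814e23 fun vqc0 vqc1 vqc2 _ _ _ _ _ _ _ _ =>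
    (let vqy1 : type_of% (vqc0 _) := (let vqy2 : type_of% (vqc0 _) := (let vqy3 : type_of% (vqc0 _) := (let vqy4 : type_of% (vqc0 _) := (vqc1 1 (vqc1 0 (vqc1 0 (vqc1 0 (vqc1 (-1) (vqc1 0 (vqc1 (-1) vqc2)))))));
    (vqc1 (-1) (vqc1 (-1) (vqc1 (-2) (vqc1 1 (vqc1 0
    (vqc1 0 vqy4)))))));
    (let vqy5 : type_of% vqy3 := (vqc1 0 (vqc1 (-2) (vqc1 0 (vqc1 0 (vqc1 0 (vqc1 0 vqy3))))));
    (vqc1 0 (vqc1 1 (vqc1 1 (vqc1 0 (vqc1 0 (vqc1 0 vqy5))))))));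
    (let vqy6 : type_of% vqy2 := (let vqy7 : type_of% vqy2 := (vqc1 0 (vqc1 0 (vqc1 0 (vqc1 5 (vqc1 1 (vqc1 (-1) (vqc1 0 vqy2)))))));
    (vqc1 (-3) (vqc1 (-2) (vqc1 0 (vqc1 0 (vqc1 1 (vqc1 1 vqy7)))))));
    (let vqy8 : type_of% vqy6 := (vqc1 (-1) (vqc1 1 (vqc1 0 (vqc1 0 (vqc1 (-1) (vqc1 7 vqy6))))));
    (vqc1 2 (vqc1 0 (vqc1 0 (vqc1 0 (vqc1 0 (vqc1 0
    vqy8)))))))));
    (let vqy9 : type_of% vqy1 := (let vqy10 : type_of% vqy1 := (let vqy11 : type_of% vqy1 := (vqc1 1 (vqc1 1 (vqc1 (-36) (vqc1 (-12) (vqc1 0 (vqc1 0 (vqc1 0 vqy1)))))));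
    (vqc1 0 (vqc1 17 (vqc1 1 (vqc1 1 (vqc1 (-3) (vqc1 (-3) vqy11)))))));
    (let vqy12 : type_of% vqy10 := (vqc1 (-15) (vqc1 1 (vqc1 1 (vqc1 (-3) (vqc1 0 (vqc1 0 vqy10))))));
    (vqc1 (-7) (vqc1 (-3) (vqc1 0 (vqc1 7 (vqc1 9 (vqc1 9 vqy12))))))));
    (let vqy13 : type_of% vqy9 := (let vqy14 : type_of% vqy9 := (vqc1 56 (vqc1 0 (vqc1 0
    (vqc1 0 (vqc1 0 (vqc1 0 vqy9))))));
    (vqc1 (-7) (vqc1 1 (vqc1 385 (vqc1 (-15) (vqc1 (-15) (vqc1 324 vqy14)))))));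
    (let vqy15 : type_of% vqy13 := (vqc1 0 (vqc1 (-27) (vqc1 4185 (vqc1 (-39) (vqc1 9 (vqc1 9 vqy13))))));
    (vqc1 7628985 (vqc1 (-1863) (vqc1 1001 (vqc1 441 (vqc1 88452 (vqc1 0 vqy15)))))))))))

/-- degree 9221850 -/
def r30 : List ℤ := (beta% delta% lq26bf99814e23 fun vqc0 vqc1 vqc2 _ _ _ _ _ _ _ _ =>
    (let vqy1 : type_of% (vqc0 _) := (let vqy2 : type_of% (vqc0 _) := (let vqy3 : type_of% (vqc0 _) := (let vqy4 : type_of% (vqc0 _) := (vqc1 0 (vqc1 (-1) (vqc1 0 (vqc1 1 (vqc1 0 (vqc1 1 (vqc1 (-1) vqc2)))))));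
    (vqc1 0 (vqc1 (-1) (vqc1 2 (vqc1 (-1)
    (vqc1 0 (vqc1 0 vqy4)))))));
    (let vqy5 : type_of% vqy3 := (vqc1 0 (vqc1 (-1) (vqc1 0 (vqc1 0 (vqc1 1 (vqc1 0 vqy3))))));
    (vqc1 0 (vqc1 (-1) (vqc1 0 (vqc1 0 (vqc1 3 (vqc1 (-1) vqy5))))))));
    (let vqy6 : type_of% vqy2 := (let vqy7 : type_of% vqy2 := (vqc1 0 (vqc1 0 (vqc1 0 (vqc1 2 (vqc1 0 (vqc1 0 (vqc1 (-3) vqy2)))))));
    (vqc1 3 (vqc1 2 (vqc1 0 (vqc1 0 (vqc1 0 (vqc1 0 vqy7)))))));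
    (let vqy8 : type_of% vqy6 := (vqc1 1 (vqc1 (-1) (vqc1 1 (vqc1 (-2) (vqc1 0 (vqc1 23 vqy6))))));
    (vqc1 (-5) (vqc1 0 (vqc1 0 (vqc1 0 (vqc1 0
    (vqc1 0 vqy8)))))))));
    (let vqy9 : type_of% vqy1 := (let vqy10 : type_of% vqy1 := (let vqy11 : type_of% vqy1 := (vqc1 2 (vqc1 0 (vqc1 (-81) (vqc1 15 (vqc1 (-9) (vqc1 0 (vqc1 0 vqy1)))))));
    (vqc1 0 (vqc1 (-10) (vqc1 2 (vqc1 2 (vqc1 0 (vqc1 0 vqy11)))))));
    (let vqy12 : type_of% vqy10 := (vqc1 (-10) (vqc1 (-2) (vqc1 2 (vqc1 (-6) (vqc1 0 (vqc1 0 vqy10))))));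
    (vqc1 7 (vqc1 3 (vqc1 (-6) (vqc1 8 (vqc1 (-30) (vqc1 (-6) vqy12))))))));
    (let vqy13 : type_of% vqy9 := (let vqy14 : type_of% vqy9 := (vqc1 (-41) (vqc1 0
    (vqc1 0 (vqc1 0 (vqc1 0 (vqc1 0 vqy9))))));
    (vqc1 (-14) (vqc1 (-10) (vqc1 230 (vqc1 (-30) (vqc1 0 (vqc1 (-81) vqy14)))))));
    (let vqy15 : type_of% vqy13 := (vqc1 0 (vqc1 27 (vqc1 3402 (vqc1 42 (vqc1 90 (vqc1 18 vqy13))))));
    (vqc1 9221850 (vqc1 (-5670) (vqc1 (-1598) (vqc1 (-198) (vqc1 82863 (vqc1 0 vqy15)))))))))))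

/-- degree 9669660 -/
def r31 : List ℤ := (beta% delta% lq26bf99814e23 fun vqc0 vqc1 vqc2 _ _ _ _ _ _ _ _ =>
    (let vqy1 : type_of% (vqc0 _) := (let vqy2 : type_of% (vqc0 _) := (let vqy3 : type_of% (vqc0 _) := (let vqy4 : type_of% (vqc0 _) := (vqc1 0 (vqc1 0 (vqc1 (-1) (vqc1 0 (vqc1 2 (vqc1 0 (vqc1 (-1) vqc2)))))));
    (vqc1 0 (vqc1 (-1) (vqc1 1 (vqc1 (-1) (vqc1 1 (vqc1 0 vqy4)))))));
    (let vqy5 : type_of% vqy3 := (vqc1 0 (vqc1 (-1) (vqc1 0 (vqc1 0 (vqc1 0 (vqc1 0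
    vqy3))))));
    (vqc1 0 (vqc1 0 (vqc1 0 (vqc1 0 (vqc1 (-3) (vqc1 (-3) vqy5))))))));
    (let vqy6 : type_of% vqy2 := (let vqy7 : type_of% vqy2 := (vqc1 1 (vqc1 (-2) (vqc1 1 (vqc1 (-4) (vqc1 (-1) (vqc1 0 (vqc1 0 vqy2)))))));
    (vqc1 3 (vqc1 1 (vqc1 0 (vqc1 1 (vqc1 0 (vqc1 0 vqy7)))))));
    (let vqy8 : type_of% vqy6 := (vqc1 (-1) (vqc1 1 (vqc1 0 (vqc1 0 (vqc1 0 (vqc1 (-17) vqy6))))));
    (vqc1 (-1) (vqc1 2
    (vqc1 2 (vqc1 (-2) (vqc1 (-2) (vqc1 2 vqy8)))))))));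
    (let vqy9 : type_of% vqy1 := (let vqy10 : type_of% vqy1 := (let vqy11 : type_of% vqy1 := (vqc1 (-1) (vqc1 0 (vqc1 29 (vqc1 5 (vqc1 (-7) (vqc1 2 (vqc1 2 vqy1)))))));
    (vqc1 0 (vqc1 8 (vqc1 (-1) (vqc1 4 (vqc1 3 (vqc1 (-2) vqy11)))))));
    (let vqy12 : type_of% vqy10 := (vqc1 (-12) (vqc1 4 (vqc1 (-4) (vqc1 0 (vqc1 (-3) (vqc1 3 vqy10))))));
    (vqc1 1 (vqc1 (-3) (vqc1 0 (vqc1 0 (vqc1 12 (vqc1 12 vqy12))))))));
    (let vqy13 : type_of% vqy9 := (let vqy14 : type_of% vqy9 := (vqc1 49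
    (vqc1 (-50) (vqc1 (-14) (vqc1 (-2) (vqc1 10 (vqc1 6 vqy9))))));
    (vqc1 (-28) (vqc1 4 (vqc1 280 (vqc1 15 (vqc1 10 (vqc1 229 vqy14)))))));
    (let vqy15 : type_of% vqy13 := (vqc1 (-174) (vqc1 21 (vqc1 3836 (vqc1 (-4) (vqc1 (-20) (vqc1 (-52) vqy13))))));
    (vqc1 9669660 (vqc1 28 (vqc1 364 (vqc1 924 (vqc1 93093 (vqc1 (-210) vqy15)))))))))))

/-- degree 12432420 -/
def r32 : List ℤ := (beta% delta% lq26bf99814e23 fun vqc0 vqc1 vqc2 _ _ _ _ _ _ _ _ =>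
    (let vqy1 : type_of% (vqc0 _) := (let vqy2 : type_of% (vqc0 _) := (let vqy3 : type_of% (vqc0 _) := (let vqy4 : type_of% (vqc0 _) := (vqc1 0 (vqc1 1 (vqc1 0 (vqc1 0 (vqc1 1 (vqc1 1 (vqc1 0 vqc2)))))));
    (vqc1 0 (vqc1 2 (vqc1 0 (vqc1 0 (vqc1 1
    (vqc1 (-1) vqy4)))))));
    (let vqy5 : type_of% vqy3 := (vqc1 0 (vqc1 0 (vqc1 0 (vqc1 0 (vqc1 0 (vqc1 0 vqy3))))));
    (vqc1 (-2) (vqc1 0 (vqc1 0 (vqc1 0 (vqc1 0 (vqc1 0 vqy5))))))));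
    (let vqy6 : type_of% vqy2 := (let vqy7 : type_of% vqy2 := (vqc1 0 (vqc1 0 (vqc1 0 (vqc1 3 (vqc1 (-1) (vqc1 0 (vqc1 1 vqy2)))))));
    (vqc1 (-4) (vqc1 0 (vqc1 (-1) (vqc1 (-1) (vqc1 2 (vqc1 (-2) vqy7)))))));
    (let vqy8 : type_of% vqy6 := (vqc1 0 (vqc1 0 (vqc1 0 (vqc1 (-2) (vqc1 0 (vqc1 6 vqy6))))));
    (vqc1 0 (vqc1 (-2) (vqc1 2 (vqc1 2 (vqc1 2 (vqc1 (-2)
    vqy8)))))))));
    (let vqy9 : type_of% vqy1 := (let vqy10 : type_of% vqy1 := (let vqy11 : type_of% vqy1 := (vqc1 (-1) (vqc1 0 (vqc1 0 (vqc1 16 (vqc1 8 (vqc1 6 (vqc1 (-6) vqy1)))))));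
    (vqc1 0 (vqc1 (-1) (vqc1 3 (vqc1 3 (vqc1 (-1) (vqc1 4 vqy11)))))));
    (let vqy12 : type_of% vqy10 := (vqc1 0 (vqc1 8 (vqc1 0 (vqc1 0 (vqc1 0 (vqc1 0 vqy10))))));
    (vqc1 0 (vqc1 0 (vqc1 (-14) (vqc1 0 (vqc1 36 (vqc1 12 vqy12))))))));
    (let vqy13 : type_of% vqy9 := (let vqy14 : type_of% vqy9 := (vqc1 120 (vqc1 114
    (vqc1 6 (vqc1 6 (vqc1 6 (vqc1 (-6) vqy9))))));
    (vqc1 0 (vqc1 24 (vqc1 15 (vqc1 (-25) (vqc1 20 (vqc1 (-48) vqy14)))))));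
    (let vqy15 : type_of% vqy13 := (vqc1 54 (vqc1 0 (vqc1 1428 (vqc1 52 (vqc1 20 (vqc1 (-4) vqy13))))));
    (vqc1 12432420 (vqc1 8484 (vqc1 2028 (vqc1 2244 (vqc1 61776 (vqc1 54 vqy15)))))))))))

/-- degree 16347825 -/
def r33 : List ℤ := (beta% delta% lq26bf99814e23 fun vqc0 vqc1 vqc2 _ _ _ _ _ _ _ _ =>
    (let vqy1 : type_of% (vqc0 _) := (let vqy2 : type_of% (vqc0 _) := (let vqy3 : type_of% (vqc0 _) := (let vqy4 : type_of% (vqc0 _) := (vqc1 (-1) (vqc1 1 (vqc1 0 (vqc1 0 (vqc1 0 (vqc1 2 (vqc1 (-1) vqc2)))))));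
    (vqc1 (-1) (vqc1 (-1) (vqc1 0
    (vqc1 1 (vqc1 0 (vqc1 0 vqy4)))))));
    (let vqy5 : type_of% vqy3 := (vqc1 (-2) (vqc1 0 (vqc1 0 (vqc1 0 (vqc1 0 (vqc1 1 vqy3))))));
    (vqc1 2 (vqc1 0 (vqc1 (-1) (vqc1 0 (vqc1 (-2) (vqc1 2 vqy5))))))));
    (let vqy6 : type_of% vqy2 := (let vqy7 : type_of% vqy2 := (vqc1 0 (vqc1 0 (vqc1 0 (vqc1 2 (vqc1 0 (vqc1 0 (vqc1 2 vqy2)))))));
    (vqc1 1 (vqc1 0 (vqc1 (-2) (vqc1 0 (vqc1 1 (vqc1 1 vqy7)))))));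
    (let vqy8 : type_of% vqy6 := (vqc1 0 (vqc1 0 (vqc1 0 (vqc1 (-1) (vqc1 1 (vqc1 (-9) vqy6))))));
    (vqc1 0 (vqc1 0 (vqc1 2 (vqc1 0
    (vqc1 0 (vqc1 0 vqy8)))))))));
    (let vqy9 : type_of% vqy1 := (let vqy10 : type_of% vqy1 := (let vqy11 : type_of% vqy1 := (vqc1 0 (vqc1 (-1) (vqc1 (-66) (vqc1 6 (vqc1 2 (vqc1 0 (vqc1 (-6) vqy1)))))));
    (vqc1 0 (vqc1 (-10) (vqc1 4 (vqc1 (-6) (vqc1 0 (vqc1 0 vqy11)))))));
    (let vqy12 : type_of% vqy10 := (vqc1 (-7) (vqc1 (-7) (vqc1 (-3) (vqc1 (-3) (vqc1 0 (vqc1 0 vqy10))))));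
    (vqc1 0 (vqc1 0 (vqc1 11 (vqc1 (-3) (vqc1 25 (vqc1 9 vqy12))))))));
    (let vqy13 : type_of% vqy9 := (let vqy14 : type_of% vqy9 := (vqc1 (-54)
    (vqc1 0 (vqc1 0 (vqc1 18 (vqc1 0 (vqc1 0 vqy9))))));
    (vqc1 (-27) (vqc1 (-15) (vqc1 (-90) (vqc1 40 (vqc1 0 (vqc1 54 vqy14)))))));
    (let vqy15 : type_of% vqy13 := (vqc1 0 (vqc1 0 (vqc1 657 (vqc1 (-111) (vqc1 225 (vqc1 65 vqy13))))));
    (vqc1 16347825 (vqc1 35505 (vqc1 (-351) (vqc1 945 (vqc1 (-18954) (vqc1 1458 vqy15)))))))))))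

/-- degree 20083140 -/
def r34 : List ℤ := (beta% delta% lq26bf99814e23 fun vqc0 vqc1 vqc2 _ _ _ _ _ _ _ _ =>
    (let vqy1 : type_of% (vqc0 _) := (let vqy2 : type_of% (vqc0 _) := (let vqy3 : type_of% (vqc0 _) := (let vqy4 : type_of% (vqc0 _) := (vqc1 0 (vqc1 0 (vqc1 0 (vqc1 (-1) (vqc1 0 (vqc1 0 (vqc1 (-1) vqc2)))))));
    (vqc1 0 (vqc1 1 (vqc1 0 (vqc1 (-1) (vqc1 0 (vqc1 1 vqy4)))))));
    (let vqy5 : type_of% vqy3 := (vqc1 1 (vqc1 0 (vqc1 (-1) (vqc1 (-1) (vqc1 (-1) (vqc1 0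
    vqy3))))));
    (vqc1 0 (vqc1 0 (vqc1 0 (vqc1 0 (vqc1 4 (vqc1 0 vqy5))))))));
    (let vqy6 : type_of% vqy2 := (let vqy7 : type_of% vqy2 := (vqc1 0 (vqc1 0 (vqc1 0 (vqc1 2 (vqc1 2 (vqc1 1 (vqc1 0 vqy2)))))));
    (vqc1 7 (vqc1 0 (vqc1 1 (vqc1 0 (vqc1 0 (vqc1 0 vqy7)))))));
    (let vqy8 : type_of% vqy6 := (vqc1 0 (vqc1 0 (vqc1 (-1) (vqc1 0 (vqc1 0 (vqc1 (-3) vqy6))))));
    (vqc1 0
    (vqc1 (-1) (vqc1 1 (vqc1 (-3) (vqc1 3 (vqc1 (-1) vqy8)))))))));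
    (let vqy9 : type_of% vqy1 := (let vqy10 : type_of% vqy1 := (let vqy11 : type_of% vqy1 := (vqc1 0 (vqc1 0 (vqc1 (-36) (vqc1 (-4) (vqc1 4 (vqc1 3 (vqc1 (-3) vqy1)))))));
    (vqc1 0 (vqc1 (-2) (vqc1 (-4) (vqc1 6 (vqc1 (-2) (vqc1 3 vqy11)))))));
    (let vqy12 : type_of% vqy10 := (vqc1 (-12) (vqc1 4 (vqc1 0 (vqc1 (-4) (vqc1 0 (vqc1 0 vqy10))))));
    (vqc1 0 (vqc1 0 (vqc1 0 (vqc1 0 (vqc1 (-20) (vqc1 (-4) vqy12))))))));
    (let vqy13 : type_of% vqy9 := (let vqy14 : type_of% vqy9 := (vqc1 84 (vqc1 (-9) (vqc1 45 (vqc1 (-27) (vqc1 9 (vqc1 (-9) vqy9))))));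
    (vqc1 0 (vqc1 12 (vqc1 (-210) (vqc1 40 (vqc1 15 (vqc1 396
    vqy14)))))));
    (let vqy15 : type_of% vqy13 := (vqc1 405 (vqc1 0 (vqc1 1092 (vqc1 68 (vqc1 36 (vqc1 (-92) vqy13))))));
    (vqc1 20083140 (vqc1 19908 (vqc1 (-924) (vqc1 (-1980) (vqc1 (-24948) (vqc1 1701 vqy15)))))))))))

/-- degree 21049875 -/
def r35 : List ℤ := (beta% delta% lq26bf99814e23 fun vqc0 vqc1 vqc2 _ _ _ _ _ _ _ _ =>
    (let vqy1 : type_of% (vqc0 _) := (let vqy2 : type_of% (vqc0 _) := (let vqy3 : type_of% (vqc0 _) := (let vqy4 : type_of% (vqc0 _) := (vqc1 0 (vqc1 (-1) (vqc1 0 (vqc1 (-1) (vqc1 0 (vqc1 (-1) (vqc1 1 vqc2)))))));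
    (vqc1 0 (vqc1 1 (vqc1 0 (vqc1 0 (vqc1 0
    (vqc1 0 vqy4)))))));
    (let vqy5 : type_of% vqy3 := (vqc1 0 (vqc1 2 (vqc1 0 (vqc1 0 (vqc1 2 (vqc1 1 vqy3))))));
    (vqc1 0 (vqc1 0 (vqc1 0 (vqc1 (-1) (vqc1 0 (vqc1 0 vqy5))))))));
    (let vqy6 : type_of% vqy2 := (let vqy7 : type_of% vqy2 := (vqc1 0 (vqc1 0 (vqc1 0 (vqc1 4 (vqc1 0 (vqc1 0 (vqc1 3 vqy2)))))));
    (vqc1 0 (vqc1 0 (vqc1 0 (vqc1 0 (vqc1 1 (vqc1 1 vqy7)))))));
    (let vqy8 : type_of% vqy6 := (vqc1 0 (vqc1 0 (vqc1 2 (vqc1 (-1) (vqc1 0 (vqc1 (-15) vqy6))))));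
    (vqc1 6 (vqc1 0 (vqc1 0 (vqc1 0 (vqc1 0
    (vqc1 0 vqy8)))))))));
    (let vqy9 : type_of% vqy1 := (let vqy10 : type_of% vqy1 := (let vqy11 : type_of% vqy1 := (vqc1 0 (vqc1 0 (vqc1 36 (vqc1 12 (vqc1 0 (vqc1 0 (vqc1 0 vqy1)))))));
    (vqc1 0 (vqc1 (-20) (vqc1 0 (vqc1 0 (vqc1 0 (vqc1 0 vqy11)))))));
    (let vqy12 : type_of% vqy10 := (vqc1 (-9) (vqc1 (-1) (vqc1 (-1) (vqc1 3 (vqc1 0 (vqc1 0 vqy10))))));
    (vqc1 0 (vqc1 0 (vqc1 (-21) (vqc1 0 (vqc1 (-45) (vqc1 (-21) vqy12))))))));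
    (let vqy13 : type_of% vqy9 := (let vqy14 : type_of% vqy9 := (vqc1 (-120) (vqc1 0
    (vqc1 0 (vqc1 0 (vqc1 0 (vqc1 0 vqy9))))));
    (vqc1 15 (vqc1 15 (vqc1 300 (vqc1 0 (vqc1 0 (vqc1 (-324) vqy14)))))));
    (let vqy15 : type_of% vqy13 := (vqc1 0 (vqc1 0 (vqc1 5859 (vqc1 3 (vqc1 (-45) (vqc1 27 vqy13))))));
    (vqc1 21049875 (vqc1 2835 (vqc1 (-2325) (vqc1 (-1485) (vqc1 160380 (vqc1 0 vqy15)))))))))))

/-- degree 21528000 -/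
def r36 : List ℤ := (beta% delta% lq26bf99814e23 fun vqc0 vqc1 vqc2 _ _ _ _ _ _ _ _ =>
    (let vqy1 : type_of% (vqc0 _) := (let vqy2 : type_of% (vqc0 _) := (let vqy3 : type_of% (vqc0 _) := (let vqy4 : type_of% (vqc0 _) := (vqc1 (-1) (vqc1 0 (vqc1 0 (vqc1 0 (vqc1 (-1) (vqc1 (-1) (vqc1 (-1) vqc2)))))));
    (vqc1 2 (vqc1 3 (vqc1 1 (vqc1 0
    (vqc1 0 (vqc1 0 vqy4)))))));
    (let vqy5 : type_of% vqy3 := (vqc1 (-2) (vqc1 0 (vqc1 0 (vqc1 0 (vqc1 0 (vqc1 0 vqy3))))));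
    (vqc1 (-1) (vqc1 1 (vqc1 (-1) (vqc1 0 (vqc1 4 (vqc1 0 vqy5))))))));
    (let vqy6 : type_of% vqy2 := (let vqy7 : type_of% vqy2 := (vqc1 0 (vqc1 0 (vqc1 0 (vqc1 (-1) (vqc1 0 (vqc1 0 (vqc1 (-1) vqy2)))))));
    (vqc1 0 (vqc1 1 (vqc1 0 (vqc1 0 (vqc1 0 (vqc1 0 vqy7)))))));
    (let vqy8 : type_of% vqy6 := (vqc1 0 (vqc1 0 (vqc1 0 (vqc1 2 (vqc1 0 (vqc1 (-5) vqy6))))));
    (vqc1 0 (vqc1 (-4) (vqc1 (-2) (vqc1 0
    (vqc1 0 (vqc1 2 vqy8)))))))));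
    (let vqy9 : type_of% vqy1 := (let vqy10 : type_of% vqy1 := (let vqy11 : type_of% vqy1 := (vqc1 0 (vqc1 (-1) (vqc1 (-36) (vqc1 (-4) (vqc1 4 (vqc1 6 (vqc1 (-6) vqy1)))))));
    (vqc1 0 (vqc1 15 (vqc1 0 (vqc1 (-5) (vqc1 0 (vqc1 0 vqy11)))))));
    (let vqy12 : type_of% vqy10 := (vqc1 0 (vqc1 0 (vqc1 0 (vqc1 0 (vqc1 0 (vqc1 0 vqy10))))));
    (vqc1 (-4) (vqc1 4 (vqc1 (-10) (vqc1 4 (vqc1 64 (vqc1 0 vqy12))))))));
    (let vqy13 : type_of% vqy9 := (let vqy14 : type_of% vqy9 := (vqc1 20 (vqc1 (-60)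
    (vqc1 (-60) (vqc1 (-6) (vqc1 (-24) (vqc1 4 vqy9))))));
    (vqc1 0 (vqc1 0 (vqc1 175 (vqc1 0 (vqc1 0 (vqc1 588 vqy14)))))));
    (let vqy15 : type_of% vqy13 := (vqc1 (-180) (vqc1 36 (vqc1 3264 (vqc1 (-64) (vqc1 0 (vqc1 64 vqy13))))));
    (vqc1 21528000 (vqc1 (-6720) (vqc1 4160 (vqc1 (-320) (vqc1 138060 (vqc1 90 vqy15)))))))))))

/-- degree 21579129 -/
def r37 : List ℤ := (beta% delta% lq26bf99814e23 fun vqc0 vqc1 vqc2 _ _ _ _ _ _ _ _ =>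
    (let vqy1 : type_of% (vqc0 _) := (let vqy2 : type_of% (vqc0 _) := (let vqy3 : type_of% (vqc0 _) := (let vqy4 : type_of% (vqc0 _) := (vqc1 0 (vqc1 1
    (vqc1 0 (vqc1 0 (vqc1 (-1) (vqc1 0 (vqc1 0 vqc2)))))));
    (vqc1 0 (vqc1 0 (vqc1 1 (vqc1 0 (vqc1 0 (vqc1 0 vqy4)))))));
    (let vqy5 : type_of% vqy3 := (vqc1 0 (vqc1 0 (vqc1 0 (vqc1 0 (vqc1 0 (vqc1 1 vqy3))))));
    (vqc1 0 (vqc1 1 (vqc1 0 (vqc1 0 (vqc1 0 (vqc1 0 vqy5))))))));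
    (let vqy6 : type_of% vqy2 := (let vqy7 : type_of% vqy2 := (vqc1 0 (vqc1 0 (vqc1 0 (vqc1 3 (vqc1 (-1) (vqc1 (-1) (vqc1 0 vqy2)))))));
    (vqc1 0 (vqc1 (-3) (vqc1 0 (vqc1 0 (vqc1 (-1) (vqc1 (-1) vqy7)))))));
    (let vqy8 : type_of% vqy6 := (vqc1 0 (vqc1 (-2)
    (vqc1 0 (vqc1 3 (vqc1 2 (vqc1 0 vqy6))))));
    (vqc1 0 (vqc1 0 (vqc1 0 (vqc1 0 (vqc1 0 (vqc1 0 vqy8)))))))));
    (let vqy9 : type_of% vqy1 := (let vqy10 : type_of% vqy1 := (let vqy11 : type_of% vqy1 := (vqc1 1 (vqc1 0 (vqc1 0 (vqc1 0 (vqc1 0 (vqc1 0 (vqc1 0 vqy1)))))));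
    (vqc1 0 (vqc1 3 (vqc1 (-3) (vqc1 7 (vqc1 3 (vqc1 3 vqy11)))))));
    (let vqy12 : type_of% vqy10 := (vqc1 (-3) (vqc1 5 (vqc1 (-3) (vqc1 (-3) (vqc1 0 (vqc1 0 vqy10))))));
    (vqc1 6 (vqc1 (-6) (vqc1 (-9) (vqc1 (-2) (vqc1 9 (vqc1 (-15) vqy12))))))));
    (let vqy13 : type_of% vqy9 := (let vqy14 : type_of% vqy9 := (vqc1 0 (vqc1 0 (vqc1 0 (vqc1 0
    (vqc1 0 (vqc1 0 vqy9))))));
    (vqc1 (-27) (vqc1 (-11) (vqc1 99 (vqc1 9 (vqc1 (-21) (vqc1 0 vqy14)))))));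
    (let vqy15 : type_of% vqy13 := (vqc1 0 (vqc1 162 (vqc1 (-567) (vqc1 297 (vqc1 9 (vqc1 (-63) vqy13))))));
    (vqc1 21579129 (vqc1 (-7047) (vqc1 (-2223) (vqc1 1881 (vqc1 0 (vqc1 0 vqy15)))))))))))

/-- degree 23244375 -/
def r38 : List ℤ := (beta% delta% lq26bf99814e23 fun vqc0 vqc1 vqc2 _ _ _ _ _ _ _ _ =>
    (let vqy1 : type_of% (vqc0 _) := (let vqy2 : type_of% (vqc0 _) := (let vqy3 : type_of% (vqc0 _) := (let vqy4 : type_of% (vqc0 _) := (vqc1 0 (vqc1 0 (vqc1 (-1) (vqc1 1 (vqc1 0 (vqc1 0 (vqc1 0 vqc2)))))));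
    (vqc1 0
    (vqc1 0 (vqc1 0 (vqc1 0 (vqc1 0 (vqc1 0 vqy4)))))));
    (let vqy5 : type_of% vqy3 := (vqc1 (-1) (vqc1 0 (vqc1 1 (vqc1 (-1) (vqc1 (-2) (vqc1 0 vqy3))))));
    (vqc1 0 (vqc1 0 (vqc1 0 (vqc1 0 (vqc1 (-4) (vqc1 0 vqy5))))))));
    (let vqy6 : type_of% vqy2 := (let vqy7 : type_of% vqy2 := (vqc1 3 (vqc1 0 (vqc1 0 (vqc1 0 (vqc1 0 (vqc1 0 (vqc1 0 vqy2)))))));
    (vqc1 0 (vqc1 0 (vqc1 0 (vqc1 0 (vqc1 1 (vqc1 1 vqy7)))))));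
    (let vqy8 : type_of% vqy6 := (vqc1 (-1) (vqc1 1 (vqc1 (-2) (vqc1 0 (vqc1 0 (vqc1 0 vqy6))))));
    (vqc1 8 (vqc1 (-7)
    (vqc1 (-1) (vqc1 1 (vqc1 1 (vqc1 (-1) vqy8)))))))));
    (let vqy9 : type_of% vqy1 := (let vqy10 : type_of% vqy1 := (let vqy11 : type_of% vqy1 := (vqc1 0 (vqc1 0 (vqc1 20 (vqc1 20 (vqc1 (-4) (vqc1 (-13) (vqc1 (-1) vqy1)))))));
    (vqc1 0 (vqc1 0 (vqc1 0 (vqc1 0 (vqc1 0 (vqc1 0 vqy11)))))));
    (let vqy12 : type_of% vqy10 := (vqc1 3 (vqc1 (-5) (vqc1 3 (vqc1 (-1) (vqc1 3 (vqc1 6 vqy10))))));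
    (vqc1 5 (vqc1 1 (vqc1 0 (vqc1 0 (vqc1 (-25) (vqc1 (-17) vqy12))))))));
    (let vqy13 : type_of% vqy9 := (let vqy14 : type_of% vqy9 := (vqc1 140
    (vqc1 (-15) (vqc1 (-15) (vqc1 (-9) (vqc1 (-3) (vqc1 1 vqy9))))));
    (vqc1 35 (vqc1 (-5) (vqc1 0 (vqc1 0 (vqc1 0 (vqc1 (-60) vqy14)))))));
    (let vqy15 : type_of% vqy13 := (vqc1 345 (vqc1 105 (vqc1 455 (vqc1 167 (vqc1 55 (vqc1 47 vqy13))))));
    (vqc1 23244375 (vqc1 (-6825) (vqc1 2975 (vqc1 55 (vqc1 (-23100) (vqc1 (-105) vqy15)))))))))))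

/-- degree 24174150 -/
def r39 : List ℤ := (beta% delta% lq26bf99814e23 fun vqc0 vqc1 vqc2 _ _ _ _ _ _ _ _ =>
    (let vqy1 : type_of% (vqc0 _) := (let vqy2 : type_of% (vqc0 _) := (let vqy3 : type_of% (vqc0 _) := (let vqy4 : type_of% (vqc0 _) := (vqc1 0 (vqc1 0 (vqc1 1 (vqc1 0 (vqc1 0 (vqc1 0 (vqc1 (-1) vqc2)))))));
    (vqc1 0
    (vqc1 (-1) (vqc1 1 (vqc1 (-1) (vqc1 0 (vqc1 0 vqy4)))))));
    (let vqy5 : type_of% vqy3 := (vqc1 0 (vqc1 1 (vqc1 0 (vqc1 0 (vqc1 0 (vqc1 0 vqy3))))));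
    (vqc1 0 (vqc1 0 (vqc1 0 (vqc1 0 (vqc1 (-3) (vqc1 1 vqy5))))))));
    (let vqy6 : type_of% vqy2 := (let vqy7 : type_of% vqy2 := (vqc1 (-3) (vqc1 0 (vqc1 0 (vqc1 2 (vqc1 0 (vqc1 0 (vqc1 0 vqy2)))))));
    (vqc1 7 (vqc1 1 (vqc1 (-2) (vqc1 0 (vqc1 0 (vqc1 0 vqy7)))))));
    (let vqy8 : type_of% vqy6 := (vqc1 (-1) (vqc1 1 (vqc1 0 (vqc1 0 (vqc1 0 (vqc1 7 vqy6))))));
    (vqc1 5 (vqc1 (-2)
    (vqc1 (-2) (vqc1 (-2) (vqc1 (-2) (vqc1 (-2) vqy8)))))))));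
    (let vqy9 : type_of% vqy1 := (let vqy10 : type_of% vqy1 := (let vqy11 : type_of% vqy1 := (vqc1 4 (vqc1 0 (vqc1 49 (vqc1 1 (vqc1 1 (vqc1 (-2) (vqc1 10 vqy1)))))));
    (vqc1 0 (vqc1 (-10) (vqc1 8 (vqc1 (-2) (vqc1 0 (vqc1 0 vqy11)))))));
    (let vqy12 : type_of% vqy10 := (vqc1 10 (vqc1 2 (vqc1 (-2) (vqc1 6 (vqc1 (-3) (vqc1 (-6) vqy10))))));
    (vqc1 1 (vqc1 (-3) (vqc1 0 (vqc1 0 (vqc1 30 (vqc1 6 vqy12))))))));
    (let vqy13 : type_of% vqy9 := (let vqy14 : type_of% vqy9 := (vqc1 49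
    (vqc1 (-30) (vqc1 (-30) (vqc1 (-18) (vqc1 (-6) (vqc1 (-6) vqy9))))));
    (vqc1 14 (vqc1 10 (vqc1 70 (vqc1 (-20) (vqc1 0 (vqc1 609 vqy14)))))));
    (let vqy15 : type_of% vqy13 := (vqc1 (-30) (vqc1 21 (vqc1 (-938) (vqc1 118 (vqc1 70 (vqc1 (-50) vqy13))))));
    (vqc1 24174150 (vqc1 9030 (vqc1 5278 (vqc1 1254 (vqc1 57057 (vqc1 798 vqy15)))))))))))

/-- degree 24667500 -/
def r40 : List ℤ := (beta% delta% lq26bf99814e23 fun vqc0 vqc1 vqc2 _ _ _ _ _ _ _ _ =>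
    (let vqy1 : type_of% (vqc0 _) := (let vqy2 : type_of% (vqc0 _) := (let vqy3 : type_of% (vqc0 _) := (let vqy4 : type_of% (vqc0 _) := (vqc1 0 (vqc1 0 (vqc1 1 (vqc1 0 (vqc1 0 (vqc1 (-1) (vqc1 0 vqc2)))))));
    (vqc1 1 (vqc1 0 (vqc1 0 (vqc1 0 (vqc1 0 (vqc1 0 vqy4)))))));
    (let vqy5 : type_of% vqy3 := (vqc1 1 (vqc1 (-1) (vqc1 (-1) (vqc1 0 (vqc1 0 (vqc1 0
    vqy3))))));
    (vqc1 (-1) (vqc1 0 (vqc1 0 (vqc1 0 (vqc1 (-5) (vqc1 (-1) vqy5))))))));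
    (let vqy6 : type_of% vqy2 := (let vqy7 : type_of% vqy2 := (vqc1 (-1) (vqc1 2 (vqc1 (-1) (vqc1 0 (vqc1 0 (vqc1 0 (vqc1 (-1) vqy2)))))));
    (vqc1 0 (vqc1 0 (vqc1 0 (vqc1 0 (vqc1 0 (vqc1 0 vqy7)))))));
    (let vqy8 : type_of% vqy6 := (vqc1 (-1) (vqc1 1 (vqc1 0 (vqc1 2 (vqc1 (-3) (vqc1 0 vqy6))))));
    (vqc1 (-1) (vqc1 (-1)
    (vqc1 5 (vqc1 0 (vqc1 3 (vqc1 2 vqy8)))))))));
    (let vqy9 : type_of% vqy1 := (let vqy10 : type_of% vqy1 := (let vqy11 : type_of% vqy1 := (vqc1 0 (vqc1 0 (vqc1 (-5) (vqc1 11 (vqc1 11 (vqc1 (-2) (vqc1 1 vqy1)))))));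
    (vqc1 0 (vqc1 0 (vqc1 0 (vqc1 0 (vqc1 0 (vqc1 0 vqy11)))))));
    (let vqy12 : type_of% vqy10 := (vqc1 (-4) (vqc1 (-4) (vqc1 (-4) (vqc1 0 (vqc1 3 (vqc1 (-3) vqy10))))));
    (vqc1 5 (vqc1 1 (vqc1 (-10) (vqc1 (-3) (vqc1 (-20) (vqc1 (-4) vqy12))))))));
    (let vqy13 : type_of% vqy9 := (let vqy14 : type_of% vqy9 := (vqc1 (-85)
    (vqc1 (-25) (vqc1 20 (vqc1 17 (vqc1 32 (vqc1 7 vqy9))))));
    (vqc1 (-28) (vqc1 (-20) (vqc1 0 (vqc1 0 (vqc1 0 (vqc1 155 vqy14)))))));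
    (let vqy15 : type_of% vqy13 := (vqc1 300 (vqc1 105 (vqc1 (-20) (vqc1 44 (vqc1 60 (vqc1 44 vqy13))))));
    (vqc1 24667500 (vqc1 27500 (vqc1 (-1300) (vqc1 2860 (vqc1 (-10725) (vqc1 (-15) vqy15)))))))))))

/-- degree 24794000 -/
def r41 : List ℤ := (beta% delta% lq26bf99814e23 fun vqc0 vqc1 vqc2 _ _ _ _ _ _ _ _ =>
    (let vqy1 : type_of% (vqc0 _) := (let vqy2 : type_of% (vqc0 _) := (let vqy3 : type_of% (vqc0 _) := (let vqy4 : type_of% (vqc0 _) := (vqc1 0 (vqc1 0 (vqc1 1 (vqc1 0 (vqc1 0 (vqc1 0 (vqc1 0 vqc2)))))));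
    (vqc1 0 (vqc1 0 (vqc1 0 (vqc1 1 (vqc1 0
    (vqc1 (-1) vqy4)))))));
    (let vqy5 : type_of% vqy3 := (vqc1 0 (vqc1 0 (vqc1 0 (vqc1 0 (vqc1 1 (vqc1 0 vqy3))))));
    (vqc1 0 (vqc1 0 (vqc1 0 (vqc1 0 (vqc1 0 (vqc1 0 vqy5))))))));
    (let vqy6 : type_of% vqy2 := (let vqy7 : type_of% vqy2 := (vqc1 3 (vqc1 0 (vqc1 0 (vqc1 0 (vqc1 1 (vqc1 0 (vqc1 0 vqy2)))))));
    (vqc1 5 (vqc1 0 (vqc1 (-1) (vqc1 0 (vqc1 0 (vqc1 0 vqy7)))))));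
    (let vqy8 : type_of% vqy6 := (vqc1 0 (vqc1 (-2) (vqc1 (-3) (vqc1 0 (vqc1 0 (vqc1 0 vqy6))))));
    (vqc1 0 (vqc1 2 (vqc1 (-2) (vqc1 (-4) (vqc1 2
    (vqc1 2 vqy8)))))))));
    (let vqy9 : type_of% vqy1 := (let vqy10 : type_of% vqy1 := (let vqy11 : type_of% vqy1 := (vqc1 (-1) (vqc1 0 (vqc1 40 (vqc1 8 (vqc1 (-8) (vqc1 (-2) (vqc1 10 vqy1)))))));
    (vqc1 (-4) (vqc1 0 (vqc1 (-5) (vqc1 0 (vqc1 5 (vqc1 0 vqy11)))))));
    (let vqy12 : type_of% vqy10 := (vqc1 0 (vqc1 0 (vqc1 0 (vqc1 0 (vqc1 (-1) (vqc1 2 vqy10))))));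
    (vqc1 (-10) (vqc1 2 (vqc1 0 (vqc1 0 (vqc1 0 (vqc1 0 vqy12))))))));
    (let vqy13 : type_of% vqy9 := (let vqy14 : type_of% vqy9 := (vqc1 56 (vqc1 54
    (vqc1 0 (vqc1 6 (vqc1 12 (vqc1 14 vqy9))))));
    (vqc1 0 (vqc1 16 (vqc1 0 (vqc1 (-25) (vqc1 0 (vqc1 360 vqy14)))))));
    (let vqy15 : type_of% vqy13 := (vqc1 440 (vqc1 (-70) (vqc1 (-560) (vqc1 80 (vqc1 80 (vqc1 112 vqy13))))));
    (vqc1 24794000 (vqc1 28560 (vqc1 560 (vqc1 3344 (vqc1 40040 (vqc1 854 vqy15)))))))))))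

/-- degree 25900875 -/
def r42 : List ℤ := (beta% delta% lq26bf99814e23 fun vqc0 vqc1 vqc2 _ _ _ _ _ _ _ _ =>
    (let vqy1 : type_of% (vqc0 _) := (let vqy2 : type_of% (vqc0 _) := (let vqy3 : type_of% (vqc0 _) := (let vqy4 : type_of% (vqc0 _) := (vqc1 0 (vqc1 (-1) (vqc1 0 (vqc1 0 (vqc1 1 (vqc1 (-1) (vqc1 0 vqc2)))))));
    (vqc1 0 (vqc1 0 (vqc1 1 (vqc1 0 (vqc1 0 (vqc1 0 vqy4)))))));
    (let vqy5 : type_of% vqy3 := (vqc1 0 (vqc1 (-1) (vqc1 0 (vqc1 (-1) (vqc1 0 (vqc1 1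
    vqy3))))));
    (vqc1 0 (vqc1 0 (vqc1 0 (vqc1 0 (vqc1 3 (vqc1 3 vqy5))))))));
    (let vqy6 : type_of% vqy2 := (let vqy7 : type_of% vqy2 := (vqc1 0 (vqc1 0 (vqc1 0 (vqc1 3 (vqc1 0 (vqc1 0 (vqc1 3 vqy2)))))));
    (vqc1 0 (vqc1 (-3) (vqc1 0 (vqc1 0 (vqc1 (-1) (vqc1 (-1) vqy7)))))));
    (let vqy8 : type_of% vqy6 := (vqc1 1 (vqc1 1 (vqc1 0 (vqc1 (-1) (vqc1 0 (vqc1 0 vqy6))))));
    (vqc1 (-5)
    (vqc1 (-4) (vqc1 0 (vqc1 3 (vqc1 0 (vqc1 (-1) vqy8)))))))));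
    (let vqy9 : type_of% vqy1 := (let vqy10 : type_of% vqy1 := (let vqy11 : type_of% vqy1 := (vqc1 0 (vqc1 0 (vqc1 15 (vqc1 (-1) (vqc1 (-9) (vqc1 (-9) (vqc1 12 vqy1)))))));
    (vqc1 0 (vqc1 15 (vqc1 0 (vqc1 (-5) (vqc1 0 (vqc1 0 vqy11)))))));
    (let vqy12 : type_of% vqy10 := (vqc1 3 (vqc1 3 (vqc1 (-1) (vqc1 (-1) (vqc1 0 (vqc1 0 vqy10))))));
    (vqc1 1 (vqc1 1 (vqc1 (-21) (vqc1 0 (vqc1 51 (vqc1 3 vqy12))))))));
    (let vqy13 : type_of% vqy9 := (let vqy14 : type_of% vqy9 := (vqc1 55 (vqc1 (-60) (vqc1 75 (vqc1 12 (vqc1 3 (vqc1 4 vqy9))))));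
    (vqc1 (-41) (vqc1 (-5) (vqc1 (-225) (vqc1 0 (vqc1 0 (vqc1 (-465)
    vqy14)))))));
    (let vqy15 : type_of% vqy13 := (vqc1 315 (vqc1 (-63) (vqc1 1323 (vqc1 (-85) (vqc1 (-165) (vqc1 27 vqy13))))));
    (vqc1 25900875 (vqc1 (-11445) (vqc1 3835 (vqc1 715 (vqc1 32175 (vqc1 1260 vqy15)))))))))))

/-- degree 31574400 -/
def r43 : List ℤ := (beta% delta% lq26bf99814e23 fun vqc0 vqc1 vqc2 _ _ _ _ _ _ _ _ =>
    (let vqy1 : type_of% (vqc0 _) := (let vqy2 : type_of% (vqc0 _) := (let vqy3 : type_of% (vqc0 _) := (let vqy4 : type_of% (vqc0 _) := (vqc1 0 (vqc1 (-1) (vqc1 1 (vqc1 0 (vqc1 0 (vqc1 2 (vqc1 2 vqc2)))))));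
    (vqc1 (-1) (vqc1 2 (vqc1 (-1) (vqc1 1
    (vqc1 0 (vqc1 0 vqy4)))))));
    (let vqy5 : type_of% vqy3 := (vqc1 0 (vqc1 0 (vqc1 0 (vqc1 0 (vqc1 0 (vqc1 0 vqy3))))));
    (vqc1 1 (vqc1 0 (vqc1 0 (vqc1 0 (vqc1 0 (vqc1 0 vqy5))))))));
    (let vqy6 : type_of% vqy2 := (let vqy7 : type_of% vqy2 := (vqc1 (-3) (vqc1 0 (vqc1 0 (vqc1 (-4) (vqc1 0 (vqc1 0 (vqc1 (-2) vqy2)))))));
    (vqc1 (-3) (vqc1 (-1) (vqc1 0 (vqc1 0 (vqc1 0 (vqc1 0 vqy7)))))));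
    (let vqy8 : type_of% vqy6 := (vqc1 0 (vqc1 0 (vqc1 0 (vqc1 (-4) (vqc1 1 (vqc1 2 vqy6))))));
    (vqc1 0 (vqc1 (-4) (vqc1 0 (vqc1 0 (vqc1 0
    (vqc1 2 vqy8)))))))));
    (let vqy9 : type_of% vqy1 := (let vqy10 : type_of% vqy1 := (let vqy11 : type_of% vqy1 := (vqc1 (-2) (vqc1 0 (vqc1 (-8) (vqc1 8 (vqc1 0 (vqc1 (-2) (vqc1 4 vqy1)))))));
    (vqc1 0 (vqc1 20 (vqc1 (-2) (vqc1 8 (vqc1 0 (vqc1 0 vqy11)))))));
    (let vqy12 : type_of% vqy10 := (vqc1 0 (vqc1 0 (vqc1 0 (vqc1 0 (vqc1 (-3) (vqc1 (-6) vqy10))))));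
    (vqc1 4 (vqc1 4 (vqc1 4 (vqc1 (-3) (vqc1 0 (vqc1 0 vqy12))))))));
    (let vqy13 : type_of% vqy9 := (let vqy14 : type_of% vqy9 := (vqc1 16 (vqc1 (-60)
    (vqc1 (-60) (vqc1 (-12) (vqc1 0 (vqc1 4 vqy9))))));
    (vqc1 0 (vqc1 0 (vqc1 20 (vqc1 30 (vqc1 0 (vqc1 552 vqy14)))))));
    (let vqy15 : type_of% vqy13 := (vqc1 60 (vqc1 84 (vqc1 2176 (vqc1 128 (vqc1 0 (vqc1 0 vqy13))))));
    (vqc1 31574400 (vqc1 (-5760) (vqc1 3328 (vqc1 1408 (vqc1 140712 (vqc1 (-300) vqy15)))))))))))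

/-- degree 40166280 -/
def r44 : List ℤ := (beta% delta% lq26bf99814e23 fun vqc0 vqc1 vqc2 _ _ _ _ _ _ _ _ =>
    (let vqy1 : type_of% (vqc0 _) := (let vqy2 : type_of% (vqc0 _) := (let vqy3 : type_of% (vqc0 _) := (let vqy4 : type_of% (vqc0 _) := (vqc1 0 (vqc1 0 (vqc1 0 (vqc1 1 (vqc1 0 (vqc1 0 (vqc1 0 vqc2)))))));
    (vqc1 0 (vqc1 0 (vqc1 0
    (vqc1 (-1) (vqc1 (-1) (vqc1 0 vqy4)))))));
    (let vqy5 : type_of% vqy3 := (vqc1 1 (vqc1 0 (vqc1 1 (vqc1 0 (vqc1 (-2) (vqc1 0 vqy3))))));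
    (vqc1 0 (vqc1 0 (vqc1 0 (vqc1 0 (vqc1 (-2) (vqc1 2 vqy5))))))));
    (let vqy6 : type_of% vqy2 := (let vqy7 : type_of% vqy2 := (vqc1 0 (vqc1 0 (vqc1 0 (vqc1 0 (vqc1 0 (vqc1 1 (vqc1 0 vqy2)))))));
    (vqc1 (-5) (vqc1 0 (vqc1 (-2) (vqc1 (-1) (vqc1 0 (vqc1 0 vqy7)))))));
    (let vqy8 : type_of% vqy6 := (vqc1 0 (vqc1 0 (vqc1 (-2) (vqc1 0 (vqc1 0 (vqc1 0 vqy6))))));
    (vqc1 0 (vqc1 5 (vqc1 1 (vqc1 0
    (vqc1 (-3) (vqc1 2 vqy8)))))))));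
    (let vqy9 : type_of% vqy1 := (let vqy10 : type_of% vqy1 := (let vqy11 : type_of% vqy1 := (vqc1 2 (vqc1 0 (vqc1 30 (vqc1 (-10) (vqc1 10 (vqc1 6 (vqc1 9 vqy1)))))));
    (vqc1 0 (vqc1 0 (vqc1 (-10) (vqc1 0 (vqc1 0 (vqc1 5 vqy11)))))));
    (let vqy12 : type_of% vqy10 := (vqc1 (-16) (vqc1 0 (vqc1 0 (vqc1 0 (vqc1 0 (vqc1 0 vqy10))))));
    (vqc1 0 (vqc1 0 (vqc1 0 (vqc1 0 (vqc1 40 (vqc1 (-8) vqy12))))))));
    (let vqy13 : type_of% vqy9 := (let vqy14 : type_of% vqy9 := (vqc1 (-126)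
    (vqc1 45 (vqc1 (-36) (vqc1 9 (vqc1 0 (vqc1 (-3) vqy9))))));
    (vqc1 0 (vqc1 0 (vqc1 0 (vqc1 10 (vqc1 5 (vqc1 (-90) vqy14)))))));
    (let vqy15 : type_of% vqy13 := (vqc1 324 (vqc1 0 (vqc1 4200 (vqc1 (-88) (vqc1 (-24) (vqc1 (-8) vqy13))))));
    (vqc1 40166280 (vqc1 7560 (vqc1 2520 (vqc1 (-1848) (vqc1 187110 (vqc1 (-567) vqy15)))))))))))

/-- degree 40370176 -/
def r45 : List ℤ := (beta% delta% lq26bf99814e23 fun vqc0 vqc1 vqc2 _ _ _ _ _ _ _ _ =>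
    (let vqy1 : type_of% (vqc0 _) := (let vqy2 : type_of% (vqc0 _) := (let vqy3 : type_of% (vqc0 _) := (let vqy4 : type_of% (vqc0 _) := (vqc1 0 (vqc1 (-1) (vqc1 0 (vqc1 (-1) (vqc1 0
    (vqc1 2 (vqc1 0 vqc2)))))));
    (vqc1 0 (vqc1 0 (vqc1 (-2) (vqc1 (-2) (vqc1 0 (vqc1 0 vqy4)))))));
    (let vqy5 : type_of% vqy3 := (vqc1 0 (vqc1 0 (vqc1 0 (vqc1 0 (vqc1 2 (vqc1 0 vqy3))))));
    (vqc1 (-1) (vqc1 0 (vqc1 0 (vqc1 1 (vqc1 0 (vqc1 0 vqy5))))))));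
    (let vqy6 : type_of% vqy2 := (let vqy7 : type_of% vqy2 := (vqc1 0 (vqc1 0 (vqc1 0 (vqc1 0 (vqc1 0 (vqc1 0 (vqc1 2 vqy2)))))));
    (vqc1 (-2) (vqc1 2 (vqc1 (-2) (vqc1 0 (vqc1 0 (vqc1 0 vqy7)))))));
    (let vqy8 : type_of% vqy6 := (vqc1 0 (vqc1 0 (vqc1 2 (vqc1 2 (vqc1 0 (vqc1 8
    vqy6))))));
    (vqc1 0 (vqc1 0 (vqc1 0 (vqc1 0 (vqc1 0 (vqc1 0 vqy8)))))))));
    (let vqy9 : type_of% vqy1 := (let vqy10 : type_of% vqy1 := (let vqy11 : type_of% vqy1 := (vqc1 0 (vqc1 0 (vqc1 0 (vqc1 0 (vqc1 0 (vqc1 0 (vqc1 0 vqy1)))))));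
    (vqc1 (-2) (vqc1 0 (vqc1 (-8) (vqc1 (-8) (vqc1 0 (vqc1 0 vqy11)))))));
    (let vqy12 : type_of% vqy10 := (vqc1 0 (vqc1 0 (vqc1 0 (vqc1 0 (vqc1 (-8) (vqc1 4 vqy10))))));
    (vqc1 8 (vqc1 0 (vqc1 14 (vqc1 0 (vqc1 0 (vqc1 0 vqy12))))))));
    (let vqy13 : type_of% vqy9 := (let vqy14 : type_of% vqy9 := (vqc1 128 (vqc1 0 (vqc1 0 (vqc1 0 (vqc1 0 (vqc1 0
    vqy9))))));
    (vqc1 0 (vqc1 0 (vqc1 (-64) (vqc1 16 (vqc1 (-24) (vqc1 0 vqy14)))))));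
    (let vqy15 : type_of% vqy13 := (vqc1 640 (vqc1 112 (vqc1 0 (vqc1 0 (vqc1 0 (vqc1 0 vqy13))))));
    (vqc1 40370176 (vqc1 0 (vqc1 8192 (vqc1 0 (vqc1 22528 (vqc1 (-512) vqy15)))))))))))

/-- degree 44013375 -/
def r46 : List ℤ := (beta% delta% lq26bf99814e23 fun vqc0 vqc1 vqc2 _ _ _ _ _ _ _ _ =>
    (let vqy1 : type_of% (vqc0 _) := (let vqy2 : type_of% (vqc0 _) := (let vqy3 : type_of% (vqc0 _) := (let vqy4 : type_of% (vqc0 _) := (vqc1 (-1) (vqc1 0 (vqc1 0 (vqc1 0 (vqc1 0 (vqc1 1 (vqc1 0 vqc2)))))));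
    (vqc1 0 (vqc1 0
    (vqc1 0 (vqc1 1 (vqc1 0 (vqc1 (-1) vqy4)))))));
    (let vqy5 : type_of% vqy3 := (vqc1 (-1) (vqc1 0 (vqc1 1 (vqc1 0 (vqc1 (-1) (vqc1 (-1) vqy3))))));
    (vqc1 1 (vqc1 0 (vqc1 1 (vqc1 0 (vqc1 (-4) (vqc1 0 vqy5))))))));
    (let vqy6 : type_of% vqy2 := (let vqy7 : type_of% vqy2 := (vqc1 0 (vqc1 0 (vqc1 0 (vqc1 0 (vqc1 1 (vqc1 0 (vqc1 1 vqy2)))))));
    (vqc1 5 (vqc1 0 (vqc1 (-1) (vqc1 0 (vqc1 (-1) (vqc1 (-1) vqy7)))))));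
    (let vqy8 : type_of% vqy6 := (vqc1 0 (vqc1 0 (vqc1 3 (vqc1 1 (vqc1 0 (vqc1 0 vqy6))))));
    (vqc1 0 (vqc1 3 (vqc1 1
    (vqc1 0 (vqc1 3 (vqc1 0 vqy8)))))))));
    (let vqy9 : type_of% vqy1 := (let vqy10 : type_of% vqy1 := (let vqy11 : type_of% vqy1 := (vqc1 (-1) (vqc1 (-1) (vqc1 (-60) (vqc1 (-12) (vqc1 4 (vqc1 0 (vqc1 (-3) vqy1)))))));
    (vqc1 0 (vqc1 0 (vqc1 (-5) (vqc1 0 (vqc1 5 (vqc1 0 vqy11)))))));
    (let vqy12 : type_of% vqy10 := (vqc1 15 (vqc1 (-1) (vqc1 3 (vqc1 3 (vqc1 0 (vqc1 0 vqy10))))));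
    (vqc1 0 (vqc1 0 (vqc1 (-35) (vqc1 0 (vqc1 (-25) (vqc1 7 vqy12))))))));
    (let vqy13 : type_of% vqy9 := (let vqy14 : type_of% vqy9 := (vqc1 36
    (vqc1 (-81) (vqc1 0 (vqc1 9 (vqc1 0 (vqc1 (-9) vqy9))))));
    (vqc1 27 (vqc1 (-9) (vqc1 0 (vqc1 (-25) (vqc1 0 (vqc1 (-540) vqy14)))))));
    (let vqy15 : type_of% vqy13 := (vqc1 0 (vqc1 0 (vqc1 4095 (vqc1 63 (vqc1 15 (vqc1 (-65) vqy13))))));
    (vqc1 44013375 (vqc1 (-16065) (vqc1 (-1665) (vqc1 639 (vqc1 189540 (vqc1 729 vqy15)))))))))))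

/-- degree 46621575 -/
def r47 : List ℤ := (beta% delta% lq26bf99814e23 fun vqc0 vqc1 vqc2 _ _ _ _ _ _ _ _ =>
    (let vqy1 : type_of% (vqc0 _) := (let vqy2 : type_of% (vqc0 _) := (let vqy3 : type_of% (vqc0 _) := (let vqy4 : type_of% (vqc0 _) := (vqc1 0 (vqc1 1 (vqc1 0 (vqc1 0 (vqc1 0 (vqc1 1 (vqc1 (-1) vqc2)))))));
    (vqc1 0
    (vqc1 (-1) (vqc1 0 (vqc1 1 (vqc1 0 (vqc1 0 vqy4)))))));
    (let vqy5 : type_of% vqy3 := (vqc1 1 (vqc1 0 (vqc1 (-1) (vqc1 1 (vqc1 0 (vqc1 (-1) vqy3))))));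
    (vqc1 0 (vqc1 0 (vqc1 0 (vqc1 0 (vqc1 4 (vqc1 0 vqy5))))))));
    (let vqy6 : type_of% vqy2 := (let vqy7 : type_of% vqy2 := (vqc1 0 (vqc1 0 (vqc1 0 (vqc1 2 (vqc1 0 (vqc1 0 (vqc1 (-3) vqy2)))))));
    (vqc1 1 (vqc1 0 (vqc1 (-2) (vqc1 0 (vqc1 (-1) (vqc1 (-1) vqy7)))))));
    (let vqy8 : type_of% vqy6 := (vqc1 0 (vqc1 0 (vqc1 0 (vqc1 1 (vqc1 0 (vqc1 (-9) vqy6))))));
    (vqc1 0 (vqc1 (-5)
    (vqc1 1 (vqc1 3 (vqc1 3 (vqc1 1 vqy8)))))))));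
    (let vqy9 : type_of% vqy1 := (let vqy10 : type_of% vqy1 := (let vqy11 : type_of% vqy1 := (vqc1 0 (vqc1 0 (vqc1 84 (vqc1 4 (vqc1 4 (vqc1 (-3) (vqc1 9 vqy1)))))));
    (vqc1 0 (vqc1 (-10) (vqc1 4 (vqc1 (-6) (vqc1 0 (vqc1 0 vqy11)))))));
    (let vqy12 : type_of% vqy10 := (vqc1 (-9) (vqc1 7 (vqc1 3 (vqc1 (-5) (vqc1 0 (vqc1 0 vqy10))))));
    (vqc1 0 (vqc1 0 (vqc1 21 (vqc1 0 (vqc1 (-65) (vqc1 (-1) vqy12))))))));
    (let vqy13 : type_of% vqy9 := (let vqy14 : type_of% vqy9 := (vqc1 36 (vqc1 (-45) (vqc1 (-45) (vqc1 9 (vqc1 (-9) (vqc1 3 vqy9))))));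
    (vqc1 27 (vqc1 15 (vqc1 (-90) (vqc1 40 (vqc1 0 (vqc1 (-396)
    vqy14)))))));
    (let vqy15 : type_of% vqy13 := (vqc1 (-405) (vqc1 0 (vqc1 2247 (vqc1 7 (vqc1 (-105) (vqc1 7 vqy13))))));
    (vqc1 46621575 (vqc1 11655 (vqc1 (-6201) (vqc1 (-825) (vqc1 138996 (vqc1 (-567) vqy15)))))))))))

/-- degree 51571520 -/
def r48 : List ℤ := (beta% delta% lq26bf99814e23 fun vqc0 vqc1 vqc2 _ _ _ _ _ _ _ _ =>
    (let vqy1 : type_of% (vqc0 _) := (let vqy2 : type_of% (vqc0 _) := (let vqy3 : type_of% (vqc0 _) := (let vqy4 : type_of% (vqc0 _) := (vqc1 0 (vqc1 0 (vqc1 0 (vqc1 0 (vqc1 0 (vqc1 0 (vqc1 (-1) vqc2)))))));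
    (vqc1 0 (vqc1 1 (vqc1 0 (vqc1 0
    (vqc1 1 (vqc1 0 vqy4)))))));
    (let vqy5 : type_of% vqy3 := (vqc1 0 (vqc1 0 (vqc1 0 (vqc1 0 (vqc1 0 (vqc1 0 vqy3))))));
    (vqc1 0 (vqc1 0 (vqc1 0 (vqc1 0 (vqc1 0 (vqc1 0 vqy5))))))));
    (let vqy6 : type_of% vqy2 := (let vqy7 : type_of% vqy2 := (vqc1 0 (vqc1 0 (vqc1 0 (vqc1 (-4) (vqc1 0 (vqc1 (-1) (vqc1 0 vqy2)))))));
    (vqc1 0 (vqc1 (-4) (vqc1 0 (vqc1 1 (vqc1 0 (vqc1 0 vqy7)))))));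
    (let vqy8 : type_of% vqy6 := (vqc1 0 (vqc1 0 (vqc1 0 (vqc1 0 (vqc1 0 (vqc1 5 vqy6))))));
    (vqc1 0 (vqc1 2 (vqc1 (-2) (vqc1 4
    (vqc1 (-2) (vqc1 2 vqy8)))))))));
    (let vqy9 : type_of% vqy1 := (let vqy10 : type_of% vqy1 := (let vqy11 : type_of% vqy1 := (vqc1 0 (vqc1 0 (vqc1 24 (vqc1 8 (vqc1 16 (vqc1 6 (vqc1 6 vqy1)))))));
    (vqc1 (-4) (vqc1 (-20) (vqc1 0 (vqc1 0 (vqc1 0 (vqc1 (-5) vqy11)))))));
    (let vqy12 : type_of% vqy10 := (vqc1 0 (vqc1 0 (vqc1 0 (vqc1 0 (vqc1 8 (vqc1 2 vqy10))))));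
    (vqc1 0 (vqc1 8 (vqc1 0 (vqc1 0 (vqc1 0 (vqc1 0 vqy12))))))));
    (let vqy13 : type_of% vqy9 := (let vqy14 : type_of% vqy9 := (vqc1 0
    (vqc1 30 (vqc1 (-24) (vqc1 (-6) (vqc1 12 (vqc1 (-10) vqy9))))));
    (vqc1 0 (vqc1 0 (vqc1 140 (vqc1 0 (vqc1 (-5) (vqc1 (-24) vqy14)))))));
    (let vqy15 : type_of% vqy13 := (vqc1 656 (vqc1 56 (vqc1 (-1344) (vqc1 (-64) (vqc1 64 (vqc1 (-128) vqy13))))));
    (vqc1 51571520 (vqc1 33600 (vqc1 0 (vqc1 (-3520) (vqc1 40040 (vqc1 1610 vqy15)))))))))))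

/-- degree 55255200 -/
def r49 : List ℤ := (beta% delta% lq26bf99814e23 fun vqc0 vqc1 vqc2 _ _ _ _ _ _ _ _ =>
    (let vqy1 : type_of% (vqc0 _) := (let vqy2 : type_of% (vqc0 _) := (let vqy3 : type_of% (vqc0 _) := (let vqy4 : type_of% (vqc0 _) := (vqc1 0 (vqc1 (-1) (vqc1 (-1) (vqc1 0 (vqc1 0 (vqc1 2 (vqc1 0 vqc2)))))));
    (vqc1 0
    (vqc1 0 (vqc1 1 (vqc1 0 (vqc1 0 (vqc1 0 vqy4)))))));
    (let vqy5 : type_of% vqy3 := (vqc1 0 (vqc1 0 (vqc1 0 (vqc1 0 (vqc1 0 (vqc1 0 vqy3))))));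
    (vqc1 (-1) (vqc1 0 (vqc1 0 (vqc1 0 (vqc1 0 (vqc1 0 vqy5))))))));
    (let vqy6 : type_of% vqy2 := (let vqy7 : type_of% vqy2 := (vqc1 1 (vqc1 1 (vqc1 1 (vqc1 0 (vqc1 0 (vqc1 0 (vqc1 2 vqy2)))))));
    (vqc1 (-4) (vqc1 1 (vqc1 2 (vqc1 0 (vqc1 0 (vqc1 0 vqy7)))))));
    (let vqy8 : type_of% vqy6 := (vqc1 0 (vqc1 0 (vqc1 0 (vqc1 2 (vqc1 0 (vqc1 16 vqy6))))));
    (vqc1 0
    (vqc1 (-6) (vqc1 2 (vqc1 (-2) (vqc1 (-2) (vqc1 0 vqy8)))))))));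
    (let vqy9 : type_of% vqy1 := (let vqy10 : type_of% vqy1 := (let vqy11 : type_of% vqy1 := (vqc1 (-2) (vqc1 0 (vqc1 80 (vqc1 0 (vqc1 8 (vqc1 (-4) (vqc1 2 vqy1)))))));
    (vqc1 (-3) (vqc1 0 (vqc1 (-6) (vqc1 4 (vqc1 0 (vqc1 0 vqy11)))))));
    (let vqy12 : type_of% vqy10 := (vqc1 0 (vqc1 0 (vqc1 0 (vqc1 0 (vqc1 (-3) (vqc1 (-3) vqy10))))));
    (vqc1 (-4) (vqc1 (-4) (vqc1 14 (vqc1 0 (vqc1 0 (vqc1 0 vqy12))))))));
    (let vqy13 : type_of% vqy9 := (let vqy14 : type_of% vqy9 := (vqc1 (-40) (vqc1 (-50) (vqc1 (-50) (vqc1 22 (vqc1 (-14) (vqc1 (-10) vqy9))))));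
    (vqc1 0 (vqc1 0 (vqc1 160 (vqc1 (-10) (vqc1 0 (vqc1 (-320)
    vqy14)))))));
    (let vqy15 : type_of% vqy13 := (vqc1 (-570) (vqc1 (-84) (vqc1 (-1120) (vqc1 (-96) (vqc1 160 (vqc1 32 vqy13))))));
    (vqc1 55255200 (vqc1 61600 (vqc1 (-4576) (vqc1 (-352) (vqc1 27456 (vqc1 2022 vqy15)))))))))))

/-- degree 57544344 -/
def r50 : List ℤ := (beta% delta% lq26bf99814e23 fun vqc0 vqc1 vqc2 _ _ _ _ _ _ _ _ =>
    (let vqy1 : type_of% (vqc0 _) := (let vqy2 : type_of% (vqc0 _) := (let vqy3 : type_of% (vqc0 _) := (let vqy4 : type_of% (vqc0 _) := (vqc1 0 (vqc1 0 (vqc1 0 (vqc1 0 (vqc1 0 (vqc1 (-1) (vqc1 1 vqc2)))))));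
    (vqc1 (-1) (vqc1 1
    (vqc1 0 (vqc1 0 (vqc1 0 (vqc1 1 vqy4)))))));
    (let vqy5 : type_of% vqy3 := (vqc1 1 (vqc1 0 (vqc1 (-1) (vqc1 0 (vqc1 0 (vqc1 0 vqy3))))));
    (vqc1 (-1) (vqc1 0 (vqc1 0 (vqc1 0 (vqc1 (-2) (vqc1 (-2) vqy5))))))));
    (let vqy6 : type_of% vqy2 := (let vqy7 : type_of% vqy2 := (vqc1 0 (vqc1 0 (vqc1 0 (vqc1 (-2) (vqc1 1 (vqc1 0 (vqc1 (-1) vqy2)))))));
    (vqc1 4 (vqc1 0 (vqc1 1 (vqc1 0 (vqc1 0 (vqc1 0 vqy7)))))));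
    (let vqy8 : type_of% vqy6 := (vqc1 0 (vqc1 0 (vqc1 0 (vqc1 2 (vqc1 1 (vqc1 9 vqy6))))));
    (vqc1 0 (vqc1 (-3) (vqc1 (-1)
    (vqc1 0 (vqc1 (-3) (vqc1 0 vqy8)))))))));
    (let vqy9 : type_of% vqy1 := (let vqy10 : type_of% vqy1 := (let vqy11 : type_of% vqy1 := (vqc1 (-3) (vqc1 0 (vqc1 6 (vqc1 (-18) (vqc1 2 (vqc1 0 (vqc1 3 vqy1)))))));
    (vqc1 0 (vqc1 (-14) (vqc1 9 (vqc1 (-6) (vqc1 1 (vqc1 6 vqy11)))))));
    (let vqy12 : type_of% vqy10 := (vqc1 (-8) (vqc1 (-8) (vqc1 0 (vqc1 0 (vqc1 0 (vqc1 0 vqy10))))));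
    (vqc1 0 (vqc1 0 (vqc1 (-10) (vqc1 (-3) (vqc1 40 (vqc1 8 vqy12))))))));
    (let vqy13 : type_of% vqy9 := (let vqy14 : type_of% vqy9 := (vqc1 90
    (vqc1 81 (vqc1 0 (vqc1 (-9) (vqc1 0 (vqc1 9 vqy9))))));
    (vqc1 0 (vqc1 (-24) (vqc1 (-126) (vqc1 (-11) (vqc1 (-6) (vqc1 (-594) vqy14)))))));
    (let vqy15 : type_of% vqy13 := (vqc1 0 (vqc1 0 (vqc1 4248 (vqc1 24 (vqc1 120 (vqc1 (-40) vqy13))))));
    (vqc1 57544344 (vqc1 8856 (vqc1 (-936) (vqc1 792 (vqc1 208494 (vqc1 (-729) vqy15)))))))))))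

/-- degree 60435375 -/
def r51 : List ℤ := (beta% delta% lq26bf99814e23 fun vqc0 vqc1 vqc2 _ _ _ _ _ _ _ _ =>
    (let vqy1 : type_of% (vqc0 _) := (let vqy2 : type_of% (vqc0 _) := (let vqy3 : type_of% (vqc0 _) := (let vqy4 : type_of% (vqc0 _) := (vqc1 0 (vqc1 0 (vqc1 0 (vqc1 0 (vqc1 0 (vqc1 0 (vqc1 0 vqc2)))))));
    (vqc1 0 (vqc1 0 (vqc1 0 (vqc1 (-1) (vqc1 0 (vqc1 1 vqy4)))))));
    (let vqy5 : type_of% vqy3 := (vqc1 (-2) (vqc1 2 (vqc1 0 (vqc1 0 (vqc1 0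
    (vqc1 0 vqy3))))));
    (vqc1 0 (vqc1 0 (vqc1 0 (vqc1 0 (vqc1 (-2) (vqc1 2 vqy5))))))));
    (let vqy6 : type_of% vqy2 := (let vqy7 : type_of% vqy2 := (vqc1 2 (vqc1 2 (vqc1 (-1) (vqc1 0 (vqc1 (-1) (vqc1 0 (vqc1 0 vqy2)))))));
    (vqc1 (-5) (vqc1 0 (vqc1 1 (vqc1 0 (vqc1 (-1) (vqc1 (-1) vqy7)))))));
    (let vqy8 : type_of% vqy6 := (vqc1 1 (vqc1 (-1) (vqc1 0 (vqc1 0 (vqc1 0 (vqc1 0 vqy6))))));
    (vqc1 (-2)
    (vqc1 2 (vqc1 0 (vqc1 (-2) (vqc1 (-2) (vqc1 2 vqy8)))))))));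
    (let vqy9 : type_of% vqy1 := (let vqy10 : type_of% vqy1 := (let vqy11 : type_of% vqy1 := (vqc1 1 (vqc1 0 (vqc1 (-30) (vqc1 2 (vqc1 (-6) (vqc1 (-6) (vqc1 0 vqy1)))))));
    (vqc1 0 (vqc1 0 (vqc1 5 (vqc1 0 (vqc1 (-5) (vqc1 0 vqy11)))))));
    (let vqy12 : type_of% vqy10 := (vqc1 (-1) (vqc1 (-1) (vqc1 (-1) (vqc1 3 (vqc1 6 (vqc1 3 vqy10))))));
    (vqc1 (-5) (vqc1 (-1) (vqc1 0 (vqc1 0 (vqc1 (-65) (vqc1 15 vqy12))))))));
    (let vqy13 : type_of% vqy9 := (let vqy14 : type_of% vqy9 := (vqc1 154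
    (vqc1 (-34) (vqc1 (-70) (vqc1 (-4) (vqc1 26 (vqc1 (-10) vqy9))))));
    (vqc1 7 (vqc1 (-1) (vqc1 0 (vqc1 25 (vqc1 0 (vqc1 290 vqy14)))))));
    (let vqy15 : type_of% vqy13 := (vqc1 330 (vqc1 (-105) (vqc1 2415 (vqc1 47 (vqc1 (-65) (vqc1 15 vqy13))))));
    (vqc1 60435375 (vqc1 (-8785) (vqc1 (-3185) (vqc1 3311 (vqc1 210210 (vqc1 (-84) vqy15)))))))))))

/-- degree 65270205 -/
def r52 : List ℤ := (beta% delta% lq26bf99814e23 fun vqc0 vqc1 vqc2 _ _ _ _ _ _ _ _ =>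
    (let vqy1 : type_of% (vqc0 _) := (let vqy2 : type_of% (vqc0 _) := (let vqy3 : type_of% (vqc0 _) := (let vqy4 : type_of% (vqc0 _) := (vqc1 0 (vqc1 0 (vqc1 0 (vqc1 0 (vqc1 (-1) (vqc1 0 (vqc1 1 vqc2)))))));
    (vqc1 0 (vqc1 1 (vqc1 0 (vqc1 0 (vqc1 1 (vqc1 (-1) vqy4)))))));
    (let vqy5 : type_of% vqy3 := (vqc1 1 (vqc1 (-1) (vqc1 1 (vqc1 0 (vqc1 0 (vqc1 0
    vqy3))))));
    (vqc1 0 (vqc1 0 (vqc1 0 (vqc1 0 (vqc1 (-5) (vqc1 (-1) vqy5))))))));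
    (let vqy6 : type_of% vqy2 := (let vqy7 : type_of% vqy2 := (vqc1 0 (vqc1 0 (vqc1 0 (vqc1 1 (vqc1 (-1) (vqc1 0 (vqc1 0 vqy2)))))));
    (vqc1 4 (vqc1 0 (vqc1 1 (vqc1 1 (vqc1 (-1) (vqc1 (-1) vqy7)))))));
    (let vqy8 : type_of% vqy6 := (vqc1 0 (vqc1 0 (vqc1 0 (vqc1 0 (vqc1 0 (vqc1 9 vqy6))))));
    (vqc1 3
    (vqc1 1 (vqc1 1 (vqc1 0 (vqc1 (-3) (vqc1 (-2) vqy8)))))))));
    (let vqy9 : type_of% vqy1 := (let vqy10 : type_of% vqy1 := (let vqy11 : type_of% vqy1 := (vqc1 1 (vqc1 0 (vqc1 (-9) (vqc1 7 (vqc1 7 (vqc1 (-6) (vqc1 (-3) vqy1)))))));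
    (vqc1 0 (vqc1 (-11) (vqc1 (-3) (vqc1 (-3) (vqc1 (-1) (vqc1 4 vqy11)))))));
    (let vqy12 : type_of% vqy10 := (vqc1 (-7) (vqc1 1 (vqc1 5 (vqc1 (-3) (vqc1 0 (vqc1 0 vqy10))))));
    (vqc1 0 (vqc1 0 (vqc1 0 (vqc1 0 (vqc1 (-11) (vqc1 13 vqy12))))))));
    (let vqy13 : type_of% vqy9 := (let vqy14 : type_of% vqy9 := (vqc1 (-105) (vqc1 9 (vqc1 36 (vqc1 (-27) (vqc1 0 (vqc1 9 vqy9))))));
    (vqc1 21 (vqc1 9 (vqc1 (-315) (vqc1 25 (vqc1 (-20) (vqc1 711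
    vqy14)))))));
    (let vqy15 : type_of% vqy13 := (vqc1 (-324) (vqc1 0 (vqc1 2541 (vqc1 (-179) (vqc1 (-195) (vqc1 85 vqy13))))));
    (vqc1 65270205 (vqc1 189 (vqc1 (-3003) (vqc1 (-99) (vqc1 (-81081) (vqc1 1701 vqy15)))))))))))

/-- degree 66602250 -/
def r53 : List ℤ := (beta% delta% lq26bf99814e23 fun vqc0 vqc1 vqc2 _ _ _ _ _ _ _ _ =>
    (let vqy1 : type_of% (vqc0 _) := (let vqy2 : type_of% (vqc0 _) := (let vqy3 : type_of% (vqc0 _) := (let vqy4 : type_of% (vqc0 _) := (vqc1 0 (vqc1 0 (vqc1 0 (vqc1 0 (vqc1 0 (vqc1 (-1) (vqc1 0 vqc2)))))));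
    (vqc1 0
    (vqc1 0 (vqc1 0 (vqc1 (-1) (vqc1 0 (vqc1 (-1) vqy4)))))));
    (let vqy5 : type_of% vqy3 := (vqc1 1 (vqc1 1 (vqc1 1 (vqc1 1 (vqc1 0 (vqc1 (-1) vqy3))))));
    (vqc1 0 (vqc1 0 (vqc1 0 (vqc1 0 (vqc1 1 (vqc1 1 vqy5))))))));
    (let vqy6 : type_of% vqy2 := (let vqy7 : type_of% vqy2 := (vqc1 0 (vqc1 0 (vqc1 0 (vqc1 0 (vqc1 1 (vqc1 0 (vqc1 3 vqy2)))))));
    (vqc1 (-5) (vqc1 0 (vqc1 1 (vqc1 0 (vqc1 0 (vqc1 0 vqy7)))))));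
    (let vqy8 : type_of% vqy6 := (vqc1 0 (vqc1 0 (vqc1 0 (vqc1 (-1) (vqc1 (-2) (vqc1 0 vqy6))))));
    (vqc1 (-3)
    (vqc1 1 (vqc1 1 (vqc1 3 (vqc1 (-3) (vqc1 1 vqy8)))))))));
    (let vqy9 : type_of% vqy1 := (let vqy10 : type_of% vqy1 := (let vqy11 : type_of% vqy1 := (vqc1 1 (vqc1 0 (vqc1 (-75) (vqc1 (-11) (vqc1 (-11) (vqc1 (-3) (vqc1 (-3) vqy1)))))));
    (vqc1 0 (vqc1 0 (vqc1 5 (vqc1 0 (vqc1 5 (vqc1 0 vqy11)))))));
    (let vqy12 : type_of% vqy10 := (vqc1 (-2) (vqc1 6 (vqc1 (-2) (vqc1 (-2) (vqc1 0 (vqc1 0 vqy10))))));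
    (vqc1 0 (vqc1 0 (vqc1 15 (vqc1 (-6) (vqc1 10 (vqc1 (-14) vqy12))))))));
    (let vqy13 : type_of% vqy9 := (let vqy14 : type_of% vqy9 := (vqc1 69
    (vqc1 9 (vqc1 (-45) (vqc1 (-27) (vqc1 (-9) (vqc1 9 vqy9))))));
    (vqc1 6 (vqc1 6 (vqc1 0 (vqc1 25 (vqc1 0 (vqc1 (-315) vqy14)))))));
    (let vqy15 : type_of% vqy13 := (vqc1 (-405) (vqc1 0 (vqc1 1050 (vqc1 250 (vqc1 90 (vqc1 (-14) vqy13))))));
    (vqc1 66602250 (vqc1 51210 (vqc1 4290 (vqc1 1386 (vqc1 (-57915) (vqc1 1701 vqy15)))))))))))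

/-- degree 77702625 -/
def r54 : List ℤ := (beta% delta% lq26bf99814e23 fun vqc0 vqc1 vqc2 _ _ _ _ _ _ _ _ =>
    (let vqy1 : type_of% (vqc0 _) := (let vqy2 : type_of% (vqc0 _) := (let vqy3 : type_of% (vqc0 _) := (let vqy4 : type_of% (vqc0 _) := (vqc1 0 (vqc1 1 (vqc1 0 (vqc1 0 (vqc1 0 (vqc1 1 (vqc1 (-1) vqc2)))))));
    (vqc1 0 (vqc1 (-1) (vqc1 0 (vqc1 0 (vqc1 0 (vqc1 0 vqy4)))))));
    (let vqy5 : type_of% vqy3 := (vqc1 (-1) (vqc1 3 (vqc1 (-1) (vqc1 0 (vqc1 0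
    (vqc1 0 vqy3))))));
    (vqc1 (-2) (vqc1 0 (vqc1 0 (vqc1 0 (vqc1 (-1) (vqc1 (-1) vqy5))))))));
    (let vqy6 : type_of% vqy2 := (let vqy7 : type_of% vqy2 := (vqc1 0 (vqc1 0 (vqc1 0 (vqc1 (-4) (vqc1 0 (vqc1 0 (vqc1 1 vqy2)))))));
    (vqc1 0 (vqc1 0 (vqc1 0 (vqc1 0 (vqc1 1 (vqc1 1 vqy7)))))));
    (let vqy8 : type_of% vqy6 := (vqc1 0 (vqc1 0 (vqc1 0 (vqc1 (-2) (vqc1 0 (vqc1 15 vqy6))))));
    (vqc1 3
    (vqc1 3 (vqc1 (-1) (vqc1 2 (vqc1 (-1) (vqc1 0 vqy8)))))))));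
    (let vqy9 : type_of% vqy1 := (let vqy10 : type_of% vqy1 := (let vqy11 : type_of% vqy1 := (vqc1 0 (vqc1 0 (vqc1 39 (vqc1 (-9) (vqc1 (-1) (vqc1 12 (vqc1 3 vqy1)))))));
    (vqc1 0 (vqc1 20 (vqc1 0 (vqc1 0 (vqc1 0 (vqc1 0 vqy11)))))));
    (let vqy12 : type_of% vqy10 := (vqc1 (-7) (vqc1 (-7) (vqc1 (-3) (vqc1 (-3) (vqc1 0 (vqc1 0 vqy10))))));
    (vqc1 0 (vqc1 0 (vqc1 (-14) (vqc1 0 (vqc1 (-55) (vqc1 (-7) vqy12))))))));
    (let vqy13 : type_of% vqy9 := (let vqy14 : type_of% vqy9 := (vqc1 15 (vqc1 (-45) (vqc1 90 (vqc1 27 (vqc1 (-18) (vqc1 3 vqy9))))));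
    (vqc1 21 (vqc1 (-15) (vqc1 (-300) (vqc1 0 (vqc1 0 (vqc1 279
    vqy14)))))));
    (let vqy15 : type_of% vqy13 := (vqc1 (-270) (vqc1 0 (vqc1 1281 (vqc1 129 (vqc1 (-175) (vqc1 17 vqy13))))));
    (vqc1 77702625 (vqc1 (-34335) (vqc1 (-975) (vqc1 2145 (vqc1 (-19305) (vqc1 1755 vqy15)))))))))))

/-- degree 83720000 -/
def r55 : List ℤ := (beta% delta% lq26bf99814e23 fun vqc0 vqc1 vqc2 _ _ _ _ _ _ _ _ =>
    (let vqy1 : type_of% (vqc0 _) := (let vqy2 : type_of% (vqc0 _) := (let vqy3 : type_of% (vqc0 _) := (let vqy4 : type_of% (vqc0 _) := (vqc1 1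
    (vqc1 0 (vqc1 0 (vqc1 0 (vqc1 0 (vqc1 0 (vqc1 0 vqc2)))))));
    (vqc1 1 (vqc1 0 (vqc1 0 (vqc1 0 (vqc1 0 (vqc1 0 vqy4)))))));
    (let vqy5 : type_of% vqy3 := (vqc1 0 (vqc1 2 (vqc1 0 (vqc1 0 (vqc1 0 (vqc1 0 vqy3))))));
    (vqc1 0 (vqc1 (-1) (vqc1 1 (vqc1 0 (vqc1 0 (vqc1 0 vqy5))))))));
    (let vqy6 : type_of% vqy2 := (let vqy7 : type_of% vqy2 := (vqc1 (-2) (vqc1 (-2) (vqc1 (-2) (vqc1 0 (vqc1 0 (vqc1 0 (vqc1 0 vqy2)))))));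
    (vqc1 0 (vqc1 0 (vqc1 0 (vqc1 0 (vqc1 0 (vqc1 0 vqy7)))))));
    (let vqy8 : type_of% vqy6 := (vqc1 (-2)
    (vqc1 0 (vqc1 0 (vqc1 0 (vqc1 1 (vqc1 0 vqy6))))));
    (vqc1 (-2) (vqc1 (-4) (vqc1 (-4) (vqc1 0 (vqc1 0 (vqc1 2 vqy8)))))))));
    (let vqy9 : type_of% vqy1 := (let vqy10 : type_of% vqy1 := (let vqy11 : type_of% vqy1 := (vqc1 0 (vqc1 1 (vqc1 (-60) (vqc1 (-4) (vqc1 8 (vqc1 6 (vqc1 0 vqy1)))))));
    (vqc1 2 (vqc1 0 (vqc1 0 (vqc1 0 (vqc1 0 (vqc1 0 vqy11)))))));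
    (let vqy12 : type_of% vqy10 := (vqc1 0 (vqc1 0 (vqc1 8 (vqc1 0 (vqc1 2 (vqc1 2 vqy10))))));
    (vqc1 0 (vqc1 (-4) (vqc1 0 (vqc1 (-7) (vqc1 0 (vqc1 0 vqy12))))))));
    (let vqy13 : type_of% vqy9 := (let vqy14 : type_of% vqy9 := (vqc1 0 (vqc1 (-20) (vqc1 (-20)
    (vqc1 16 (vqc1 16 (vqc1 (-4) vqy9))))));
    (vqc1 (-56) (vqc1 0 (vqc1 0 (vqc1 0 (vqc1 0 (vqc1 (-20) vqy14)))))));
    (let vqy15 : type_of% vqy13 := (vqc1 20 (vqc1 20 (vqc1 960 (vqc1 (-64) (vqc1 0 (vqc1 128 vqy13))))));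
    (vqc1 83720000 (vqc1 59200 (vqc1 0 (vqc1 320 (vqc1 (-63700) (vqc1 560 vqy15)))))))))))

/-- degree 85250880 -/
def r56 : List ℤ := (beta% delta% lq26bf99814e23 fun vqc0 vqc1 vqc2 _ _ _ _ _ _ _ _ =>
    (let vqy1 : type_of% (vqc0 _) := (let vqy2 : type_of% (vqc0 _) := (let vqy3 : type_of% (vqc0 _) := (let vqy4 : type_of% (vqc0 _) := (vqc1 0 (vqc1 (-1) (vqc1 0 (vqc1 0 (vqc1 (-1) (vqc1 1 (vqc1 (-1) vqc2)))))));
    (vqc1 0 (vqc1 (-1)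
    (vqc1 0 (vqc1 1 (vqc1 1 (vqc1 1 vqy4)))))));
    (let vqy5 : type_of% vqy3 := (vqc1 (-2) (vqc1 0 (vqc1 0 (vqc1 0 (vqc1 0 (vqc1 0 vqy3))))));
    (vqc1 0 (vqc1 0 (vqc1 0 (vqc1 0 (vqc1 4 (vqc1 0 vqy5))))))));
    (let vqy6 : type_of% vqy2 := (let vqy7 : type_of% vqy2 := (vqc1 0 (vqc1 0 (vqc1 0 (vqc1 (-1) (vqc1 0 (vqc1 0 (vqc1 (-3) vqy2)))))));
    (vqc1 1 (vqc1 0 (vqc1 1 (vqc1 1 (vqc1 0 (vqc1 0 vqy7)))))));
    (let vqy8 : type_of% vqy6 := (vqc1 0 (vqc1 0 (vqc1 0 (vqc1 (-2) (vqc1 (-2) (vqc1 (-9) vqy6))))));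
    (vqc1 0 (vqc1 4 (vqc1 (-2)
    (vqc1 0 (vqc1 0 (vqc1 (-2) vqy8)))))))));
    (let vqy9 : type_of% vqy1 := (let vqy10 : type_of% vqy1 := (let vqy11 : type_of% vqy1 := (vqc1 2 (vqc1 0 (vqc1 84 (vqc1 4 (vqc1 4 (vqc1 (-6) (vqc1 (-6) vqy1)))))));
    (vqc1 0 (vqc1 (-1) (vqc1 (-2) (vqc1 3 (vqc1 4 (vqc1 4 vqy11)))))));
    (let vqy12 : type_of% vqy10 := (vqc1 0 (vqc1 0 (vqc1 0 (vqc1 0 (vqc1 0 (vqc1 0 vqy10))))));
    (vqc1 0 (vqc1 0 (vqc1 (-6) (vqc1 (-6) (vqc1 64 (vqc1 0 vqy12))))))));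
    (let vqy13 : type_of% vqy9 := (let vqy14 : type_of% vqy9 := (vqc1 36 (vqc1 36 (vqc1 36 (vqc1 18 (vqc1 0 (vqc1 (-12) vqy9))))));
    (vqc1 0 (vqc1 0 (vqc1 (-225) (vqc1 10 (vqc1 (-20) (vqc1 (-396)
    vqy14)))))));
    (let vqy15 : type_of% vqy13 := (vqc1 (-324) (vqc1 0 (vqc1 1344 (vqc1 64 (vqc1 0 (vqc1 64 vqy13))))));
    (vqc1 85250880 (vqc1 39744 (vqc1 7488 (vqc1 2112 (vqc1 138996 (vqc1 (-1134) vqy15)))))))))))

/-- degree 91547820 -/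
def r57 : List ℤ := (beta% delta% lq26bf99814e23 fun vqc0 vqc1 vqc2 _ _ _ _ _ _ _ _ =>
    (let vqy1 : type_of% (vqc0 _) := (let vqy2 : type_of% (vqc0 _) := (let vqy3 : type_of% (vqc0 _) := (let vqy4 : type_of% (vqc0 _) := (vqc1 1 (vqc1 1 (vqc1 0 (vqc1 0 (vqc1 1 (vqc1 (-2) (vqc1 1 vqc2)))))));
    (vqc1 0 (vqc1 1 (vqc1 0
    (vqc1 (-1) (vqc1 0 (vqc1 (-1) vqy4)))))));
    (let vqy5 : type_of% vqy3 := (vqc1 (-1) (vqc1 0 (vqc1 1 (vqc1 0 (vqc1 0 (vqc1 0 vqy3))))));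
    (vqc1 1 (vqc1 0 (vqc1 (-1) (vqc1 0 (vqc1 2 (vqc1 (-2) vqy5))))))));
    (let vqy6 : type_of% vqy2 := (let vqy7 : type_of% vqy2 := (vqc1 0 (vqc1 0 (vqc1 0 (vqc1 1 (vqc1 0 (vqc1 0 (vqc1 (-2) vqy2)))))));
    (vqc1 (-1) (vqc1 0 (vqc1 (-1) (vqc1 0 (vqc1 (-2) (vqc1 2 vqy7)))))));
    (let vqy8 : type_of% vqy6 := (vqc1 0 (vqc1 0 (vqc1 0 (vqc1 (-2) (vqc1 0 (vqc1 9 vqy6))))));
    (vqc1 0 (vqc1 3 (vqc1 1 (vqc1 0
    (vqc1 3 (vqc1 0 vqy8)))))))));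
    (let vqy9 : type_of% vqy1 := (let vqy10 : type_of% vqy1 := (let vqy11 : type_of% vqy1 := (vqc1 (-2) (vqc1 1 (vqc1 66 (vqc1 (-6) (vqc1 (-2) (vqc1 0 (vqc1 (-3) vqy1)))))));
    (vqc1 0 (vqc1 1 (vqc1 2 (vqc1 (-3) (vqc1 (-4) (vqc1 6 vqy11)))))));
    (let vqy12 : type_of% vqy10 := (vqc1 (-8) (vqc1 0 (vqc1 0 (vqc1 0 (vqc1 0 (vqc1 0 vqy10))))));
    (vqc1 0 (vqc1 0 (vqc1 (-14) (vqc1 0 (vqc1 (-4) (vqc1 4 vqy12))))))));
    (let vqy13 : type_of% vqy9 := (let vqy14 : type_of% vqy9 := (vqc1 54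
    (vqc1 (-81) (vqc1 0 (vqc1 9 (vqc1 0 (vqc1 (-9) vqy9))))));
    (vqc1 0 (vqc1 0 (vqc1 225 (vqc1 (-10) (vqc1 (-30) (vqc1 (-54) vqy14)))))));
    (let vqy15 : type_of% vqy13 := (vqc1 0 (vqc1 0 (vqc1 (-1764) (vqc1 60 (vqc1 60 (vqc1 4 vqy13))))));
    (vqc1 91547820 (vqc1 53676 (vqc1 4212 (vqc1 (-1332) (vqc1 18954 (vqc1 729 vqy15)))))))))))

/-- degree 100725625 -/
def r58 : List ℤ := (beta% delta% lq26bf99814e23 fun vqc0 vqc1 vqc2 _ _ _ _ _ _ _ _ =>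
    (let vqy1 : type_of% (vqc0 _) := (let vqy2 : type_of% (vqc0 _) := (let vqy3 : type_of% (vqc0 _) := (let vqy4 : type_of% (vqc0 _) := (vqc1 0 (vqc1 0 (vqc1 (-1) (vqc1 0 (vqc1 0 (vqc1 0 (vqc1 0 vqc2)))))));
    (vqc1 0
    (vqc1 0 (vqc1 0 (vqc1 0 (vqc1 0 (vqc1 0 vqy4)))))));
    (let vqy5 : type_of% vqy3 := (vqc1 1 (vqc1 1 (vqc1 (-1) (vqc1 0 (vqc1 0 (vqc1 0 vqy3))))));
    (vqc1 0 (vqc1 0 (vqc1 0 (vqc1 0 (vqc1 (-5) (vqc1 (-1) vqy5))))))));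
    (let vqy6 : type_of% vqy2 := (let vqy7 : type_of% vqy2 := (vqc1 (-3) (vqc1 0 (vqc1 0 (vqc1 0 (vqc1 0 (vqc1 0 (vqc1 0 vqy2)))))));
    (vqc1 0 (vqc1 0 (vqc1 0 (vqc1 0 (vqc1 1 (vqc1 1 vqy7)))))));
    (let vqy8 : type_of% vqy6 := (vqc1 2 (vqc1 0 (vqc1 0 (vqc1 0 (vqc1 0 (vqc1 0 vqy6))))));
    (vqc1 (-7)
    (vqc1 1 (vqc1 (-1) (vqc1 2 (vqc1 5 (vqc1 (-2) vqy8)))))))));
    (let vqy9 : type_of% vqy1 := (let vqy10 : type_of% vqy1 := (let vqy11 : type_of% vqy1 := (vqc1 0 (vqc1 0 (vqc1 35 (vqc1 (-5) (vqc1 (-1) (vqc1 (-10) (vqc1 (-1) vqy1)))))));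
    (vqc1 (-2) (vqc1 0 (vqc1 0 (vqc1 0 (vqc1 0 (vqc1 0 vqy11)))))));
    (let vqy12 : type_of% vqy10 := (vqc1 17 (vqc1 1 (vqc1 1 (vqc1 (-3) (vqc1 1 (vqc1 4 vqy10))))));
    (vqc1 0 (vqc1 (-4) (vqc1 0 (vqc1 0 (vqc1 25 (vqc1 (-7) vqy12))))))));
    (let vqy13 : type_of% vqy9 := (let vqy14 : type_of% vqy9 := (vqc1 (-105) (vqc1 45 (vqc1 (-90) (vqc1 3 (vqc1 6 (vqc1 5 vqy9))))));
    (vqc1 (-7) (vqc1 (-15) (vqc1 0 (vqc1 0 (vqc1 0 (vqc1 1035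
    vqy14)))))));
    (let vqy15 : type_of% vqy13 := (vqc1 (-170) (vqc1 (-140) (vqc1 665 (vqc1 25 (vqc1 (-55) (vqc1 (-55) vqy13))))));
    (vqc1 100725625 (vqc1 15225 (vqc1 6825 (vqc1 (-2695) (vqc1 275275 (vqc1 595 vqy15)))))))))))

/-- degree 106142400 -/
def r59 : List ℤ := (beta% delta% lq26bf99814e23 fun vqc0 vqc1 vqc2 _ _ _ _ _ _ _ _ =>
    (let vqy1 : type_of% (vqc0 _) := (let vqy2 : type_of% (vqc0 _) := (let vqy3 : type_of% (vqc0 _) := (let vqy4 : type_of% (vqc0 _) := (vqc1 1 (vqc1 0 (vqc1 0 (vqc1 0 (vqc1 0 (vqc1 0 (vqc1 (-1) vqc2)))))));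
    (vqc1 1 (vqc1 (-1) (vqc1 1 (vqc1 1 (vqc1 0 (vqc1 0
    vqy4)))))));
    (let vqy5 : type_of% vqy3 := (vqc1 0 (vqc1 (-2) (vqc1 0 (vqc1 0 (vqc1 0 (vqc1 0 vqy3))))));
    (vqc1 0 (vqc1 (-1) (vqc1 1 (vqc1 (-1) (vqc1 0 (vqc1 0 vqy5))))))));
    (let vqy6 : type_of% vqy2 := (let vqy7 : type_of% vqy2 := (vqc1 0 (vqc1 0 (vqc1 0 (vqc1 2 (vqc1 0 (vqc1 0 (vqc1 0 vqy2)))))));
    (vqc1 (-3) (vqc1 1 (vqc1 0 (vqc1 0 (vqc1 0 (vqc1 0 vqy7)))))));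
    (let vqy8 : type_of% vqy6 := (vqc1 2 (vqc1 0 (vqc1 0 (vqc1 0 (vqc1 1 (vqc1 7 vqy6))))));
    (vqc1 2 (vqc1 0 (vqc1 0 (vqc1 0 (vqc1 0 (vqc1 0
    vqy8)))))))));
    (let vqy9 : type_of% vqy1 := (let vqy10 : type_of% vqy1 := (let vqy11 : type_of% vqy1 := (vqc1 (-2) (vqc1 1 (vqc1 (-36) (vqc1 (-12) (vqc1 0 (vqc1 0 (vqc1 0 vqy1)))))));
    (vqc1 0 (vqc1 (-10) (vqc1 (-2) (vqc1 (-2) (vqc1 0 (vqc1 0 vqy11)))))));
    (let vqy12 : type_of% vqy10 := (vqc1 0 (vqc1 0 (vqc1 (-8) (vqc1 0 (vqc1 0 (vqc1 0 vqy10))))));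
    (vqc1 (-4) (vqc1 0 (vqc1 0 (vqc1 (-7) (vqc1 0 (vqc1 0 vqy12))))))));
    (let vqy13 : type_of% vqy9 := (let vqy14 : type_of% vqy9 := (vqc1 56 (vqc1 0
    (vqc1 0 (vqc1 0 (vqc1 0 (vqc1 0 vqy9))))));
    (vqc1 56 (vqc1 0 (vqc1 70 (vqc1 30 (vqc1 0 (vqc1 324 vqy14)))))));
    (let vqy15 : type_of% vqy13 := (vqc1 0 (vqc1 216 (vqc1 (-1728) (vqc1 (-192) (vqc1 0 (vqc1 0 vqy13))))));
    (vqc1 106142400 (vqc1 (-25920) (vqc1 11648 (vqc1 1728 (vqc1 88452 (vqc1 0 vqy15)))))))))))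

/-- degree 109882500 -/
def r60 : List ℤ := (beta% delta% lq26bf99814e23 fun vqc0 vqc1 vqc2 _ _ _ _ _ _ _ _ =>
    (let vqy1 : type_of% (vqc0 _) := (let vqy2 : type_of% (vqc0 _) := (let vqy3 : type_of% (vqc0 _) := (let vqy4 : type_of% (vqc0 _) := (vqc1 (-1) (vqc1 0 (vqc1 0 (vqc1 0 (vqc1 0 (vqc1 0 (vqc1 0 vqc2)))))));
    (vqc1 0 (vqc1 0 (vqc1 0 (vqc1 0 (vqc1 0 (vqc1 0 vqy4)))))));
    (let vqy5 : type_of% vqy3 := (vqc1 3 (vqc1 (-1) (vqc1 1 (vqc1 0 (vqc1 0 (vqc1 0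
    vqy3))))));
    (vqc1 0 (vqc1 0 (vqc1 0 (vqc1 0 (vqc1 3 (vqc1 3 vqy5))))))));
    (let vqy6 : type_of% vqy2 := (let vqy7 : type_of% vqy2 := (vqc1 2 (vqc1 (-1) (vqc1 (-1) (vqc1 0 (vqc1 0 (vqc1 0 (vqc1 0 vqy2)))))));
    (vqc1 0 (vqc1 0 (vqc1 0 (vqc1 0 (vqc1 0 (vqc1 0 vqy7)))))));
    (let vqy8 : type_of% vqy6 := (vqc1 (-1) (vqc1 1 (vqc1 0 (vqc1 0 (vqc1 0 (vqc1 0 vqy6))))));
    (vqc1 (-1)
    (vqc1 1 (vqc1 (-1) (vqc1 (-2) (vqc1 1 (vqc1 (-2) vqy8)))))))));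
    (let vqy9 : type_of% vqy1 := (let vqy10 : type_of% vqy1 := (let vqy11 : type_of% vqy1 := (vqc1 0 (vqc1 2 (vqc1 75 (vqc1 (-5) (vqc1 (-13) (vqc1 6 (vqc1 (-9) vqy1)))))));
    (vqc1 (-3) (vqc1 0 (vqc1 0 (vqc1 0 (vqc1 0 (vqc1 0 vqy11)))))));
    (let vqy12 : type_of% vqy10 := (vqc1 12 (vqc1 (-4) (vqc1 (-4) (vqc1 0 (vqc1 6 (vqc1 (-3) vqy10))))));
    (vqc1 5 (vqc1 1 (vqc1 0 (vqc1 0 (vqc1 (-60) (vqc1 4 vqy12))))))));
    (let vqy13 : type_of% vqy9 := (let vqy14 : type_of% vqy9 := (vqc1 35 (vqc1 65 (vqc1 (-70) (vqc1 (-1) (vqc1 (-22) (vqc1 1 vqy9))))));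
    (vqc1 (-28) (vqc1 (-20) (vqc1 0 (vqc1 0 (vqc1 0 (vqc1 155
    vqy14)))))));
    (let vqy15 : type_of% vqy13 := (vqc1 330 (vqc1 105 (vqc1 420 (vqc1 (-92) (vqc1 (-140) (vqc1 20 vqy13))))));
    (vqc1 109882500 (vqc1 32900 (vqc1 (-9100) (vqc1 1540 (vqc1 238875 (vqc1 735 vqy15)))))))))))

/-- degree 150732800 -/
def r61 : List ℤ := (beta% delta% lq26bf99814e23 fun vqc0 vqc1 vqc2 _ _ _ _ _ _ _ _ =>
    (let vqy1 : type_of% (vqc0 _) := (let vqy2 : type_of% (vqc0 _) := (let vqy3 : type_of% (vqc0 _) := (let vqy4 : type_of% (vqc0 _) := (vqc1 1 (vqc1 1 (vqc1 0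
    (vqc1 0 (vqc1 0 (vqc1 1 (vqc1 0 vqc2)))))));
    (vqc1 0 (vqc1 0 (vqc1 (-1) (vqc1 (-1) (vqc1 0 (vqc1 0 vqy4)))))));
    (let vqy5 : type_of% vqy3 := (vqc1 0 (vqc1 0 (vqc1 0 (vqc1 0 (vqc1 1 (vqc1 1 vqy3))))));
    (vqc1 1 (vqc1 (-1) (vqc1 0 (vqc1 0 (vqc1 0 (vqc1 0 vqy5))))))));
    (let vqy6 : type_of% vqy2 := (let vqy7 : type_of% vqy2 := (vqc1 0 (vqc1 0 (vqc1 0 (vqc1 0 (vqc1 0 (vqc1 0 (vqc1 1 vqy2)))))));
    (vqc1 (-1) (vqc1 (-1) (vqc1 2 (vqc1 0 (vqc1 0 (vqc1 0 vqy7)))))));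
    (let vqy8 : type_of% vqy6 := (vqc1 (-2) (vqc1 0 (vqc1 (-3) (vqc1 1
    (vqc1 0 (vqc1 (-16) vqy6))))));
    (vqc1 (-8) (vqc1 0 (vqc1 0 (vqc1 0 (vqc1 0 (vqc1 0 vqy8)))))))));
    (let vqy9 : type_of% vqy1 := (let vqy10 : type_of% vqy1 := (let vqy11 : type_of% vqy1 := (vqc1 0 (vqc1 (-2) (vqc1 0 (vqc1 0 (vqc1 0 (vqc1 0 (vqc1 0 vqy1)))))));
    (vqc1 2 (vqc1 0 (vqc1 (-4) (vqc1 (-4) (vqc1 0 (vqc1 0 vqy11)))))));
    (let vqy12 : type_of% vqy10 := (vqc1 0 (vqc1 0 (vqc1 0 (vqc1 0 (vqc1 8 (vqc1 (-4) vqy10))))));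
    (vqc1 4 (vqc1 0 (vqc1 1 (vqc1 8 (vqc1 0 (vqc1 0 vqy12))))))));
    (let vqy13 : type_of% vqy9 := (let vqy14 : type_of% vqy9 := (vqc1 64 (vqc1 0 (vqc1 0 (vqc1 0 (vqc1 0
    (vqc1 0 vqy9))))));
    (vqc1 64 (vqc1 0 (vqc1 (-160) (vqc1 (-40) (vqc1 0 (vqc1 0 vqy14)))))));
    (let vqy15 : type_of% vqy13 := (vqc1 (-640) (vqc1 104 (vqc1 0 (vqc1 0 (vqc1 0 (vqc1 0 vqy13))))));
    (vqc1 150732800 (vqc1 0 (vqc1 4096 (vqc1 0 (vqc1 226304 (vqc1 512 vqy15)))))))))))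

/-- degree 163478250 -/
def r62 : List ℤ := (beta% delta% lq26bf99814e23 fun vqc0 vqc1 vqc2 _ _ _ _ _ _ _ _ =>
    (let vqy1 : type_of% (vqc0 _) := (let vqy2 : type_of% (vqc0 _) := (let vqy3 : type_of% (vqc0 _) := (let vqy4 : type_of% (vqc0 _) := (vqc1 1 (vqc1 1 (vqc1 0 (vqc1 0 (vqc1 0 (vqc1 0 (vqc1 (-1) vqc2)))))));
    (vqc1 (-1) (vqc1 (-1)
    (vqc1 0 (vqc1 0 (vqc1 0 (vqc1 0 vqy4)))))));
    (let vqy5 : type_of% vqy3 := (vqc1 0 (vqc1 (-1) (vqc1 0 (vqc1 0 (vqc1 0 (vqc1 1 vqy3))))));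
    (vqc1 0 (vqc1 0 (vqc1 (-1) (vqc1 0 (vqc1 3 (vqc1 (-1) vqy5))))))));
    (let vqy6 : type_of% vqy2 := (let vqy7 : type_of% vqy2 := (vqc1 0 (vqc1 0 (vqc1 0 (vqc1 (-4) (vqc1 0 (vqc1 0 (vqc1 0 vqy2)))))));
    (vqc1 0 (vqc1 0 (vqc1 0 (vqc1 0 (vqc1 0 (vqc1 0 vqy7)))))));
    (let vqy8 : type_of% vqy6 := (vqc1 0 (vqc1 0 (vqc1 0 (vqc1 3 (vqc1 (-1) (vqc1 15 vqy6))))));
    (vqc1 3 (vqc1 0 (vqc1 0
    (vqc1 0 (vqc1 0 (vqc1 0 vqy8)))))))));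
    (let vqy9 : type_of% vqy1 := (let vqy10 : type_of% vqy1 := (let vqy11 : type_of% vqy1 := (vqc1 0 (vqc1 1 (vqc1 (-81) (vqc1 15 (vqc1 (-9) (vqc1 0 (vqc1 0 vqy1)))))));
    (vqc1 0 (vqc1 20 (vqc1 0 (vqc1 0 (vqc1 0 (vqc1 0 vqy11)))))));
    (let vqy12 : type_of% vqy10 := (vqc1 14 (vqc1 6 (vqc1 2 (vqc1 6 (vqc1 0 (vqc1 0 vqy10))))));
    (vqc1 0 (vqc1 0 (vqc1 (-9) (vqc1 (-9) (vqc1 (-30) (vqc1 (-6) vqy12))))))));
    (let vqy13 : type_of% vqy9 := (let vqy14 : type_of% vqy9 := (vqc1 (-105) (vqc1 0 (vqc1 0 (vqc1 0 (vqc1 0 (vqc1 0 vqy9))))));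
    (vqc1 (-6) (vqc1 30 (vqc1 (-300) (vqc1 0 (vqc1 0 (vqc1 (-81)
    vqy14)))))));
    (let vqy15 : type_of% vqy13 := (vqc1 0 (vqc1 0 (vqc1 2106 (vqc1 (-102) (vqc1 90 (vqc1 18 vqy13))))));
    (vqc1 163478250 (vqc1 (-25110) (vqc1 (-1950) (vqc1 (-3510) (vqc1 331695 (vqc1 0 vqy15)))))))))))

/-- degree 184184000 -/
def r63 : List ℤ := (beta% delta% lq26bf99814e23 fun vqc0 vqc1 vqc2 _ _ _ _ _ _ _ _ =>
    (let vqy1 : type_of% (vqc0 _) := (let vqy2 : type_of% (vqc0 _) := (let vqy3 : type_of% (vqc0 _) := (let vqy4 : type_of% (vqc0 _) := (vqc1 0 (vqc1 (-1) (vqc1 (-2) (vqc1 0 (vqc1 1 (vqc1 (-1) (vqc1 0 vqc2)))))));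
    (vqc1 0 (vqc1 0
    (vqc1 1 (vqc1 0 (vqc1 0 (vqc1 0 vqy4)))))));
    (let vqy5 : type_of% vqy3 := (vqc1 2 (vqc1 0 (vqc1 0 (vqc1 0 (vqc1 0 (vqc1 0 vqy3))))));
    (vqc1 2 (vqc1 0 (vqc1 0 (vqc1 0 (vqc1 (-4) (vqc1 0 vqy5))))))));
    (let vqy6 : type_of% vqy2 := (let vqy7 : type_of% vqy2 := (vqc1 (-2) (vqc1 1 (vqc1 1 (vqc1 3 (vqc1 0 (vqc1 0 (vqc1 (-1) vqy2)))))));
    (vqc1 0 (vqc1 (-3) (vqc1 0 (vqc1 0 (vqc1 0 (vqc1 0 vqy7)))))));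
    (let vqy8 : type_of% vqy6 := (vqc1 0 (vqc1 0 (vqc1 0 (vqc1 2 (vqc1 0 (vqc1 0 vqy6))))));
    (vqc1 0 (vqc1 0
    (vqc1 (-2) (vqc1 0 (vqc1 0 (vqc1 0 vqy8)))))))));
    (let vqy9 : type_of% vqy1 := (let vqy10 : type_of% vqy1 := (let vqy11 : type_of% vqy1 := (vqc1 0 (vqc1 0 (vqc1 (-20) (vqc1 12 (vqc1 4 (vqc1 16 (vqc1 (-2) vqy1)))))));
    (vqc1 (-1) (vqc1 15 (vqc1 0 (vqc1 (-5) (vqc1 0 (vqc1 0 vqy11)))))));
    (let vqy12 : type_of% vqy10 := (vqc1 0 (vqc1 0 (vqc1 0 (vqc1 0 (vqc1 (-10) (vqc1 (-1) vqy10))))));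
    (vqc1 (-4) (vqc1 4 (vqc1 14 (vqc1 0 (vqc1 (-64) (vqc1 0 vqy12))))))));
    (let vqy13 : type_of% vqy9 := (let vqy14 : type_of% vqy9 := (vqc1 20
    (vqc1 40 (vqc1 40 (vqc1 (-2) (vqc1 (-8) (vqc1 (-8) vqy9))))));
    (vqc1 0 (vqc1 0 (vqc1 (-225) (vqc1 0 (vqc1 0 (vqc1 220 vqy14)))))));
    (let vqy15 : type_of% vqy13 := (vqc1 (-280) (vqc1 (-28) (vqc1 448 (vqc1 192 (vqc1 0 (vqc1 64 vqy13))))));
    (vqc1 184184000 (vqc1 38080 (vqc1 4160 (vqc1 3520 (vqc1 14300 (vqc1 (-1090) vqy15)))))))))))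

/-- degree 185912496 -/
def r64 : List ℤ := (beta% delta% lq26bf99814e23 fun vqc0 vqc1 vqc2 _ _ _ _ _ _ _ _ =>
    (let vqy1 : type_of% (vqc0 _) := (let vqy2 : type_of% (vqc0 _) := (let vqy3 : type_of% (vqc0 _) := (let vqy4 : type_of% (vqc0 _) := (vqc1 0
    (vqc1 0 (vqc1 0 (vqc1 0 (vqc1 0 (vqc1 0 (vqc1 0 vqc2)))))));
    (vqc1 (-1) (vqc1 0 (vqc1 1 (vqc1 0 (vqc1 0 (vqc1 0 vqy4)))))));
    (let vqy5 : type_of% vqy3 := (vqc1 0 (vqc1 0 (vqc1 0 (vqc1 0 (vqc1 (-1) (vqc1 0 vqy3))))));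
    (vqc1 0 (vqc1 1 (vqc1 0 (vqc1 0 (vqc1 0 (vqc1 0 vqy5))))))));
    (let vqy6 : type_of% vqy2 := (let vqy7 : type_of% vqy2 := (vqc1 0 (vqc1 0 (vqc1 0 (vqc1 (-6) (vqc1 1 (vqc1 1 (vqc1 0 vqy2)))))));
    (vqc1 0 (vqc1 (-3) (vqc1 0 (vqc1 0 (vqc1 0 (vqc1 0 vqy7)))))));
    (let vqy8 : type_of% vqy6 := (vqc1 0
    (vqc1 (-2) (vqc1 3 (vqc1 0 (vqc1 (-1) (vqc1 0 vqy6))))));
    (vqc1 0 (vqc1 0 (vqc1 0 (vqc1 0 (vqc1 0 (vqc1 0 vqy8)))))))));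
    (let vqy9 : type_of% vqy1 := (let vqy10 : type_of% vqy1 := (let vqy11 : type_of% vqy1 := (vqc1 (-1) (vqc1 0 (vqc1 0 (vqc1 0 (vqc1 0 (vqc1 0 (vqc1 0 vqy1)))))));
    (vqc1 0 (vqc1 (-18) (vqc1 3 (vqc1 (-2) (vqc1 (-3) (vqc1 (-3) vqy11)))))));
    (let vqy12 : type_of% vqy10 := (vqc1 0 (vqc1 0 (vqc1 0 (vqc1 0 (vqc1 0 (vqc1 0 vqy10))))));
    (vqc1 6 (vqc1 (-6) (vqc1 0 (vqc1 7 (vqc1 0 (vqc1 0 vqy12))))))));
    (let vqy13 : type_of% vqy9 := (let vqy14 : type_of% vqy9 := (vqc1 0 (vqc1 0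
    (vqc1 0 (vqc1 0 (vqc1 0 (vqc1 0 vqy9))))));
    (vqc1 0 (vqc1 16 (vqc1 126 (vqc1 (-9) (vqc1 21 (vqc1 0 vqy14)))))));
    (let vqy15 : type_of% vqy13 := (vqc1 0 (vqc1 162 (vqc1 (-1296) (vqc1 (-144) (vqc1 (-144) (vqc1 144 vqy13))))));
    (vqc1 185912496 (vqc1 34992 (vqc1 11088 (vqc1 1584 (vqc1 0 (vqc1 0 vqy15)))))))))))

/-- degree 185955000 -/
def r65 : List ℤ := (beta% delta% lq26bf99814e23 fun vqc0 vqc1 vqc2 _ _ _ _ _ _ _ _ =>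
    (let vqy1 : type_of% (vqc0 _) := (let vqy2 : type_of% (vqc0 _) := (let vqy3 : type_of% (vqc0 _) := (let vqy4 : type_of% (vqc0 _) := (vqc1 0 (vqc1 0 (vqc1 0 (vqc1 0 (vqc1 0 (vqc1 0 (vqc1 0 vqc2)))))));
    (vqc1 0 (vqc1 0
    (vqc1 0 (vqc1 0 (vqc1 0 (vqc1 0 vqy4)))))));
    (let vqy5 : type_of% vqy3 := (vqc1 (-1) (vqc1 0 (vqc1 (-1) (vqc1 0 (vqc1 1 (vqc1 0 vqy3))))));
    (vqc1 0 (vqc1 0 (vqc1 0 (vqc1 0 (vqc1 2 (vqc1 (-2) vqy5))))))));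
    (let vqy6 : type_of% vqy2 := (let vqy7 : type_of% vqy2 := (vqc1 2 (vqc1 (-1) (vqc1 2 (vqc1 0 (vqc1 0 (vqc1 0 (vqc1 0 vqy2)))))));
    (vqc1 0 (vqc1 0 (vqc1 0 (vqc1 0 (vqc1 0 (vqc1 0 vqy7)))))));
    (let vqy8 : type_of% vqy6 := (vqc1 0 (vqc1 0 (vqc1 (-3) (vqc1 0 (vqc1 0 (vqc1 0 vqy6))))));
    (vqc1 0 (vqc1 (-1) (vqc1 3
    (vqc1 2 (vqc1 (-1) (vqc1 (-4) vqy8)))))))));
    (let vqy9 : type_of% vqy1 := (let vqy10 : type_of% vqy1 := (let vqy11 : type_of% vqy1 := (vqc1 0 (vqc1 0 (vqc1 (-30) (vqc1 (-22) (vqc1 6 (vqc1 0 (vqc1 3 vqy1)))))));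
    (vqc1 3 (vqc1 0 (vqc1 0 (vqc1 0 (vqc1 0 (vqc1 0 vqy11)))))));
    (let vqy12 : type_of% vqy10 := (vqc1 16 (vqc1 0 (vqc1 0 (vqc1 0 (vqc1 6 (vqc1 0 vqy10))))));
    (vqc1 0 (vqc1 0 (vqc1 0 (vqc1 0 (vqc1 (-40) (vqc1 8 vqy12))))))));
    (let vqy13 : type_of% vqy9 := (let vqy14 : type_of% vqy9 := (vqc1 (-210)
    (vqc1 (-25) (vqc1 (-70) (vqc1 (-13) (vqc1 (-10) (vqc1 (-9) vqy9))))));
    (vqc1 0 (vqc1 0 (vqc1 0 (vqc1 0 (vqc1 0 (vqc1 (-70) vqy14)))))));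
    (let vqy15 : type_of% vqy13 := (vqc1 1410 (vqc1 0 (vqc1 2520 (vqc1 152 (vqc1 (-40) (vqc1 72 vqy13))))));
    (vqc1 185955000 (vqc1 35000 (vqc1 4200 (vqc1 3960 (vqc1 (-150150) (vqc1 (-525) vqy15)))))))))))

/-- degree 191102976 -/
def r66 : List ℤ := (beta% delta% lq26bf99814e23 fun vqc0 vqc1 vqc2 _ _ _ _ _ _ _ _ =>
    (let vqy1 : type_of% (vqc0 _) := (let vqy2 : type_of% (vqc0 _) := (let vqy3 : type_of% (vqc0 _) := (let vqy4 : type_of% (vqc0 _) := (vqc1 1 (vqc1 0 (vqc1 0 (vqc1 (-1) (vqc1 0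
    (vqc1 (-1) (vqc1 0 vqc2)))))));
    (vqc1 0 (vqc1 0 (vqc1 1 (vqc1 1 (vqc1 0 (vqc1 0 vqy4)))))));
    (let vqy5 : type_of% vqy3 := (vqc1 0 (vqc1 0 (vqc1 0 (vqc1 0 (vqc1 (-1) (vqc1 (-1) vqy3))))));
    (vqc1 0 (vqc1 (-1) (vqc1 0 (vqc1 1 (vqc1 0 (vqc1 0 vqy5))))))));
    (let vqy6 : type_of% vqy2 := (let vqy7 : type_of% vqy2 := (vqc1 0 (vqc1 0 (vqc1 0 (vqc1 0 (vqc1 0 (vqc1 0 (vqc1 3 vqy2)))))));
    (vqc1 (-3) (vqc1 1 (vqc1 0 (vqc1 0 (vqc1 0 (vqc1 0 vqy7)))))));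
    (let vqy8 : type_of% vqy6 := (vqc1 2 (vqc1 0 (vqc1 (-1) (vqc1 (-1) (vqc1 0
    (vqc1 (-8) vqy6))))));
    (vqc1 8 (vqc1 0 (vqc1 0 (vqc1 0 (vqc1 0 (vqc1 0 vqy8)))))))));
    (let vqy9 : type_of% vqy1 := (let vqy10 : type_of% vqy1 := (let vqy11 : type_of% vqy1 := (vqc1 0 (vqc1 (-2) (vqc1 0 (vqc1 0 (vqc1 0 (vqc1 0 (vqc1 0 vqy1)))))));
    (vqc1 0 (vqc1 0 (vqc1 4 (vqc1 4 (vqc1 0 (vqc1 0 vqy11)))))));
    (let vqy12 : type_of% vqy10 := (vqc1 0 (vqc1 0 (vqc1 0 (vqc1 0 (vqc1 0 (vqc1 0 vqy10))))));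
    (vqc1 (-4) (vqc1 0 (vqc1 15 (vqc1 8 (vqc1 0 (vqc1 0 vqy12))))))));
    (let vqy13 : type_of% vqy9 := (let vqy14 : type_of% vqy9 := (vqc1 (-64) (vqc1 0 (vqc1 0 (vqc1 0 (vqc1 0
    (vqc1 0 vqy9))))));
    (vqc1 (-64) (vqc1 0 (vqc1 (-224) (vqc1 (-24) (vqc1 (-24) (vqc1 0 vqy14)))))));
    (let vqy15 : type_of% vqy13 := (vqc1 0 (vqc1 216 (vqc1 0 (vqc1 0 (vqc1 0 (vqc1 0 vqy13))))));
    (vqc1 191102976 (vqc1 0 (vqc1 (-4096) (vqc1 0 (vqc1 248832 (vqc1 0 vqy15)))))))))))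

/-- degree 201451250 -/
def r67 : List ℤ := (beta% delta% lq26bf99814e23 fun vqc0 vqc1 vqc2 _ _ _ _ _ _ _ _ =>
    (let vqy1 : type_of% (vqc0 _) := (let vqy2 : type_of% (vqc0 _) := (let vqy3 : type_of% (vqc0 _) := (let vqy4 : type_of% (vqc0 _) := (vqc1 0 (vqc1 0 (vqc1 0 (vqc1 0 (vqc1 0 (vqc1 0 (vqc1 0 vqc2)))))));
    (vqc1 0 (vqc1 0 (vqc1 0 (vqc1 0 (vqc1 0 (vqc1 0 vqy4)))))));
    (let vqy5 : type_of% vqy3 := (vqc1 2 (vqc1 1 (vqc1 0 (vqc1 0 (vqc1 0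
    (vqc1 0 vqy3))))));
    (vqc1 0 (vqc1 0 (vqc1 0 (vqc1 0 (vqc1 (-1) (vqc1 (-1) vqy5))))))));
    (let vqy6 : type_of% vqy2 := (let vqy7 : type_of% vqy2 := (vqc1 (-2) (vqc1 1 (vqc1 1 (vqc1 0 (vqc1 0 (vqc1 0 (vqc1 0 vqy2)))))));
    (vqc1 0 (vqc1 0 (vqc1 0 (vqc1 0 (vqc1 0 (vqc1 0 vqy7)))))));
    (let vqy8 : type_of% vqy6 := (vqc1 (-1) (vqc1 (-1) (vqc1 0 (vqc1 0 (vqc1 0 (vqc1 0 vqy6))))));
    (vqc1 5 (vqc1 2 (vqc1 0 (vqc1 (-2) (vqc1 (-2) (vqc1 (-4) vqy8)))))))));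
    (let vqy9 : type_of% vqy1 := (let vqy10 : type_of% vqy1 := (let vqy11 : type_of% vqy1 := (vqc1 0 (vqc1 0 (vqc1 (-45) (vqc1 11 (vqc1 (-9) (vqc1 0 (vqc1 0
    vqy1)))))));
    (vqc1 5 (vqc1 0 (vqc1 0 (vqc1 0 (vqc1 0 (vqc1 0 vqy11)))))));
    (let vqy12 : type_of% vqy10 := (vqc1 14 (vqc1 6 (vqc1 (-2) (vqc1 (-6) (vqc1 2 (vqc1 (-1) vqy10))))));
    (vqc1 (-5) (vqc1 3 (vqc1 0 (vqc1 0 (vqc1 50 (vqc1 (-6) vqy12))))))));
    (let vqy13 : type_of% vqy9 := (let vqy14 : type_of% vqy9 := (vqc1 175 (vqc1 (-50) (vqc1 (-50) (vqc1 52 (vqc1 10 (vqc1 6 vqy9))))));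
    (vqc1 14 (vqc1 (-10) (vqc1 0 (vqc1 0 (vqc1 0
    (vqc1 (-5) vqy14)))))));
    (let vqy15 : type_of% vqy13 := (vqc1 470 (vqc1 35 (vqc1 1890 (vqc1 (-190) (vqc1 (-110) (vqc1 (-54) vqy13))))));
    (vqc1 201451250 (vqc1 75250 (vqc1 (-4550) (vqc1 (-3630) (vqc1 (-125125) (vqc1 (-700) vqy15)))))))))))

/-- degree 205395750 -/
def r68 : List ℤ := (beta% delta% lq26bf99814e23 fun vqc0 vqc1 vqc2 _ _ _ _ _ _ _ _ =>
    (let vqy1 : type_of% (vqc0 _) := (let vqy2 : type_of% (vqc0 _) := (let vqy3 : type_of% (vqc0 _) := (let vqy4 : type_of% (vqc0 _) := (vqc1 (-1) (vqc1 0 (vqc1 0 (vqc1 1 (vqc1 1 (vqc1 0 (vqc1 1 vqc2)))))));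
    (vqc1 0 (vqc1 (-3) (vqc1 (-1)
    (vqc1 0 (vqc1 0 (vqc1 0 vqy4)))))));
    (let vqy5 : type_of% vqy3 := (vqc1 0 (vqc1 (-1) (vqc1 0 (vqc1 0 (vqc1 1 (vqc1 0 vqy3))))));
    (vqc1 0 (vqc1 0 (vqc1 (-1) (vqc1 0 (vqc1 3 (vqc1 (-1) vqy5))))))));
    (let vqy6 : type_of% vqy2 := (let vqy7 : type_of% vqy2 := (vqc1 0 (vqc1 0 (vqc1 0 (vqc1 1 (vqc1 0 (vqc1 0 (vqc1 0 vqy2)))))));
    (vqc1 0 (vqc1 (-1) (vqc1 0 (vqc1 0 (vqc1 0 (vqc1 0 vqy7)))))));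
    (let vqy8 : type_of% vqy6 := (vqc1 1 (vqc1 1 (vqc1 1 (vqc1 0 (vqc1 0 (vqc1 5 vqy6))))));
    (vqc1 (-5) (vqc1 0 (vqc1 0
    (vqc1 0 (vqc1 0 (vqc1 0 vqy8)))))))));
    (let vqy9 : type_of% vqy1 := (let vqy10 : type_of% vqy1 := (let vqy11 : type_of% vqy1 := (vqc1 0 (vqc1 (-1) (vqc1 (-9) (vqc1 (-9) (vqc1 15 (vqc1 0 (vqc1 0 vqy1)))))));
    (vqc1 0 (vqc1 (-15) (vqc1 0 (vqc1 5 (vqc1 0 (vqc1 0 vqy11)))))));
    (let vqy12 : type_of% vqy10 := (vqc1 2 (vqc1 (-6) (vqc1 2 (vqc1 6 (vqc1 0 (vqc1 0 vqy10))))));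
    (vqc1 (-11) (vqc1 (-3) (vqc1 0 (vqc1 0 (vqc1 6 (vqc1 (-18) vqy12))))))));
    (let vqy13 : type_of% vqy9 := (let vqy14 : type_of% vqy9 := (vqc1 175 (vqc1 0 (vqc1 0 (vqc1 0 (vqc1 0 (vqc1 0 vqy9))))));
    (vqc1 (-14) (vqc1 10 (vqc1 (-175) (vqc1 0 (vqc1 0 (vqc1 567
    vqy14)))))));
    (let vqy15 : type_of% vqy13 := (vqc1 0 (vqc1 189 (vqc1 2646 (vqc1 54 (vqc1 (-90) (vqc1 30 vqy13))))));
    (vqc1 205395750 (vqc1 5670 (vqc1 (-5810) (vqc1 (-1530) (vqc1 (-144585) (vqc1 0 vqy15)))))))))))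

/-- degree 207491625 -/
def r69 : List ℤ := (beta% delta% lq26bf99814e23 fun vqc0 vqc1 vqc2 _ _ _ _ _ _ _ _ =>
    (let vqy1 : type_of% (vqc0 _) := (let vqy2 : type_of% (vqc0 _) := (let vqy3 : type_of% (vqc0 _) := (let vqy4 : type_of% (vqc0 _) := (vqc1 0
    (vqc1 1 (vqc1 0 (vqc1 0 (vqc1 (-1) (vqc1 0 (vqc1 0 vqc2)))))));
    (vqc1 (-1) (vqc1 0 (vqc1 (-1) (vqc1 0 (vqc1 0 (vqc1 0 vqy4)))))));
    (let vqy5 : type_of% vqy3 := (vqc1 0 (vqc1 0 (vqc1 0 (vqc1 0 (vqc1 (-1) (vqc1 1 vqy3))))));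
    (vqc1 0 (vqc1 (-1) (vqc1 0 (vqc1 0 (vqc1 0 (vqc1 0 vqy5))))))));
    (let vqy6 : type_of% vqy2 := (let vqy7 : type_of% vqy2 := (vqc1 0 (vqc1 0 (vqc1 0 (vqc1 (-3) (vqc1 0 (vqc1 0 (vqc1 0 vqy2)))))));
    (vqc1 0 (vqc1 3 (vqc1 0 (vqc1 0 (vqc1 (-1) (vqc1 (-1) vqy7)))))));
    (let vqy8 : type_of% vqy6 := (vqc1 0 (vqc1 2
    (vqc1 3 (vqc1 3 (vqc1 1 (vqc1 0 vqy6))))));
    (vqc1 0 (vqc1 0 (vqc1 0 (vqc1 0 (vqc1 0 (vqc1 0 vqy8)))))))));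
    (let vqy9 : type_of% vqy1 := (let vqy10 : type_of% vqy1 := (let vqy11 : type_of% vqy1 := (vqc1 0 (vqc1 0 (vqc1 0 (vqc1 0 (vqc1 0 (vqc1 0 (vqc1 0 vqy1)))))));
    (vqc1 0 (vqc1 (-15) (vqc1 0 (vqc1 5 (vqc1 0 (vqc1 0 vqy11)))))));
    (let vqy12 : type_of% vqy10 := (vqc1 (-3) (vqc1 5 (vqc1 (-3) (vqc1 (-3) (vqc1 0 (vqc1 0 vqy10))))));
    (vqc1 (-6) (vqc1 6 (vqc1 (-9) (vqc1 5 (vqc1 9 (vqc1 (-15) vqy12))))))));
    (let vqy13 : type_of% vqy9 := (let vqy14 : type_of% vqy9 := (vqc1 0 (vqc1 0 (vqc1 0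
    (vqc1 0 (vqc1 0 (vqc1 0 vqy9))))));
    (vqc1 (-27) (vqc1 5 (vqc1 225 (vqc1 0 (vqc1 0 (vqc1 0 vqy14)))))));
    (let vqy15 : type_of% vqy13 := (vqc1 0 (vqc1 (-162) (vqc1 (-1863) (vqc1 153 (vqc1 (-135) (vqc1 81 vqy13))))));
    (vqc1 207491625 (vqc1 27945 (vqc1 8865 (vqc1 3465 (vqc1 0 (vqc1 0 vqy15)))))))))))

/-- degree 210974400 -/
def r70 : List ℤ := (beta% delta% lq26bf99814e23 fun vqc0 vqc1 vqc2 _ _ _ _ _ _ _ _ =>
    (let vqy1 : type_of% (vqc0 _) := (let vqy2 : type_of% (vqc0 _) := (let vqy3 : type_of% (vqc0 _) := (let vqy4 : type_of% (vqc0 _) := (vqc1 (-1) (vqc1 0 (vqc1 1 (vqc1 0 (vqc1 0 (vqc1 0 (vqc1 0 vqc2)))))));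
    (vqc1 0 (vqc1 0 (vqc1 0 (vqc1 0 (vqc1 (-1) (vqc1 0
    vqy4)))))));
    (let vqy5 : type_of% vqy3 := (vqc1 0 (vqc1 0 (vqc1 0 (vqc1 0 (vqc1 0 (vqc1 0 vqy3))))));
    (vqc1 0 (vqc1 0 (vqc1 1 (vqc1 0 (vqc1 0 (vqc1 0 vqy5))))))));
    (let vqy6 : type_of% vqy2 := (let vqy7 : type_of% vqy2 := (vqc1 3 (vqc1 0 (vqc1 0 (vqc1 0 (vqc1 0 (vqc1 (-1) (vqc1 0 vqy2)))))));
    (vqc1 0 (vqc1 0 (vqc1 0 (vqc1 1 (vqc1 0 (vqc1 0 vqy7)))))));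
    (let vqy8 : type_of% vqy6 := (vqc1 0 (vqc1 0 (vqc1 0 (vqc1 0 (vqc1 0 (vqc1 0 vqy6))))));
    (vqc1 0 (vqc1 (-2) (vqc1 2 (vqc1 4 (vqc1 (-2)
    (vqc1 (-2) vqy8)))))))));
    (let vqy9 : type_of% vqy1 := (let vqy10 : type_of% vqy1 := (let vqy11 : type_of% vqy1 := (vqc1 0 (vqc1 (-1) (vqc1 40 (vqc1 (-8) (vqc1 (-16) (vqc1 10 (vqc1 (-2) vqy1)))))));
    (vqc1 0 (vqc1 0 (vqc1 0 (vqc1 0 (vqc1 0 (vqc1 5 vqy11)))))));
    (let vqy12 : type_of% vqy10 := (vqc1 0 (vqc1 0 (vqc1 0 (vqc1 0 (vqc1 (-9) (vqc1 0 vqy10))))));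
    (vqc1 0 (vqc1 0 (vqc1 0 (vqc1 0 (vqc1 0 (vqc1 0 vqy12))))))));
    (let vqy13 : type_of% vqy9 := (let vqy14 : type_of% vqy9 := (vqc1 0 (vqc1 (-30)
    (vqc1 24 (vqc1 (-6) (vqc1 36 (vqc1 (-6) vqy9))))));
    (vqc1 0 (vqc1 0 (vqc1 0 (vqc1 0 (vqc1 25 (vqc1 600 vqy14)))))));
    (let vqy15 : type_of% vqy13 := (vqc1 (-144) (vqc1 0 (vqc1 (-2240) (vqc1 64 (vqc1 64 (vqc1 128 vqy13))))));
    (vqc1 210974400 (vqc1 20160 (vqc1 0 (vqc1 (-6720) (vqc1 163800 (vqc1 (-630) vqy15)))))))))))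

/-- degree 215547904 -/
def r71 : List ℤ := (beta% delta% lq26bf99814e23 fun vqc0 vqc1 vqc2 _ _ _ _ _ _ _ _ =>
    (let vqy1 : type_of% (vqc0 _) := (let vqy2 : type_of% (vqc0 _) := (let vqy3 : type_of% (vqc0 _) := (let vqy4 : type_of% (vqc0 _) := (vqc1 0 (vqc1 (-1) (vqc1 0 (vqc1 0 (vqc1 0 (vqc1 0 (vqc1 0 vqc2)))))));
    (vqc1 0 (vqc1 (-2) (vqc1 0 (vqc1 0 (vqc1 (-1)
    (vqc1 (-1) vqy4)))))));
    (let vqy5 : type_of% vqy3 := (vqc1 0 (vqc1 0 (vqc1 0 (vqc1 0 (vqc1 0 (vqc1 0 vqy3))))));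
    (vqc1 (-1) (vqc1 1 (vqc1 0 (vqc1 0 (vqc1 0 (vqc1 0 vqy5))))))));
    (let vqy6 : type_of% vqy2 := (let vqy7 : type_of% vqy2 := (vqc1 (-2) (vqc1 1 (vqc1 1 (vqc1 0 (vqc1 0 (vqc1 0 (vqc1 (-4) vqy2)))))));
    (vqc1 (-4) (vqc1 4 (vqc1 (-1) (vqc1 1 (vqc1 0 (vqc1 0 vqy7)))))));
    (let vqy8 : type_of% vqy6 := (vqc1 0
    (vqc1 0 (vqc1 0 (vqc1 0 (vqc1 2 (vqc1 (-14) vqy6))))));
    (vqc1 0 (vqc1 0 (vqc1 0 (vqc1 0 (vqc1 0 (vqc1 0 vqy8)))))))));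
    (let vqy9 : type_of% vqy1 := (let vqy10 : type_of% vqy1 := (let vqy11 : type_of% vqy1 := (vqc1 0 (vqc1 0 (vqc1 0 (vqc1 0 (vqc1 0 (vqc1 0 (vqc1 0 vqy1)))))));
    (vqc1 1 (vqc1 16 (vqc1 0 (vqc1 0 (vqc1 (-4) (vqc1 (-4) vqy11)))))));
    (let vqy12 : type_of% vqy10 := (vqc1 0 (vqc1 0 (vqc1 0 (vqc1 0 (vqc1 10 (vqc1 1 vqy10))))));
    (vqc1 0 (vqc1 0 (vqc1 (-16) (vqc1 (-2) (vqc1 0 (vqc1 0 vqy12))))))));
    (let vqy13 : type_of% vqy9 := (let vqy14 : type_of% vqy9 := (vqc1 0 (vqc1 64 (vqc1 64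
    (vqc1 (-32) (vqc1 16 (vqc1 0 vqy9))))));
    (vqc1 0 (vqc1 0 (vqc1 (-176) (vqc1 (-16) (vqc1 4 (vqc1 (-512) vqy14)))))));
    (let vqy15 : type_of% vqy13 := (vqc1 (-224) (vqc1 64 (vqc1 0 (vqc1 0 (vqc1 0 (vqc1 0 vqy13))))));
    (vqc1 215547904 (vqc1 65536 (vqc1 0 (vqc1 0 (vqc1 73216 (vqc1 1504 vqy15)))))))))))

/-- degree 219648000 -/
def r72 : List ℤ := (beta% delta% lq26bf99814e23 fun vqc0 vqc1 vqc2 _ _ _ _ _ _ _ _ =>
    (let vqy1 : type_of% (vqc0 _) := (let vqy2 : type_of% (vqc0 _) := (let vqy3 : type_of% (vqc0 _) := (let vqy4 : type_of% (vqc0 _) := (vqc1 0 (vqc1 (-1)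
    (vqc1 (-1) (vqc1 0 (vqc1 0 (vqc1 0 (vqc1 1 vqc2)))))));
    (vqc1 (-1) (vqc1 1 (vqc1 0 (vqc1 0 (vqc1 0 (vqc1 0 vqy4)))))));
    (let vqy5 : type_of% vqy3 := (vqc1 0 (vqc1 0 (vqc1 0 (vqc1 0 (vqc1 0 (vqc1 0 vqy3))))));
    (vqc1 (-1) (vqc1 0 (vqc1 0 (vqc1 1 (vqc1 0 (vqc1 0 vqy5))))))));
    (let vqy6 : type_of% vqy2 := (let vqy7 : type_of% vqy2 := (vqc1 3 (vqc1 0 (vqc1 0 (vqc1 4 (vqc1 0 (vqc1 0 (vqc1 (-4) vqy2)))))));
    (vqc1 0 (vqc1 0 (vqc1 0 (vqc1 0 (vqc1 0 (vqc1 0 vqy7)))))));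
    (let vqy8 : type_of% vqy6 := (vqc1 0 (vqc1 0 (vqc1 0
    (vqc1 0 (vqc1 (-1) (vqc1 (-15) vqy6))))));
    (vqc1 0 (vqc1 0 (vqc1 0 (vqc1 0 (vqc1 0 (vqc1 0 vqy8)))))))));
    (let vqy9 : type_of% vqy1 := (let vqy10 : type_of% vqy1 := (let vqy11 : type_of% vqy1 := (vqc1 0 (vqc1 0 (vqc1 (-64) (vqc1 0 (vqc1 0 (vqc1 8 (vqc1 8 vqy1)))))));
    (vqc1 6 (vqc1 (-20) (vqc1 0 (vqc1 0 (vqc1 0 (vqc1 0 vqy11)))))));
    (let vqy12 : type_of% vqy10 := (vqc1 0 (vqc1 0 (vqc1 0 (vqc1 0 (vqc1 3 (vqc1 0 vqy10))))));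
    (vqc1 0 (vqc1 0 (vqc1 (-16) (vqc1 (-9) (vqc1 0 (vqc1 0 vqy12))))))));
    (let vqy13 : type_of% vqy9 := (let vqy14 : type_of% vqy9 := (vqc1 0 (vqc1 0 (vqc1 0 (vqc1 24
    (vqc1 (-24) (vqc1 0 vqy9))))));
    (vqc1 0 (vqc1 0 (vqc1 300 (vqc1 0 (vqc1 0 (vqc1 576 vqy14)))))));
    (let vqy15 : type_of% vqy13 := (vqc1 (-240) (vqc1 0 (vqc1 (-4096) (vqc1 0 (vqc1 0 (vqc1 0 vqy13))))));
    (vqc1 219648000 (vqc1 (-61440) (vqc1 0 (vqc1 0 (vqc1 137280 (vqc1 1560 vqy15)))))))))))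

/-- degree 241741500 -/
def r73 : List ℤ := (beta% delta% lq26bf99814e23 fun vqc0 vqc1 vqc2 _ _ _ _ _ _ _ _ =>
    (let vqy1 : type_of% (vqc0 _) := (let vqy2 : type_of% (vqc0 _) := (let vqy3 : type_of% (vqc0 _) := (let vqy4 : type_of% (vqc0 _) := (vqc1 0 (vqc1 0 (vqc1 (-1) (vqc1 0 (vqc1 0 (vqc1 0 (vqc1 0 vqc2)))))));
    (vqc1 0 (vqc1 0
    (vqc1 0 (vqc1 1 (vqc1 0 (vqc1 1 vqy4)))))));
    (let vqy5 : type_of% vqy3 := (vqc1 1 (vqc1 0 (vqc1 1 (vqc1 0 (vqc1 0 (vqc1 0 vqy3))))));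
    (vqc1 0 (vqc1 0 (vqc1 0 (vqc1 0 (vqc1 4 (vqc1 0 vqy5))))))));
    (let vqy6 : type_of% vqy2 := (let vqy7 : type_of% vqy2 := (vqc1 1 (vqc1 1 (vqc1 (-2) (vqc1 0 (vqc1 (-1) (vqc1 0 (vqc1 0 vqy2)))))));
    (vqc1 5 (vqc1 0 (vqc1 (-1) (vqc1 0 (vqc1 2 (vqc1 (-2) vqy7)))))));
    (let vqy8 : type_of% vqy6 := (vqc1 0 (vqc1 0 (vqc1 0 (vqc1 0 (vqc1 0 (vqc1 0 vqy6))))));
    (vqc1 0 (vqc1 3
    (vqc1 (-1) (vqc1 2 (vqc1 (-1) (vqc1 0 vqy8)))))))));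
    (let vqy9 : type_of% vqy1 := (let vqy10 : type_of% vqy1 := (let vqy11 : type_of% vqy1 := (vqc1 (-1) (vqc1 0 (vqc1 20 (vqc1 (-12) (vqc1 (-4) (vqc1 (-4) (vqc1 (-1) vqy1)))))));
    (vqc1 3 (vqc1 0 (vqc1 (-5) (vqc1 0 (vqc1 (-5) (vqc1 0 vqy11)))))));
    (let vqy12 : type_of% vqy10 := (vqc1 0 (vqc1 (-8) (vqc1 0 (vqc1 0 (vqc1 (-3) (vqc1 0 vqy10))))));
    (vqc1 0 (vqc1 0 (vqc1 0 (vqc1 0 (vqc1 (-20) (vqc1 4 vqy12))))))));
    (let vqy13 : type_of% vqy9 := (let vqy14 : type_of% vqy9 := (vqc1 (-84)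
    (vqc1 (-89) (vqc1 10 (vqc1 (-5) (vqc1 (-2) (vqc1 15 vqy9))))));
    (vqc1 0 (vqc1 24 (vqc1 0 (vqc1 (-25) (vqc1 0 (vqc1 100 vqy14)))))));
    (let vqy15 : type_of% vqy13 := (vqc1 (-30) (vqc1 0 (vqc1 140 (vqc1 108 (vqc1 140 (vqc1 (-124) vqy13))))));
    (vqc1 241741500 (vqc1 81340 (vqc1 5460 (vqc1 924 (vqc1 (-60060) (vqc1 (-21) vqy15)))))))))))

/-- degree 247235625 -/
def r74 : List ℤ := (beta% delta% lq26bf99814e23 fun vqc0 vqc1 vqc2 _ _ _ _ _ _ _ _ =>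
    (let vqy1 : type_of% (vqc0 _) := (let vqy2 : type_of% (vqc0 _) := (let vqy3 : type_of% (vqc0 _) := (let vqy4 : type_of% (vqc0 _) := (vqc1 (-1) (vqc1 0 (vqc1 0 (vqc1 0 (vqc1 0 (vqc1 0 (vqc1 0 vqc2)))))));
    (vqc1 0 (vqc1 0 (vqc1 0
    (vqc1 0 (vqc1 0 (vqc1 0 vqy4)))))));
    (let vqy5 : type_of% vqy3 := (vqc1 3 (vqc1 (-1) (vqc1 1 (vqc1 1 (vqc1 0 (vqc1 0 vqy3))))));
    (vqc1 0 (vqc1 0 (vqc1 (-1) (vqc1 0 (vqc1 3 (vqc1 (-1) vqy5))))))));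
    (let vqy6 : type_of% vqy2 := (let vqy7 : type_of% vqy2 := (vqc1 0 (vqc1 0 (vqc1 0 (vqc1 0 (vqc1 0 (vqc1 0 (vqc1 0 vqy2)))))));
    (vqc1 0 (vqc1 0 (vqc1 0 (vqc1 0 (vqc1 1 (vqc1 1 vqy7)))))));
    (let vqy8 : type_of% vqy6 := (vqc1 0 (vqc1 0 (vqc1 0 (vqc1 0 (vqc1 0 (vqc1 0 vqy6))))));
    (vqc1 3 (vqc1 (-5) (vqc1 (-3)
    (vqc1 (-1) (vqc1 (-1) (vqc1 1 vqy8)))))))));
    (let vqy9 : type_of% vqy1 := (let vqy10 : type_of% vqy1 := (let vqy11 : type_of% vqy1 := (vqc1 0 (vqc1 (-1) (vqc1 15 (vqc1 (-17) (vqc1 (-9) (vqc1 (-3) (vqc1 (-3) vqy1)))))));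
    (vqc1 0 (vqc1 0 (vqc1 0 (vqc1 0 (vqc1 0 (vqc1 0 vqy11)))))));
    (let vqy12 : type_of% vqy10 := (vqc1 (-7) (vqc1 9 (vqc1 5 (vqc1 1 (vqc1 0 (vqc1 0 vqy10))))));
    (vqc1 0 (vqc1 0 (vqc1 0 (vqc1 0 (vqc1 (-15) (vqc1 1 vqy12))))))));
    (let vqy13 : type_of% vqy9 := (let vqy14 : type_of% vqy9 := (vqc1 (-105)
    (vqc1 15 (vqc1 15 (vqc1 33 (vqc1 51 (vqc1 (-9) vqy9))))));
    (vqc1 21 (vqc1 (-15) (vqc1 0 (vqc1 0 (vqc1 0 (vqc1 15 vqy14)))))));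
    (let vqy15 : type_of% vqy13 := (vqc1 135 (vqc1 0 (vqc1 105 (vqc1 (-23) (vqc1 (-55) (vqc1 (-87) vqy13))))));
    (vqc1 247235625 (vqc1 (-60375) (vqc1 6825 (vqc1 4905 (vqc1 (-61425) (vqc1 945 vqy15)))))))))))

/-- degree 251756505 -/
def r75 : List ℤ := (beta% delta% lq26bf99814e23 fun vqc0 vqc1 vqc2 _ _ _ _ _ _ _ _ =>
    (let vqy1 : type_of% (vqc0 _) := (let vqy2 : type_of% (vqc0 _) := (let vqy3 : type_of% (vqc0 _) := (let vqy4 : type_of% (vqc0 _) := (vqc1 0 (vqc1 0 (vqc1 0 (vqc1 0 (vqc1 (-1) (vqc1 (-1) (vqc1 1 vqc2)))))));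
    (vqc1 0
    (vqc1 1 (vqc1 0 (vqc1 0 (vqc1 0 (vqc1 (-1) vqy4)))))));
    (let vqy5 : type_of% vqy3 := (vqc1 1 (vqc1 0 (vqc1 1 (vqc1 0 (vqc1 0 (vqc1 1 vqy3))))));
    (vqc1 (-1) (vqc1 0 (vqc1 0 (vqc1 0 (vqc1 (-2) (vqc1 (-2) vqy5))))))));
    (let vqy6 : type_of% vqy2 := (let vqy7 : type_of% vqy2 := (vqc1 0 (vqc1 0 (vqc1 0 (vqc1 1 (vqc1 (-1) (vqc1 0 (vqc1 (-1) vqy2)))))));
    (vqc1 4 (vqc1 0 (vqc1 1 (vqc1 0 (vqc1 1 (vqc1 1 vqy7)))))));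
    (let vqy8 : type_of% vqy6 := (vqc1 0 (vqc1 0 (vqc1 0 (vqc1 (-1) (vqc1 0 (vqc1 9 vqy6))))));
    (vqc1 0 (vqc1 3
    (vqc1 (-1) (vqc1 0 (vqc1 3 (vqc1 0 vqy8)))))))));
    (let vqy9 : type_of% vqy1 := (let vqy10 : type_of% vqy1 := (let vqy11 : type_of% vqy1 := (vqc1 1 (vqc1 0 (vqc1 6 (vqc1 (-18) (vqc1 2 (vqc1 0 (vqc1 3 vqy1)))))));
    (vqc1 0 (vqc1 (-11) (vqc1 (-3) (vqc1 (-3) (vqc1 (-1) (vqc1 (-6) vqy11)))))));
    (let vqy12 : type_of% vqy10 := (vqc1 1 (vqc1 1 (vqc1 (-3) (vqc1 (-3) (vqc1 0 (vqc1 0 vqy10))))));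
    (vqc1 0 (vqc1 0 (vqc1 35 (vqc1 0 (vqc1 49 (vqc1 1 vqy12))))))));
    (let vqy13 : type_of% vqy9 := (let vqy14 : type_of% vqy9 := (vqc1 90 (vqc1 (-81) (vqc1 0 (vqc1 (-9) (vqc1 0 (vqc1 (-9) vqy9))))));
    (vqc1 (-27) (vqc1 9 (vqc1 (-315) (vqc1 25 (vqc1 30 (vqc1 (-594)
    vqy14)))))));
    (let vqy15 : type_of% vqy13 := (vqc1 0 (vqc1 0 (vqc1 441 (vqc1 57 (vqc1 105 (vqc1 41 vqy13))))));
    (vqc1 251756505 (vqc1 (-33831) (vqc1 (-6903) (vqc1 1881 (vqc1 208494 (vqc1 (-729) vqy15)))))))))))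

/-- degree 257857600 -/
def r76 : List ℤ := (beta% delta% lq26bf99814e23 fun vqc0 vqc1 vqc2 _ _ _ _ _ _ _ _ =>
    (let vqy1 : type_of% (vqc0 _) := (let vqy2 : type_of% (vqc0 _) := (let vqy3 : type_of% (vqc0 _) := (let vqy4 : type_of% (vqc0 _) := (vqc1 0 (vqc1 0 (vqc1 1 (vqc1 0 (vqc1 0 (vqc1 0 (vqc1 1 vqc2)))))));
    (vqc1 0
    (vqc1 1 (vqc1 (-1) (vqc1 (-1) (vqc1 0 (vqc1 0 vqy4)))))));
    (let vqy5 : type_of% vqy3 := (vqc1 0 (vqc1 (-2) (vqc1 0 (vqc1 0 (vqc1 0 (vqc1 0 vqy3))))));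
    (vqc1 0 (vqc1 0 (vqc1 0 (vqc1 0 (vqc1 0 (vqc1 0 vqy5))))))));
    (let vqy6 : type_of% vqy2 := (let vqy7 : type_of% vqy2 := (vqc1 (-1) (vqc1 (-1) (vqc1 (-1) (vqc1 (-2) (vqc1 0 (vqc1 0 (vqc1 0 vqy2)))))));
    (vqc1 3 (vqc1 (-1) (vqc1 0 (vqc1 0 (vqc1 0 (vqc1 0 vqy7)))))));
    (let vqy8 : type_of% vqy6 := (vqc1 2 (vqc1 0 (vqc1 0 (vqc1 0 (vqc1 0 (vqc1 (-7) vqy6))))));
    (vqc1 2 (vqc1 (-4)
    (vqc1 0 (vqc1 0 (vqc1 0 (vqc1 2 vqy8)))))))));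
    (let vqy9 : type_of% vqy1 := (let vqy10 : type_of% vqy1 := (let vqy11 : type_of% vqy1 := (vqc1 2 (vqc1 0 (vqc1 (-44) (vqc1 (-4) (vqc1 0 (vqc1 (-2) (vqc1 4 vqy1)))))));
    (vqc1 1 (vqc1 10 (vqc1 2 (vqc1 2 (vqc1 0 (vqc1 0 vqy11)))))));
    (let vqy12 : type_of% vqy10 := (vqc1 0 (vqc1 0 (vqc1 (-8) (vqc1 0 (vqc1 (-5) (vqc1 7 vqy10))))));
    (vqc1 4 (vqc1 0 (vqc1 0 (vqc1 0 (vqc1 0 (vqc1 0 vqy12))))))));
    (let vqy13 : type_of% vqy9 := (let vqy14 : type_of% vqy9 := (vqc1 (-56) (vqc1 20 (vqc1 20 (vqc1 20 (vqc1 (-16) (vqc1 (-12) vqy9))))));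
    (vqc1 56 (vqc1 0 (vqc1 (-70) (vqc1 (-30) (vqc1 0 (vqc1 236
    vqy14)))))));
    (let vqy15 : type_of% vqy13 := (vqc1 (-500) (vqc1 (-56) (vqc1 448 (vqc1 (-64) (vqc1 0 (vqc1 0 vqy13))))));
    (vqc1 257857600 (vqc1 96320 (vqc1 (-11648) (vqc1 2112 (vqc1 (-52052) (vqc1 (-140) vqy15)))))))))))

/-- degree 259008750 -/
def r77 : List ℤ := (beta% delta% lq26bf99814e23 fun vqc0 vqc1 vqc2 _ _ _ _ _ _ _ _ =>
    (let vqy1 : type_of% (vqc0 _) := (let vqy2 : type_of% (vqc0 _) := (let vqy3 : type_of% (vqc0 _) := (let vqy4 : type_of% (vqc0 _) := (vqc1 0 (vqc1 0 (vqc1 1 (vqc1 0 (vqc1 0 (vqc1 (-1) (vqc1 0 vqc2)))))));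
    (vqc1 0 (vqc1 0
    (vqc1 0 (vqc1 0 (vqc1 0 (vqc1 0 vqy4)))))));
    (let vqy5 : type_of% vqy3 := (vqc1 (-2) (vqc1 (-1) (vqc1 0 (vqc1 (-1) (vqc1 0 (vqc1 1 vqy3))))));
    (vqc1 (-1) (vqc1 0 (vqc1 0 (vqc1 0 (vqc1 1 (vqc1 1 vqy5))))))));
    (let vqy6 : type_of% vqy2 := (let vqy7 : type_of% vqy2 := (vqc1 3 (vqc1 0 (vqc1 0 (vqc1 0 (vqc1 0 (vqc1 0 (vqc1 (-1) vqy2)))))));
    (vqc1 0 (vqc1 0 (vqc1 0 (vqc1 0 (vqc1 0 (vqc1 0 vqy7)))))));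
    (let vqy8 : type_of% vqy6 := (vqc1 0 (vqc1 0 (vqc1 0 (vqc1 (-1) (vqc1 0 (vqc1 0 vqy6))))));
    (vqc1 3 (vqc1 2 (vqc1 0
    (vqc1 (-1) (vqc1 2 (vqc1 (-1) vqy8)))))))));
    (let vqy9 : type_of% vqy1 := (let vqy10 : type_of% vqy1 := (let vqy11 : type_of% vqy1 := (vqc1 0 (vqc1 0 (vqc1 (-35) (vqc1 5 (vqc1 9 (vqc1 7 (vqc1 4 vqy1)))))));
    (vqc1 0 (vqc1 0 (vqc1 0 (vqc1 0 (vqc1 0 (vqc1 0 vqy11)))))));
    (let vqy12 : type_of% vqy10 := (vqc1 10 (vqc1 2 (vqc1 2 (vqc1 2 (vqc1 (-9) (vqc1 0 vqy10))))));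
    (vqc1 0 (vqc1 0 (vqc1 35 (vqc1 0 (vqc1 (-50) (vqc1 6 vqy12))))))));
    (let vqy13 : type_of% vqy9 := (let vqy14 : type_of% vqy9 := (vqc1 (-15) (vqc1 30 (vqc1 (-105) (vqc1 0 (vqc1 15 (vqc1 6 vqy9))))));
    (vqc1 (-6) (vqc1 (-30) (vqc1 0 (vqc1 0 (vqc1 0 (vqc1 (-555)
    vqy14)))))));
    (let vqy15 : type_of% vqy13 := (vqc1 (-1305) (vqc1 0 (vqc1 2590 (vqc1 62 (vqc1 (-130) (vqc1 (-90) vqy13))))));
    (vqc1 259008750 (vqc1 19950 (vqc1 9750 (vqc1 (-1650) (vqc1 (-160875) (vqc1 720 vqy15)))))))))))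

/-- degree 267014475 -/
def r78 : List ℤ := (beta% delta% lq26bf99814e23 fun vqc0 vqc1 vqc2 _ _ _ _ _ _ _ _ =>
    (let vqy1 : type_of% (vqc0 _) := (let vqy2 : type_of% (vqc0 _) := (let vqy3 : type_of% (vqc0 _) := (let vqy4 : type_of% (vqc0 _) := (vqc1 (-1) (vqc1 0 (vqc1 0 (vqc1 0 (vqc1 0 (vqc1 0 (vqc1 1 vqc2)))))));
    (vqc1 0 (vqc1 1 (vqc1 (-1)
    (vqc1 (-1) (vqc1 0 (vqc1 0 vqy4)))))));
    (let vqy5 : type_of% vqy3 := (vqc1 0 (vqc1 2 (vqc1 0 (vqc1 0 (vqc1 0 (vqc1 0 vqy3))))));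
    (vqc1 0 (vqc1 0 (vqc1 0 (vqc1 0 (vqc1 0 (vqc1 0 vqy5))))))));
    (let vqy6 : type_of% vqy2 := (let vqy7 : type_of% vqy2 := (vqc1 0 (vqc1 0 (vqc1 0 (vqc1 (-2) (vqc1 0 (vqc1 0 (vqc1 0 vqy2)))))));
    (vqc1 3 (vqc1 (-1) (vqc1 0 (vqc1 0 (vqc1 (-1) (vqc1 (-1) vqy7)))))));
    (let vqy8 : type_of% vqy6 := (vqc1 1 (vqc1 1 (vqc1 0 (vqc1 0 (vqc1 0 (vqc1 (-7) vqy6))))));
    (vqc1 (-2) (vqc1 0 (vqc1 0
    (vqc1 0 (vqc1 0 (vqc1 0 vqy8)))))))));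
    (let vqy9 : type_of% vqy1 := (let vqy10 : type_of% vqy1 := (let vqy11 : type_of% vqy1 := (vqc1 2 (vqc1 2 (vqc1 36 (vqc1 12 (vqc1 0 (vqc1 0 (vqc1 0 vqy1)))))));
    (vqc1 0 (vqc1 10 (vqc1 2 (vqc1 2 (vqc1 0 (vqc1 0 vqy11)))))));
    (let vqy12 : type_of% vqy10 := (vqc1 3 (vqc1 3 (vqc1 (-1) (vqc1 (-9) (vqc1 0 (vqc1 0 vqy10))))));
    (vqc1 (-11) (vqc1 (-3) (vqc1 0 (vqc1 0 (vqc1 (-45) (vqc1 3 vqy12))))))));
    (let vqy13 : type_of% vqy9 := (let vqy14 : type_of% vqy9 := (vqc1 (-56) (vqc1 0 (vqc1 0 (vqc1 0 (vqc1 0 (vqc1 0 vqy9))))));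
    (vqc1 7 (vqc1 (-5) (vqc1 (-70) (vqc1 (-30) (vqc1 0 (vqc1 (-324)
    vqy14)))))));
    (let vqy15 : type_of% vqy13 := (vqc1 0 (vqc1 189 (vqc1 1323 (vqc1 (-213) (vqc1 315 (vqc1 27 vqy13))))));
    (vqc1 267014475 (vqc1 (-65205) (vqc1 8827 (vqc1 (-693) (vqc1 (-88452) (vqc1 0 vqy15)))))))))))

/-- degree 280280000 -/
def r79 : List ℤ := (beta% delta% lq26bf99814e23 fun vqc0 vqc1 vqc2 _ _ _ _ _ _ _ _ =>
    (let vqy1 : type_of% (vqc0 _) := (let vqy2 : type_of% (vqc0 _) := (let vqy3 : type_of% (vqc0 _) := (let vqy4 : type_of% (vqc0 _) := (vqc1 0 (vqc1 0 (vqc1 1 (vqc1 0 (vqc1 0 (vqc1 0 (vqc1 0 vqc2)))))));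
    (vqc1 0 (vqc1 0 (vqc1 0 (vqc1 0 (vqc1 0
    (vqc1 0 vqy4)))))));
    (let vqy5 : type_of% vqy3 := (vqc1 0 (vqc1 2 (vqc1 0 (vqc1 0 (vqc1 0 (vqc1 0 vqy3))))));
    (vqc1 0 (vqc1 0 (vqc1 0 (vqc1 (-1) (vqc1 0 (vqc1 0 vqy5))))))));
    (let vqy6 : type_of% vqy2 := (let vqy7 : type_of% vqy2 := (vqc1 1 (vqc1 1 (vqc1 1 (vqc1 0 (vqc1 0 (vqc1 0 (vqc1 0 vqy2)))))));
    (vqc1 0 (vqc1 0 (vqc1 0 (vqc1 0 (vqc1 0 (vqc1 0 vqy7)))))));
    (let vqy8 : type_of% vqy6 := (vqc1 (-2) (vqc1 0 (vqc1 0 (vqc1 0 (vqc1 0 (vqc1 0 vqy6))))));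
    (vqc1 (-2) (vqc1 0 (vqc1 4 (vqc1 0
    (vqc1 0 (vqc1 0 vqy8)))))))));
    (let vqy9 : type_of% vqy1 := (let vqy10 : type_of% vqy1 := (let vqy11 : type_of% vqy1 := (vqc1 0 (vqc1 0 (vqc1 (-20) (vqc1 (-12) (vqc1 (-8) (vqc1 (-8) (vqc1 4 vqy1)))))));
    (vqc1 (-1) (vqc1 0 (vqc1 0 (vqc1 0 (vqc1 0 (vqc1 0 vqy11)))))));
    (let vqy12 : type_of% vqy10 := (vqc1 0 (vqc1 0 (vqc1 8 (vqc1 0 (vqc1 (-7) (vqc1 5 vqy10))))));
    (vqc1 0 (vqc1 4 (vqc1 0 (vqc1 0 (vqc1 0 (vqc1 0 vqy12))))))));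
    (let vqy13 : type_of% vqy9 := (let vqy14 : type_of% vqy9 := (vqc1 0
    (vqc1 40 (vqc1 40 (vqc1 4 (vqc1 (-32) (vqc1 (-8) vqy9))))));
    (vqc1 (-56) (vqc1 0 (vqc1 0 (vqc1 0 (vqc1 0 (vqc1 580 vqy14)))))));
    (let vqy15 : type_of% vqy13 := (vqc1 (-520) (vqc1 140 (vqc1 (-2240) (vqc1 (-192) (vqc1 0 (vqc1 (-128) vqy13))))));
    (vqc1 280280000 (vqc1 11200 (vqc1 0 (vqc1 3520 (vqc1 100100 (vqc1 (-700) vqy15)))))))))))

/-- degree 292953024 -/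
def r80 : List ℤ := (beta% delta% lq26bf99814e23 fun vqc0 vqc1 vqc2 _ _ _ _ _ _ _ _ =>
    (let vqy1 : type_of% (vqc0 _) := (let vqy2 : type_of% (vqc0 _) := (let vqy3 : type_of% (vqc0 _) := (let vqy4 : type_of% (vqc0 _) := (vqc1 1 (vqc1 (-1) (vqc1 0 (vqc1 0 (vqc1 (-1) (vqc1 (-1) (vqc1 0 vqc2)))))));
    (vqc1 0 (vqc1 0 (vqc1 0
    (vqc1 (-1) (vqc1 0 (vqc1 0 vqy4)))))));
    (let vqy5 : type_of% vqy3 := (vqc1 (-2) (vqc1 0 (vqc1 0 (vqc1 0 (vqc1 0 (vqc1 0 vqy3))))));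
    (vqc1 2 (vqc1 0 (vqc1 1 (vqc1 0 (vqc1 4 (vqc1 0 vqy5))))))));
    (let vqy6 : type_of% vqy2 := (let vqy7 : type_of% vqy2 := (vqc1 0 (vqc1 0 (vqc1 0 (vqc1 (-3) (vqc1 0 (vqc1 0 (vqc1 (-1) vqy2)))))));
    (vqc1 (-5) (vqc1 0 (vqc1 (-2) (vqc1 0 (vqc1 0 (vqc1 0 vqy7)))))));
    (let vqy8 : type_of% vqy6 := (vqc1 0 (vqc1 0 (vqc1 0 (vqc1 2 (vqc1 0 (vqc1 0 vqy6))))));
    (vqc1 0 (vqc1 0 (vqc1 2
    (vqc1 0 (vqc1 0 (vqc1 0 vqy8)))))))));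
    (let vqy9 : type_of% vqy1 := (let vqy10 : type_of% vqy1 := (let vqy11 : type_of% vqy1 := (vqc1 (-2) (vqc1 1 (vqc1 60 (vqc1 12 (vqc1 (-4) (vqc1 0 (vqc1 (-6) vqy1)))))));
    (vqc1 0 (vqc1 (-15) (vqc1 2 (vqc1 (-3) (vqc1 0 (vqc1 0 vqy11)))))));
    (let vqy12 : type_of% vqy10 := (vqc1 0 (vqc1 0 (vqc1 0 (vqc1 0 (vqc1 0 (vqc1 0 vqy10))))));
    (vqc1 0 (vqc1 0 (vqc1 14 (vqc1 0 (vqc1 64 (vqc1 0 vqy12))))))));
    (let vqy13 : type_of% vqy9 := (let vqy14 : type_of% vqy9 := (vqc1 (-36) (vqc1 0 (vqc1 0 (vqc1 18 (vqc1 0 (vqc1 0 vqy9))))));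
    (vqc1 0 (vqc1 0 (vqc1 (-351) (vqc1 (-26) (vqc1 24 (vqc1 540
    vqy14)))))));
    (let vqy15 : type_of% vqy13 := (vqc1 0 (vqc1 0 (vqc1 4032 (vqc1 192 (vqc1 0 (vqc1 (-64) vqy13))))));
    (vqc1 292953024 (vqc1 (-60480) (vqc1 (-7488) (vqc1 1728 (vqc1 (-189540) (vqc1 1458 vqy15)))))))))))

/-- degree 299710125 -/
def r81 : List ℤ := (beta% delta% lq26bf99814e23 fun vqc0 vqc1 vqc2 _ _ _ _ _ _ _ _ =>
    (let vqy1 : type_of% (vqc0 _) := (let vqy2 : type_of% (vqc0 _) := (let vqy3 : type_of% (vqc0 _) := (let vqy4 : type_of% (vqc0 _) := (vqc1 0 (vqc1 0 (vqc1 0 (vqc1 0 (vqc1 1 (vqc1 (-1) (vqc1 1 vqc2)))))));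
    (vqc1 1 (vqc1 (-3)
    (vqc1 (-1) (vqc1 0 (vqc1 0 (vqc1 0 vqy4)))))));
    (let vqy5 : type_of% vqy3 := (vqc1 0 (vqc1 0 (vqc1 0 (vqc1 0 (vqc1 0 (vqc1 (-1) vqy3))))));
    (vqc1 0 (vqc1 1 (vqc1 0 (vqc1 0 (vqc1 6 (vqc1 (-2) vqy5))))))));
    (let vqy6 : type_of% vqy2 := (let vqy7 : type_of% vqy2 := (vqc1 0 (vqc1 0 (vqc1 0 (vqc1 1 (vqc1 0 (vqc1 0 (vqc1 3 vqy2)))))));
    (vqc1 0 (vqc1 (-1) (vqc1 0 (vqc1 0 (vqc1 (-1) (vqc1 (-1) vqy7)))))));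
    (let vqy8 : type_of% vqy6 := (vqc1 (-2) (vqc1 0 (vqc1 0 (vqc1 (-1) (vqc1 1 (vqc1 5 vqy6))))));
    (vqc1 4 (vqc1 0 (vqc1 0
    (vqc1 0 (vqc1 0 (vqc1 0 vqy8)))))))));
    (let vqy9 : type_of% vqy1 := (let vqy10 : type_of% vqy1 := (let vqy11 : type_of% vqy1 := (vqc1 0 (vqc1 0 (vqc1 (-54) (vqc1 18 (vqc1 6 (vqc1 0 (vqc1 0 vqy1)))))));
    (vqc1 0 (vqc1 (-15) (vqc1 0 (vqc1 5 (vqc1 0 (vqc1 0 vqy11)))))));
    (let vqy12 : type_of% vqy10 := (vqc1 1 (vqc1 (-7) (vqc1 (-3) (vqc1 (-3) (vqc1 0 (vqc1 0 vqy10))))));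
    (vqc1 4 (vqc1 0 (vqc1 15 (vqc1 1 (vqc1 21 (vqc1 (-3) vqy12))))))));
    (let vqy13 : type_of% vqy9 := (let vqy14 : type_of% vqy9 := (vqc1 (-50) (vqc1 0 (vqc1 0 (vqc1 0 (vqc1 0 (vqc1 0 vqy9))))));
    (vqc1 13 (vqc1 (-15) (vqc1 (-175) (vqc1 0 (vqc1 0 (vqc1 162
    vqy14)))))));
    (let vqy15 : type_of% vqy13 := (vqc1 0 (vqc1 (-216) (vqc1 (-1539) (vqc1 (-99) (vqc1 45 (vqc1 21 vqy13))))));
    (vqc1 299710125 (vqc1 (-28755) (vqc1 6565 (vqc1 1485 (vqc1 347490 (vqc1 0 vqy15)))))))))))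

/-- degree 302176875 -/
def r82 : List ℤ := (beta% delta% lq26bf99814e23 fun vqc0 vqc1 vqc2 _ _ _ _ _ _ _ _ =>
    (let vqy1 : type_of% (vqc0 _) := (let vqy2 : type_of% (vqc0 _) := (let vqy3 : type_of% (vqc0 _) := (let vqy4 : type_of% (vqc0 _) := (vqc1 0 (vqc1 0 (vqc1 1 (vqc1 0 (vqc1 0 (vqc1 0 (vqc1 0 vqc2)))))));
    (vqc1 0 (vqc1 0 (vqc1 0 (vqc1 0 (vqc1 0 (vqc1 0 vqy4)))))));
    (let vqy5 : type_of% vqy3 := (vqc1 1 (vqc1 (-2) (vqc1 (-1) (vqc1 0 (vqc1 0 (vqc1 0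
    vqy3))))));
    (vqc1 0 (vqc1 0 (vqc1 0 (vqc1 0 (vqc1 (-2) (vqc1 2 vqy5))))))));
    (let vqy6 : type_of% vqy2 := (let vqy7 : type_of% vqy2 := (vqc1 (-1) (vqc1 (-1) (vqc1 (-1) (vqc1 0 (vqc1 0 (vqc1 0 (vqc1 0 vqy2)))))));
    (vqc1 0 (vqc1 0 (vqc1 0 (vqc1 0 (vqc1 1 (vqc1 1 vqy7)))))));
    (let vqy8 : type_of% vqy6 := (vqc1 1 (vqc1 (-1) (vqc1 0 (vqc1 0 (vqc1 0 (vqc1 0 vqy6))))));
    (vqc1 (-2)
    (vqc1 1 (vqc1 3 (vqc1 0 (vqc1 (-3) (vqc1 (-2) vqy8)))))))));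
    (let vqy9 : type_of% vqy1 := (let vqy10 : type_of% vqy1 := (let vqy11 : type_of% vqy1 := (vqc1 0 (vqc1 0 (vqc1 70 (vqc1 22 (vqc1 6 (vqc1 10 (vqc1 (-5) vqy1)))))));
    (vqc1 3 (vqc1 0 (vqc1 0 (vqc1 0 (vqc1 0 (vqc1 0 vqy11)))))));
    (let vqy12 : type_of% vqy10 := (vqc1 (-1) (vqc1 7 (vqc1 7 (vqc1 3 (vqc1 3 (vqc1 3 vqy10))))));
    (vqc1 (-5) (vqc1 (-1) (vqc1 0 (vqc1 0 (vqc1 (-5) (vqc1 (-13) vqy12))))))));
    (let vqy13 : type_of% vqy9 := (let vqy14 : type_of% vqy9 := (vqc1 70 (vqc1 (-115) (vqc1 20 (vqc1 (-25) (vqc1 (-16) (vqc1 5 vqy9))))));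
    (vqc1 7 (vqc1 (-25) (vqc1 0 (vqc1 0 (vqc1 0 (vqc1 (-250)
    vqy14)))))));
    (let vqy15 : type_of% vqy13 := (vqc1 300 (vqc1 (-105) (vqc1 (-1925) (vqc1 (-101) (vqc1 75 (vqc1 (-45) vqy13))))));
    (vqc1 302176875 (vqc1 875 (vqc1 2275 (vqc1 4235 (vqc1 150150 (vqc1 (-105) vqy15)))))))))))

/-- degree 309429120 -/
def r83 : List ℤ := (beta% delta% lq26bf99814e23 fun vqc0 vqc1 vqc2 _ _ _ _ _ _ _ _ =>
    (let vqy1 : type_of% (vqc0 _) := (let vqy2 : type_of% (vqc0 _) := (let vqy3 : type_of% (vqc0 _) := (let vqy4 : type_of% (vqc0 _) := (vqc1 0 (vqc1 0 (vqc1 0 (vqc1 0 (vqc1 0 (vqc1 0 (vqc1 (-1) vqc2)))))));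
    (vqc1 0 (vqc1 (-1) (vqc1 (-1) (vqc1 (-1) (vqc1 1 (vqc1 1 vqy4)))))));
    (let vqy5 : type_of% vqy3 := (vqc1 0 (vqc1 0 (vqc1 0 (vqc1 0 (vqc1 0 (vqc1 0
    vqy3))))));
    (vqc1 0 (vqc1 0 (vqc1 0 (vqc1 0 (vqc1 0 (vqc1 0 vqy5))))))));
    (let vqy6 : type_of% vqy2 := (let vqy7 : type_of% vqy2 := (vqc1 (-2) (vqc1 1 (vqc1 1 (vqc1 2 (vqc1 0 (vqc1 0 (vqc1 0 vqy2)))))));
    (vqc1 (-1) (vqc1 (-1) (vqc1 (-1) (vqc1 (-1) (vqc1 0 (vqc1 0 vqy7)))))));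
    (let vqy8 : type_of% vqy6 := (vqc1 0 (vqc1 0 (vqc1 0 (vqc1 0 (vqc1 0 (vqc1 (-1) vqy6))))));
    (vqc1 0
    (vqc1 4 (vqc1 (-4) (vqc1 0 (vqc1 0 (vqc1 (-2) vqy8)))))))));
    (let vqy9 : type_of% vqy1 := (let vqy10 : type_of% vqy1 := (let vqy11 : type_of% vqy1 := (vqc1 (-2) (vqc1 0 (vqc1 24 (vqc1 (-8) (vqc1 8 (vqc1 (-6) (vqc1 0 vqy1)))))));
    (vqc1 3 (vqc1 14 (vqc1 2 (vqc1 2 (vqc1 4 (vqc1 4 vqy11)))))));
    (let vqy12 : type_of% vqy10 := (vqc1 0 (vqc1 0 (vqc1 0 (vqc1 0 (vqc1 (-6) (vqc1 3 vqy10))))));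
    (vqc1 4 (vqc1 4 (vqc1 0 (vqc1 0 (vqc1 0 (vqc1 0 vqy12))))))));
    (let vqy13 : type_of% vqy9 := (let vqy14 : type_of% vqy9 := (vqc1 (-56) (vqc1 (-44) (vqc1 (-44) (vqc1 (-32) (vqc1 16 (vqc1 4 vqy9))))));
    (vqc1 0 (vqc1 0 (vqc1 350 (vqc1 (-10) (vqc1 20
    (vqc1 (-296) vqy14)))))));
    (let vqy15 : type_of% vqy13 := (vqc1 (-276) (vqc1 84 (vqc1 (-2688) (vqc1 (-128) (vqc1 0 (vqc1 128 vqy13))))));
    (vqc1 309429120 (vqc1 (-27776) (vqc1 (-11648) (vqc1 1408 (vqc1 24024 (vqc1 1344 vqy15)))))))))))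

/-- degree 326956500 -/
def r84 : List ℤ := (beta% delta% lq26bf99814e23 fun vqc0 vqc1 vqc2 _ _ _ _ _ _ _ _ =>
    (let vqy1 : type_of% (vqc0 _) := (let vqy2 : type_of% (vqc0 _) := (let vqy3 : type_of% (vqc0 _) := (let vqy4 : type_of% (vqc0 _) := (vqc1 (-1) (vqc1 0 (vqc1 0 (vqc1 0 (vqc1 0 (vqc1 1 (vqc1 0 vqc2)))))));
    (vqc1 1 (vqc1 0
    (vqc1 0 (vqc1 1 (vqc1 0 (vqc1 1 vqy4)))))));
    (let vqy5 : type_of% vqy3 := (vqc1 (-1) (vqc1 0 (vqc1 (-1) (vqc1 0 (vqc1 0 (vqc1 0 vqy3))))));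
    (vqc1 1 (vqc1 0 (vqc1 0 (vqc1 0 (vqc1 (-4) (vqc1 0 vqy5))))))));
    (let vqy6 : type_of% vqy2 := (let vqy7 : type_of% vqy2 := (vqc1 0 (vqc1 0 (vqc1 0 (vqc1 0 (vqc1 (-1) (vqc1 0 (vqc1 1 vqy2)))))));
    (vqc1 5 (vqc1 0 (vqc1 (-1) (vqc1 0 (vqc1 (-2) (vqc1 2 vqy7)))))));
    (let vqy8 : type_of% vqy6 := (vqc1 0 (vqc1 0 (vqc1 0 (vqc1 (-2) (vqc1 (-1) (vqc1 0 vqy6))))));
    (vqc1 0 (vqc1 (-3) (vqc1 1
    (vqc1 0 (vqc1 (-3) (vqc1 0 vqy8)))))))));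
    (let vqy9 : type_of% vqy1 := (let vqy10 : type_of% vqy1 := (let vqy11 : type_of% vqy1 := (vqc1 (-1) (vqc1 2 (vqc1 (-60) (vqc1 (-12) (vqc1 4 (vqc1 0 (vqc1 (-3) vqy1)))))));
    (vqc1 0 (vqc1 0 (vqc1 (-5) (vqc1 0 (vqc1 (-5) (vqc1 0 vqy11)))))));
    (let vqy12 : type_of% vqy10 := (vqc1 0 (vqc1 8 (vqc1 0 (vqc1 0 (vqc1 0 (vqc1 0 vqy10))))));
    (vqc1 0 (vqc1 0 (vqc1 10 (vqc1 3 (vqc1 20 (vqc1 (-4) vqy12))))))));
    (let vqy13 : type_of% vqy9 := (let vqy14 : type_of% vqy9 := (vqc1 36 (vqc1 81 (vqc1 0 (vqc1 9 (vqc1 0 (vqc1 9 vqy9))))));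
    (vqc1 0 (vqc1 24 (vqc1 0 (vqc1 (-25) (vqc1 0 (vqc1 (-540)
    vqy14)))))));
    (let vqy15 : type_of% vqy13 := (vqc1 0 (vqc1 0 (vqc1 (-1980) (vqc1 228 (vqc1 (-60) (vqc1 (-20) vqy13))))));
    (vqc1 326956500 (vqc1 (-15660) (vqc1 (-2340) (vqc1 (-396) (vqc1 189540 (vqc1 729 vqy15)))))))))))

/-- degree 360062976 -/
def r85 : List ℤ := (beta% delta% lq26bf99814e23 fun vqc0 vqc1 vqc2 _ _ _ _ _ _ _ _ =>
    (let vqy1 : type_of% (vqc0 _) := (let vqy2 : type_of% (vqc0 _) := (let vqy3 : type_of% (vqc0 _) := (let vqy4 : type_of% (vqc0 _) := (vqc1 1 (vqc1 0 (vqc1 0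
    (vqc1 0 (vqc1 0 (vqc1 0 (vqc1 0 vqc2)))))));
    (vqc1 0 (vqc1 (-2) (vqc1 0 (vqc1 0 (vqc1 0 (vqc1 (-1) vqy4)))))));
    (let vqy5 : type_of% vqy3 := (vqc1 0 (vqc1 0 (vqc1 0 (vqc1 0 (vqc1 0 (vqc1 0 vqy3))))));
    (vqc1 0 (vqc1 0 (vqc1 0 (vqc1 0 (vqc1 0 (vqc1 0 vqy5))))))));
    (let vqy6 : type_of% vqy2 := (let vqy7 : type_of% vqy2 := (vqc1 (-2) (vqc1 1 (vqc1 (-2) (vqc1 0 (vqc1 0 (vqc1 0 (vqc1 0 vqy2)))))));
    (vqc1 4 (vqc1 0 (vqc1 1 (vqc1 2 (vqc1 0 (vqc1 0 vqy7)))))));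
    (let vqy8 : type_of% vqy6 := (vqc1 0 (vqc1 0 (vqc1 0
    (vqc1 0 (vqc1 0 (vqc1 (-6) vqy6))))));
    (vqc1 0 (vqc1 0 (vqc1 0 (vqc1 0 (vqc1 0 (vqc1 0 vqy8)))))))));
    (let vqy9 : type_of% vqy1 := (let vqy10 : type_of% vqy1 := (let vqy11 : type_of% vqy1 := (vqc1 0 (vqc1 (-2) (vqc1 0 (vqc1 0 (vqc1 0 (vqc1 0 (vqc1 0 vqy1)))))));
    (vqc1 (-3) (vqc1 16 (vqc1 0 (vqc1 0 (vqc1 (-4) (vqc1 6 vqy11)))))));
    (let vqy12 : type_of% vqy10 := (vqc1 0 (vqc1 0 (vqc1 0 (vqc1 0 (vqc1 (-6) (vqc1 0 vqy10))))));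
    (vqc1 0 (vqc1 0 (vqc1 0 (vqc1 0 (vqc1 0 (vqc1 0 vqy12))))))));
    (let vqy13 : type_of% vqy9 := (let vqy14 : type_of% vqy9 := (vqc1 0 (vqc1 64 (vqc1 (-80) (vqc1 16
    (vqc1 (-32) (vqc1 0 vqy9))))));
    (vqc1 0 (vqc1 0 (vqc1 336 (vqc1 16 (vqc1 26 (vqc1 (-512) vqy14)))))));
    (let vqy15 : type_of% vqy13 := (vqc1 912 (vqc1 0 (vqc1 0 (vqc1 0 (vqc1 0 (vqc1 0 vqy13))))));
    (vqc1 360062976 (vqc1 (-57344) (vqc1 0 (vqc1 0 (vqc1 (-139776) (vqc1 336 vqy15)))))))))))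

/-- degree 387317700 -/
def r86 : List ℤ := (beta% delta% lq26bf99814e23 fun vqc0 vqc1 vqc2 _ _ _ _ _ _ _ _ =>
    (let vqy1 : type_of% (vqc0 _) := (let vqy2 : type_of% (vqc0 _) := (let vqy3 : type_of% (vqc0 _) := (let vqy4 : type_of% (vqc0 _) := (vqc1 0 (vqc1 1 (vqc1 0 (vqc1 0 (vqc1 0 (vqc1 1 (vqc1 (-1) vqc2)))))));
    (vqc1 0
    (vqc1 (-1) (vqc1 0 (vqc1 0 (vqc1 0 (vqc1 0 vqy4)))))));
    (let vqy5 : type_of% vqy3 := (vqc1 2 (vqc1 0 (vqc1 0 (vqc1 0 (vqc1 (-1) (vqc1 0 vqy3))))));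
    (vqc1 (-2) (vqc1 0 (vqc1 0 (vqc1 0 (vqc1 2 (vqc1 2 vqy5))))))));
    (let vqy6 : type_of% vqy2 := (let vqy7 : type_of% vqy2 := (vqc1 0 (vqc1 0 (vqc1 0 (vqc1 2 (vqc1 0 (vqc1 0 (vqc1 1 vqy2)))))));
    (vqc1 (-4) (vqc1 0 (vqc1 2 (vqc1 0 (vqc1 (-2) (vqc1 2 vqy7)))))));
    (let vqy8 : type_of% vqy6 := (vqc1 0 (vqc1 0 (vqc1 3 (vqc1 (-2) (vqc1 0 (vqc1 (-9) vqy6))))));
    (vqc1 0 (vqc1 0
    (vqc1 (-2) (vqc1 0 (vqc1 0 (vqc1 0 vqy8)))))))));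
    (let vqy9 : type_of% vqy1 := (let vqy10 : type_of% vqy1 := (let vqy11 : type_of% vqy1 := (vqc1 (-2) (vqc1 0 (vqc1 (-6) (vqc1 18 (vqc1 (-2) (vqc1 0 (vqc1 6 vqy1)))))));
    (vqc1 0 (vqc1 (-10) (vqc1 (-6) (vqc1 (-6) (vqc1 0 (vqc1 0 vqy11)))))));
    (let vqy12 : type_of% vqy10 := (vqc1 8 (vqc1 0 (vqc1 0 (vqc1 0 (vqc1 0 (vqc1 0 vqy10))))));
    (vqc1 0 (vqc1 0 (vqc1 (-14) (vqc1 0 (vqc1 20 (vqc1 12 vqy12))))))));
    (let vqy13 : type_of% vqy9 := (let vqy14 : type_of% vqy9 := (vqc1 (-90) (vqc1 0 (vqc1 0 (vqc1 (-18) (vqc1 0 (vqc1 0 vqy9))))));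
    (vqc1 0 (vqc1 0 (vqc1 (-90) (vqc1 (-10) (vqc1 0 (vqc1 594
    vqy14)))))));
    (let vqy15 : type_of% vqy13 := (vqc1 0 (vqc1 0 (vqc1 2772 (vqc1 180 (vqc1 180 (vqc1 (-20) vqy13))))));
    (vqc1 387317700 (vqc1 3780 (vqc1 (-4356) (vqc1 1188 (vqc1 (-208494) (vqc1 (-1458) vqy15)))))))))))

/-- degree 402902500 -/
def r87 : List ℤ := (beta% delta% lq26bf99814e23 fun vqc0 vqc1 vqc2 _ _ _ _ _ _ _ _ =>
    (let vqy1 : type_of% (vqc0 _) := (let vqy2 : type_of% (vqc0 _) := (let vqy3 : type_of% (vqc0 _) := (let vqy4 : type_of% (vqc0 _) := (vqc1 0 (vqc1 0 (vqc1 (-1) (vqc1 0 (vqc1 0 (vqc1 0 (vqc1 0 vqc2)))))));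
    (vqc1 0 (vqc1 0
    (vqc1 0 (vqc1 0 (vqc1 0 (vqc1 0 vqy4)))))));
    (let vqy5 : type_of% vqy3 := (vqc1 (-4) (vqc1 1 (vqc1 0 (vqc1 0 (vqc1 0 (vqc1 0 vqy3))))));
    (vqc1 0 (vqc1 0 (vqc1 0 (vqc1 0 (vqc1 (-1) (vqc1 (-1) vqy5))))))));
    (let vqy6 : type_of% vqy2 := (let vqy7 : type_of% vqy2 := (vqc1 3 (vqc1 0 (vqc1 0 (vqc1 0 (vqc1 0 (vqc1 0 (vqc1 0 vqy2)))))));
    (vqc1 0 (vqc1 0 (vqc1 0 (vqc1 0 (vqc1 0 (vqc1 0 vqy7)))))));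
    (let vqy8 : type_of% vqy6 := (vqc1 1 (vqc1 1 (vqc1 0 (vqc1 0 (vqc1 0 (vqc1 0 vqy6))))));
    (vqc1 1 (vqc1 2
    (vqc1 (-2) (vqc1 2 (vqc1 2 (vqc1 2 vqy8)))))))));
    (let vqy9 : type_of% vqy1 := (let vqy10 : type_of% vqy1 := (let vqy11 : type_of% vqy1 := (vqc1 0 (vqc1 0 (vqc1 (-25) (vqc1 (-1) (vqc1 (-5) (vqc1 2 (vqc1 2 vqy1)))))));
    (vqc1 (-2) (vqc1 0 (vqc1 0 (vqc1 0 (vqc1 0 (vqc1 0 vqy11)))))));
    (let vqy12 : type_of% vqy10 := (vqc1 (-4) (vqc1 12 (vqc1 4 (vqc1 0 (vqc1 (-5) (vqc1 (-8) vqy10))))));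
    (vqc1 5 (vqc1 (-3) (vqc1 0 (vqc1 0 (vqc1 20 (vqc1 (-12) vqy12))))))));
    (let vqy13 : type_of% vqy9 := (let vqy14 : type_of% vqy9 := (vqc1 35 (vqc1 30 (vqc1 30 (vqc1 (-18) (vqc1 6 (vqc1 6 vqy9))))));
    (vqc1 28 (vqc1 (-20) (vqc1 0 (vqc1 0 (vqc1 0 (vqc1 255
    vqy14)))))));
    (let vqy15 : type_of% vqy13 := (vqc1 670 (vqc1 (-35) (vqc1 (-700) (vqc1 (-316) (vqc1 20 (vqc1 (-44) vqy13))))));
    (vqc1 402902500 (vqc1 60900 (vqc1 (-9100) (vqc1 3300 (vqc1 (-25025) (vqc1 (-770) vqy15)))))))))))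

/-- degree 464257024 -/
def r88 : List ℤ := (beta% delta% lq26bf99814e23 fun vqc0 vqc1 vqc2 _ _ _ _ _ _ _ _ =>
    (let vqy1 : type_of% (vqc0 _) := (let vqy2 : type_of% (vqc0 _) := (let vqy3 : type_of% (vqc0 _) := (let vqy4 : type_of% (vqc0 _) := (vqc1 0 (vqc1 0 (vqc1 0
    (vqc1 0 (vqc1 0 (vqc1 1 (vqc1 0 vqc2)))))));
    (vqc1 0 (vqc1 0 (vqc1 (-1) (vqc1 (-1) (vqc1 0 (vqc1 0 vqy4)))))));
    (let vqy5 : type_of% vqy3 := (vqc1 0 (vqc1 0 (vqc1 0 (vqc1 0 (vqc1 1 (vqc1 (-1) vqy3))))));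
    (vqc1 1 (vqc1 0 (vqc1 0 (vqc1 0 (vqc1 0 (vqc1 0 vqy5))))))));
    (let vqy6 : type_of% vqy2 := (let vqy7 : type_of% vqy2 := (vqc1 0 (vqc1 0 (vqc1 0 (vqc1 0 (vqc1 0 (vqc1 0 (vqc1 1 vqy2)))))));
    (vqc1 3 (vqc1 (-1) (vqc1 0 (vqc1 0 (vqc1 0 (vqc1 0 vqy7)))))));
    (let vqy8 : type_of% vqy6 := (vqc1 2 (vqc1 0 (vqc1 (-3)
    (vqc1 1 (vqc1 0 (vqc1 8 vqy6))))));
    (vqc1 8 (vqc1 0 (vqc1 0 (vqc1 0 (vqc1 0 (vqc1 0 vqy8)))))))));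
    (let vqy9 : type_of% vqy1 := (let vqy10 : type_of% vqy1 := (let vqy11 : type_of% vqy1 := (vqc1 0 (vqc1 0 (vqc1 0 (vqc1 0 (vqc1 0 (vqc1 0 (vqc1 0 vqy1)))))));
    (vqc1 (-2) (vqc1 0 (vqc1 (-4) (vqc1 (-4) (vqc1 0 (vqc1 0 vqy11)))))));
    (let vqy12 : type_of% vqy10 := (vqc1 0 (vqc1 0 (vqc1 0 (vqc1 0 (vqc1 16 (vqc1 (-2) vqy10))))));
    (vqc1 4 (vqc1 0 (vqc1 (-35) (vqc1 0 (vqc1 0 (vqc1 0 vqy12))))))));
    (let vqy13 : type_of% vqy9 := (let vqy14 : type_of% vqy9 := (vqc1 64 (vqc1 0 (vqc1 0 (vqc1 0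
    (vqc1 0 (vqc1 0 vqy9))))));
    (vqc1 (-64) (vqc1 0 (vqc1 224 (vqc1 24 (vqc1 24 (vqc1 0 vqy14)))))));
    (let vqy15 : type_of% vqy13 := (vqc1 (-1280) (vqc1 (-56) (vqc1 0 (vqc1 0 (vqc1 0 (vqc1 0 vqy13))))));
    (vqc1 464257024 (vqc1 0 (vqc1 4096 (vqc1 0 (vqc1 (-146432) (vqc1 (-1280) vqy15)))))))))))

/-- degree 469945476 -/
def r89 : List ℤ := (beta% delta% lq26bf99814e23 fun vqc0 vqc1 vqc2 _ _ _ _ _ _ _ _ =>
    (let vqy1 : type_of% (vqc0 _) := (let vqy2 : type_of% (vqc0 _) := (let vqy3 : type_of% (vqc0 _) := (let vqy4 : type_of% (vqc0 _) := (vqc1 0 (vqc1 0 (vqc1 0 (vqc1 0 (vqc1 0 (vqc1 0 (vqc1 0 vqc2)))))));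
    (vqc1 0 (vqc1 0
    (vqc1 1 (vqc1 1 (vqc1 0 (vqc1 0 vqy4)))))));
    (let vqy5 : type_of% vqy3 := (vqc1 0 (vqc1 (-1) (vqc1 0 (vqc1 0 (vqc1 0 (vqc1 0 vqy3))))));
    (vqc1 0 (vqc1 0 (vqc1 0 (vqc1 0 (vqc1 (-3) (vqc1 1 vqy5))))))));
    (let vqy6 : type_of% vqy2 := (let vqy7 : type_of% vqy2 := (vqc1 0 (vqc1 0 (vqc1 0 (vqc1 0 (vqc1 0 (vqc1 0 (vqc1 0 vqy2)))))));
    (vqc1 (-3) (vqc1 1 (vqc1 0 (vqc1 0 (vqc1 0 (vqc1 0 vqy7)))))));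
    (let vqy8 : type_of% vqy6 := (vqc1 (-1) (vqc1 (-1) (vqc1 0 (vqc1 0 (vqc1 0 (vqc1 (-8) vqy6))))));
    (vqc1 (-1) (vqc1 0
    (vqc1 0 (vqc1 0 (vqc1 0 (vqc1 0 vqy8)))))))));
    (let vqy9 : type_of% vqy1 := (let vqy10 : type_of% vqy1 := (let vqy11 : type_of% vqy1 := (vqc1 0 (vqc1 0 (vqc1 45 (vqc1 (-27) (vqc1 9 (vqc1 0 (vqc1 0 vqy1)))))));
    (vqc1 0 (vqc1 0 (vqc1 4 (vqc1 4 (vqc1 0 (vqc1 0 vqy11)))))));
    (let vqy12 : type_of% vqy10 := (vqc1 4 (vqc1 4 (vqc1 (-4) (vqc1 0 (vqc1 0 (vqc1 0 vqy10))))));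
    (vqc1 11 (vqc1 3 (vqc1 0 (vqc1 0 (vqc1 (-60) (vqc1 (-12) vqy12))))))));
    (let vqy13 : type_of% vqy9 := (let vqy14 : type_of% vqy9 := (vqc1 161 (vqc1 0 (vqc1 0 (vqc1 0 (vqc1 0 (vqc1 0 vqy9))))));
    (vqc1 (-28) (vqc1 20 (vqc1 (-224) (vqc1 (-24) (vqc1 (-24)
    (vqc1 405 vqy14)))))));
    (let vqy15 : type_of% vqy13 := (vqc1 0 (vqc1 (-189) (vqc1 3780 (vqc1 (-252) (vqc1 180 (vqc1 36 vqy13))))));
    (vqc1 469945476 (vqc1 (-56700) (vqc1 4004 (vqc1 (-1980) (vqc1 (-243243) (vqc1 0 vqy15)))))))))))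

/-- degree 469945476 -/
def r90 : List ℤ := (beta% delta% lq26bf99814e23 fun vqc0 vqc1 vqc2 _ _ _ _ _ _ _ _ =>
    (let vqy1 : type_of% (vqc0 _) := (let vqy2 : type_of% (vqc0 _) := (let vqy3 : type_of% (vqc0 _) := (let vqy4 : type_of% (vqc0 _) := (vqc1 0 (vqc1 0
    (vqc1 0 (vqc1 0 (vqc1 (-1) (vqc1 0 (vqc1 0 vqc2)))))));
    (vqc1 0 (vqc1 0 (vqc1 0 (vqc1 0 (vqc1 1 (vqc1 0 vqy4)))))));
    (let vqy5 : type_of% vqy3 := (vqc1 0 (vqc1 0 (vqc1 0 (vqc1 1 (vqc1 0 (vqc1 0 vqy3))))));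
    (vqc1 0 (vqc1 0 (vqc1 0 (vqc1 0 (vqc1 0 (vqc1 0 vqy5))))))));
    (let vqy6 : type_of% vqy2 := (let vqy7 : type_of% vqy2 := (vqc1 0 (vqc1 0 (vqc1 0 (vqc1 3 (vqc1 (-1) (vqc1 0 (vqc1 0 vqy2)))))));
    (vqc1 0 (vqc1 0 (vqc1 0 (vqc1 (-1) (vqc1 0 (vqc1 0 vqy7)))))));
    (let vqy8 : type_of% vqy6 := (vqc1 0
    (vqc1 0 (vqc1 0 (vqc1 0 (vqc1 0 (vqc1 0 vqy6))))));
    (vqc1 0 (vqc1 0 (vqc1 0 (vqc1 (-3) (vqc1 0 (vqc1 3 vqy8)))))))));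
    (let vqy9 : type_of% vqy1 := (let vqy10 : type_of% vqy1 := (let vqy11 : type_of% vqy1 := (vqc1 (-1) (vqc1 0 (vqc1 0 (vqc1 0 (vqc1 0 (vqc1 (-9) (vqc1 0 vqy1)))))));
    (vqc1 0 (vqc1 3 (vqc1 3 (vqc1 3 (vqc1 3 (vqc1 (-2) vqy11)))))));
    (let vqy12 : type_of% vqy10 := (vqc1 (-12) (vqc1 4 (vqc1 0 (vqc1 4 (vqc1 0 (vqc1 0 vqy10))))));
    (vqc1 0 (vqc1 0 (vqc1 0 (vqc1 0 (vqc1 (-36) (vqc1 12 vqy12))))))));
    (let vqy13 : type_of% vqy9 := (let vqy14 : type_of% vqy9 := (vqc1 0 (vqc1 0 (vqc1 81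
    (vqc1 0 (vqc1 (-27) (vqc1 0 vqy9))))));
    (vqc1 0 (vqc1 (-36) (vqc1 (-189) (vqc1 (-9) (vqc1 26 (vqc1 0 vqy14)))))));
    (let vqy15 : type_of% vqy13 := (vqc1 729 (vqc1 0 (vqc1 (-252) (vqc1 132 (vqc1 (-60) (vqc1 36 vqy13))))));
    (vqc1 469945476 (vqc1 40068 (vqc1 9828 (vqc1 (-8316) (vqc1 0 (vqc1 0 vqy15)))))))))))

/-- degree 483483000 -/
def r91 : List ℤ := (beta% delta% lq26bf99814e23 fun vqc0 vqc1 vqc2 _ _ _ _ _ _ _ _ =>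
    (let vqy1 : type_of% (vqc0 _) := (let vqy2 : type_of% (vqc0 _) := (let vqy3 : type_of% (vqc0 _) := (let vqy4 : type_of% (vqc0 _) := (vqc1 0 (vqc1 0 (vqc1 0 (vqc1 0 (vqc1 (-1) (vqc1 0 (vqc1 (-1) vqc2)))))));
    (vqc1 0 (vqc1 3 (vqc1 1 (vqc1 0 (vqc1 0 (vqc1 0 vqy4)))))));
    (let vqy5 : type_of% vqy3 := (vqc1 1 (vqc1 0 (vqc1 1 (vqc1 0 (vqc1 0 (vqc1 0
    vqy3))))));
    (vqc1 0 (vqc1 0 (vqc1 0 (vqc1 0 (vqc1 4 (vqc1 0 vqy5))))))));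
    (let vqy6 : type_of% vqy2 := (let vqy7 : type_of% vqy2 := (vqc1 (-2) (vqc1 (-2) (vqc1 1 (vqc1 (-1) (vqc1 0 (vqc1 0 (vqc1 0 vqy2)))))));
    (vqc1 0 (vqc1 1 (vqc1 0 (vqc1 0 (vqc1 0 (vqc1 0 vqy7)))))));
    (let vqy8 : type_of% vqy6 := (vqc1 0 (vqc1 0 (vqc1 0 (vqc1 0 (vqc1 0 (vqc1 (-5) vqy6))))));
    (vqc1 0 (vqc1 3 (vqc1 3 (vqc1 2 (vqc1 (-1) (vqc1 0 vqy8)))))))));
    (let vqy9 : type_of% vqy1 := (let vqy10 : type_of% vqy1 := (let vqy11 : type_of% vqy1 := (vqc1 0 (vqc1 0 (vqc1 (-36) (vqc1 12 (vqc1 12 (vqc1 (-12) (vqc1 3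
    vqy1)))))));
    (vqc1 0 (vqc1 15 (vqc1 0 (vqc1 (-5) (vqc1 0 (vqc1 0 vqy11)))))));
    (let vqy12 : type_of% vqy10 := (vqc1 0 (vqc1 (-16) (vqc1 0 (vqc1 0 (vqc1 (-6) (vqc1 (-3) vqy10))))));
    (vqc1 (-4) (vqc1 (-4) (vqc1 0 (vqc1 0 (vqc1 (-56) (vqc1 (-8) vqy12))))))));
    (let vqy13 : type_of% vqy9 := (let vqy14 : type_of% vqy9 := (vqc1 140 (vqc1 55 (vqc1 10 (vqc1 7 (vqc1 22 (vqc1 (-1) vqy9))))));
    (vqc1 0 (vqc1 0 (vqc1 175 (vqc1 0 (vqc1 0 (vqc1 28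
    vqy14)))))));
    (let vqy15 : type_of% vqy13 := (vqc1 210 (vqc1 (-84) (vqc1 (-2856) (vqc1 24 (vqc1 (-40) (vqc1 (-24) vqy13))))));
    (vqc1 483483000 (vqc1 (-16520) (vqc1 (-3640) (vqc1 440 (vqc1 60060 (vqc1 (-105) vqy15)))))))))))

/-- degree 502078500 -/
def r92 : List ℤ := (beta% delta% lq26bf99814e23 fun vqc0 vqc1 vqc2 _ _ _ _ _ _ _ _ =>
    (let vqy1 : type_of% (vqc0 _) := (let vqy2 : type_of% (vqc0 _) := (let vqy3 : type_of% (vqc0 _) := (let vqy4 : type_of% (vqc0 _) := (vqc1 0 (vqc1 0 (vqc1 0 (vqc1 1 (vqc1 0 (vqc1 0 (vqc1 0 vqc2)))))));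
    (vqc1 0 (vqc1 0 (vqc1 0 (vqc1 (-1) (vqc1 0 (vqc1 (-1) vqy4)))))));
    (let vqy5 : type_of% vqy3 := (vqc1 (-2) (vqc1 0 (vqc1 0 (vqc1 (-1) (vqc1 1 (vqc1 0
    vqy3))))));
    (vqc1 0 (vqc1 0 (vqc1 0 (vqc1 0 (vqc1 (-2) (vqc1 2 vqy5))))))));
    (let vqy6 : type_of% vqy2 := (let vqy7 : type_of% vqy2 := (vqc1 0 (vqc1 0 (vqc1 0 (vqc1 0 (vqc1 1 (vqc1 0 (vqc1 0 vqy2)))))));
    (vqc1 (-5) (vqc1 0 (vqc1 1 (vqc1 0 (vqc1 0 (vqc1 0 vqy7)))))));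
    (let vqy8 : type_of% vqy6 := (vqc1 0 (vqc1 0 (vqc1 1 (vqc1 0 (vqc1 0 (vqc1 0 vqy6))))));
    (vqc1 0
    (vqc1 (-4) (vqc1 (-2) (vqc1 (-3) (vqc1 0 (vqc1 (-1) vqy8)))))))));
    (let vqy9 : type_of% vqy1 := (let vqy10 : type_of% vqy1 := (let vqy11 : type_of% vqy1 := (vqc1 1 (vqc1 0 (vqc1 30 (vqc1 (-10) (vqc1 10 (vqc1 3 (vqc1 (-6) vqy1)))))));
    (vqc1 0 (vqc1 0 (vqc1 5 (vqc1 0 (vqc1 5 (vqc1 0 vqy11)))))));
    (let vqy12 : type_of% vqy10 := (vqc1 (-4) (vqc1 (-4) (vqc1 0 (vqc1 (-4) (vqc1 0 (vqc1 0 vqy10))))));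
    (vqc1 0 (vqc1 0 (vqc1 0 (vqc1 0 (vqc1 (-20) (vqc1 12 vqy12))))))));
    (let vqy13 : type_of% vqy9 := (let vqy14 : type_of% vqy9 := (vqc1 (-126) (vqc1 (-36) (vqc1 45 (vqc1 18 (vqc1 9 (vqc1 12 vqy9))))));
    (vqc1 0 (vqc1 36 (vqc1 0 (vqc1 25 (vqc1 0 (vqc1 (-90)
    vqy14)))))));
    (let vqy15 : type_of% vqy13 := (vqc1 405 (vqc1 0 (vqc1 (-2940) (vqc1 68 (vqc1 (-60) (vqc1 (-140) vqy13))))));
    (vqc1 502078500 (vqc1 13860 (vqc1 (-1260) (vqc1 (-924) (vqc1 187110 (vqc1 (-1134) vqy15)))))))))))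

/-- degree 503513010 -/
def r93 : List ℤ := (beta% delta% lq26bf99814e23 fun vqc0 vqc1 vqc2 _ _ _ _ _ _ _ _ =>
    (let vqy1 : type_of% (vqc0 _) := (let vqy2 : type_of% (vqc0 _) := (let vqy3 : type_of% (vqc0 _) := (let vqy4 : type_of% (vqc0 _) := (vqc1 0 (vqc1 1 (vqc1 0 (vqc1 0 (vqc1 1 (vqc1 1 (vqc1 (-1) vqc2)))))));
    (vqc1 0 (vqc1 3
    (vqc1 0 (vqc1 (-1) (vqc1 0 (vqc1 0 vqy4)))))));
    (let vqy5 : type_of% vqy3 := (vqc1 0 (vqc1 1 (vqc1 0 (vqc1 0 (vqc1 0 (vqc1 (-1) vqy3))))));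
    (vqc1 0 (vqc1 0 (vqc1 0 (vqc1 0 (vqc1 (-3) (vqc1 1 vqy5))))))));
    (let vqy6 : type_of% vqy2 := (let vqy7 : type_of% vqy2 := (vqc1 0 (vqc1 0 (vqc1 0 (vqc1 5 (vqc1 1 (vqc1 (-1) (vqc1 (-3) vqy2)))))));
    (vqc1 3 (vqc1 0 (vqc1 0 (vqc1 0 (vqc1 0 (vqc1 0 vqy7)))))));
    (let vqy8 : type_of% vqy6 := (vqc1 0 (vqc1 0 (vqc1 0 (vqc1 1 (vqc1 0 (vqc1 3 vqy6))))));
    (vqc1 (-3) (vqc1 0
    (vqc1 0 (vqc1 0 (vqc1 0 (vqc1 0 vqy8)))))))));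
    (let vqy9 : type_of% vqy1 := (let vqy10 : type_of% vqy1 := (let vqy11 : type_of% vqy1 := (vqc1 (-1) (vqc1 0 (vqc1 9 (vqc1 9 (vqc1 (-15) (vqc1 0 (vqc1 0 vqy1)))))));
    (vqc1 0 (vqc1 (-3) (vqc1 (-1) (vqc1 9 (vqc1 (-3) (vqc1 (-3) vqy11)))))));
    (let vqy12 : type_of% vqy10 := (vqc1 (-2) (vqc1 (-10) (vqc1 (-2) (vqc1 6 (vqc1 0 (vqc1 0 vqy10))))));
    (vqc1 0 (vqc1 0 (vqc1 21 (vqc1 0 (vqc1 66 (vqc1 (-6) vqy12))))))));
    (let vqy13 : type_of% vqy9 := (let vqy14 : type_of% vqy9 := (vqc1 (-111) (vqc1 0 (vqc1 0 (vqc1 0 (vqc1 0 (vqc1 0 vqy9))))));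
    (vqc1 6 (vqc1 6 (vqc1 (-195) (vqc1 15 (vqc1 (-15) (vqc1 (-567)
    vqy14)))))));
    (let vqy15 : type_of% vqy13 := (vqc1 0 (vqc1 0 (vqc1 1890 (vqc1 (-126) (vqc1 (-126) (vqc1 42 vqy13))))));
    (vqc1 503513010 (vqc1 (-19278) (vqc1 3354 (vqc1 594 (vqc1 (-104247) (vqc1 0 vqy15)))))))))))

/-- degree 504627200 -/
def r94 : List ℤ := (beta% delta% lq26bf99814e23 fun vqc0 vqc1 vqc2 _ _ _ _ _ _ _ _ =>
    (let vqy1 : type_of% (vqc0 _) := (let vqy2 : type_of% (vqc0 _) := (let vqy3 : type_of% (vqc0 _) := (let vqy4 : type_of% (vqc0 _) := (vqc1 0 (vqc1 (-1) (vqc1 0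
    (vqc1 (-1) (vqc1 0 (vqc1 (-1) (vqc1 0 vqc2)))))));
    (vqc1 0 (vqc1 0 (vqc1 1 (vqc1 1 (vqc1 0 (vqc1 0 vqy4)))))));
    (let vqy5 : type_of% vqy3 := (vqc1 0 (vqc1 0 (vqc1 0 (vqc1 0 (vqc1 (-1) (vqc1 1 vqy3))))));
    (vqc1 0 (vqc1 0 (vqc1 0 (vqc1 1 (vqc1 0 (vqc1 0 vqy5))))))));
    (let vqy6 : type_of% vqy2 := (let vqy7 : type_of% vqy2 := (vqc1 0 (vqc1 0 (vqc1 0 (vqc1 0 (vqc1 0 (vqc1 0 (vqc1 3 vqy2)))))));
    (vqc1 1 (vqc1 1 (vqc1 (-2) (vqc1 0 (vqc1 0 (vqc1 0 vqy7)))))));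
    (let vqy8 : type_of% vqy6 := (vqc1 (-2) (vqc1 0 (vqc1 (-1)
    (vqc1 (-1) (vqc1 0 (vqc1 16 vqy6))))));
    (vqc1 (-8) (vqc1 0 (vqc1 0 (vqc1 0 (vqc1 0 (vqc1 0 vqy8)))))))));
    (let vqy9 : type_of% vqy1 := (let vqy10 : type_of% vqy1 := (let vqy11 : type_of% vqy1 := (vqc1 0 (vqc1 0 (vqc1 0 (vqc1 0 (vqc1 0 (vqc1 0 (vqc1 0 vqy1)))))));
    (vqc1 (-4) (vqc1 0 (vqc1 4 (vqc1 4 (vqc1 0 (vqc1 0 vqy11)))))));
    (let vqy12 : type_of% vqy10 := (vqc1 0 (vqc1 0 (vqc1 0 (vqc1 0 (vqc1 8 (vqc1 2 vqy10))))));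
    (vqc1 (-4) (vqc1 0 (vqc1 (-21) (vqc1 0 (vqc1 0 (vqc1 0 vqy12))))))));
    (let vqy13 : type_of% vqy9 := (let vqy14 : type_of% vqy9 := (vqc1 (-64) (vqc1 0 (vqc1 0 (vqc1 0
    (vqc1 0 (vqc1 0 vqy9))))));
    (vqc1 64 (vqc1 0 (vqc1 160 (vqc1 40 (vqc1 0 (vqc1 0 vqy14)))))));
    (let vqy15 : type_of% vqy13 := (vqc1 (-640) (vqc1 56 (vqc1 0 (vqc1 0 (vqc1 0 (vqc1 0 vqy13))))));
    (vqc1 504627200 (vqc1 0 (vqc1 (-4096) (vqc1 0 (vqc1 (-123904) (vqc1 (-1792) vqy15)))))))))))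

/-- degree 522161640 -/
def r95 : List ℤ := (beta% delta% lq26bf99814e23 fun vqc0 vqc1 vqc2 _ _ _ _ _ _ _ _ =>
    (let vqy1 : type_of% (vqc0 _) := (let vqy2 : type_of% (vqc0 _) := (let vqy3 : type_of% (vqc0 _) := (let vqy4 : type_of% (vqc0 _) := (vqc1 0 (vqc1 0 (vqc1 0 (vqc1 0 (vqc1 0 (vqc1 0 (vqc1 1 vqc2)))))));
    (vqc1 0
    (vqc1 (-1) (vqc1 0 (vqc1 2 (vqc1 (-1) (vqc1 1 vqy4)))))));
    (let vqy5 : type_of% vqy3 := (vqc1 1 (vqc1 0 (vqc1 (-1) (vqc1 0 (vqc1 0 (vqc1 0 vqy3))))));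
    (vqc1 0 (vqc1 0 (vqc1 0 (vqc1 0 (vqc1 (-2) (vqc1 (-2) vqy5))))))));
    (let vqy6 : type_of% vqy2 := (let vqy7 : type_of% vqy2 := (vqc1 0 (vqc1 0 (vqc1 0 (vqc1 (-2) (vqc1 (-1) (vqc1 0 (vqc1 0 vqy2)))))));
    (vqc1 (-2) (vqc1 0 (vqc1 1 (vqc1 (-1) (vqc1 0 (vqc1 0 vqy7)))))));
    (let vqy8 : type_of% vqy6 := (vqc1 0 (vqc1 0 (vqc1 0 (vqc1 0 (vqc1 0 (vqc1 3 vqy6))))));
    (vqc1 0 (vqc1 (-1)
    (vqc1 1 (vqc1 0 (vqc1 3 (vqc1 2 vqy8)))))))));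
    (let vqy9 : type_of% vqy1 := (let vqy10 : type_of% vqy1 := (let vqy11 : type_of% vqy1 := (vqc1 3 (vqc1 0 (vqc1 6 (vqc1 14 (vqc1 (-14) (vqc1 6 (vqc1 (-3) vqy1)))))));
    (vqc1 0 (vqc1 2 (vqc1 (-1) (vqc1 (-6) (vqc1 7 (vqc1 2 vqy11)))))));
    (let vqy12 : type_of% vqy10 := (vqc1 (-8) (vqc1 (-8) (vqc1 0 (vqc1 0 (vqc1 0 (vqc1 0 vqy10))))));
    (vqc1 0 (vqc1 0 (vqc1 0 (vqc1 0 (vqc1 40 (vqc1 8 vqy12))))))));
    (let vqy13 : type_of% vqy9 := (let vqy14 : type_of% vqy9 := (vqc1 42 (vqc1 (-9) (vqc1 (-36) (vqc1 (-27) (vqc1 0 (vqc1 (-9) vqy9))))));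
    (vqc1 0 (vqc1 24 (vqc1 210 (vqc1 (-5) (vqc1 (-10) (vqc1 (-306)
    vqy14)))))));
    (let vqy15 : type_of% vqy13 := (vqc1 324 (vqc1 0 (vqc1 168 (vqc1 (-88) (vqc1 (-120) (vqc1 (-56) vqy13))))));
    (vqc1 522161640 (vqc1 1512 (vqc1 2184 (vqc1 (-792) (vqc1 (-162162) (vqc1 1701 vqy15)))))))))))

/-- degree 551675124 -/
def r96 : List ℤ := (beta% delta% lq26bf99814e23 fun vqc0 vqc1 vqc2 _ _ _ _ _ _ _ _ =>
    (let vqy1 : type_of% (vqc0 _) := (let vqy2 : type_of% (vqc0 _) := (let vqy3 : type_of% (vqc0 _) := (let vqy4 : type_of% (vqc0 _) := (vqc1 0 (vqc1 0 (vqc1 0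
    (vqc1 0 (vqc1 1 (vqc1 0 (vqc1 0 vqc2)))))));
    (vqc1 0 (vqc1 0 (vqc1 0 (vqc1 0 (vqc1 0 (vqc1 0 vqy4)))))));
    (let vqy5 : type_of% vqy3 := (vqc1 0 (vqc1 0 (vqc1 0 (vqc1 0 (vqc1 0 (vqc1 0 vqy3))))));
    (vqc1 0 (vqc1 0 (vqc1 0 (vqc1 (-1) (vqc1 0 (vqc1 0 vqy5))))))));
    (let vqy6 : type_of% vqy2 := (let vqy7 : type_of% vqy2 := (vqc1 0 (vqc1 0 (vqc1 0 (vqc1 (-3) (vqc1 1 (vqc1 1 (vqc1 0 vqy2)))))));
    (vqc1 0 (vqc1 0 (vqc1 0 (vqc1 0 (vqc1 2 (vqc1 (-2) vqy7)))))));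
    (let vqy8 : type_of% vqy6 := (vqc1 0 (vqc1 0
    (vqc1 0 (vqc1 0 (vqc1 0 (vqc1 0 vqy6))))));
    (vqc1 0 (vqc1 0 (vqc1 0 (vqc1 0 (vqc1 0 (vqc1 0 vqy8)))))))));
    (let vqy9 : type_of% vqy1 := (let vqy10 : type_of% vqy1 := (let vqy11 : type_of% vqy1 := (vqc1 1 (vqc1 0 (vqc1 0 (vqc1 0 (vqc1 0 (vqc1 0 (vqc1 0 vqy1)))))));
    (vqc1 0 (vqc1 (-3) (vqc1 (-3) (vqc1 (-3) (vqc1 (-3) (vqc1 (-3) vqy11)))))));
    (let vqy12 : type_of% vqy10 := (vqc1 0 (vqc1 8 (vqc1 0 (vqc1 0 (vqc1 0 (vqc1 0 vqy10))))));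
    (vqc1 0 (vqc1 0 (vqc1 0 (vqc1 0 (vqc1 36 (vqc1 12 vqy12))))))));
    (let vqy13 : type_of% vqy9 := (let vqy14 : type_of% vqy9 := (vqc1 0 (vqc1 0 (vqc1 0
    (vqc1 0 (vqc1 0 (vqc1 0 vqy9))))));
    (vqc1 0 (vqc1 (-24) (vqc1 189 (vqc1 9 (vqc1 (-51) (vqc1 0 vqy14)))))));
    (let vqy15 : type_of% vqy13 := (vqc1 0 (vqc1 0 (vqc1 (-2268) (vqc1 324 (vqc1 36 (vqc1 108 vqy13))))));
    (vqc1 551675124 (vqc1 (-47628) (vqc1 (-9828) (vqc1 (-3564) (vqc1 0 (vqc1 0 vqy15)))))))))))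

/-- degree 1347500 -/
def r97 : List ℤ := (beta% delta% lq26bf99814e23 fun vqc0 vqc1 vqc2 _ _ _ _ _ _ _ _ =>
    (let vqy1 : type_of% (vqc0 _) := (let vqy2 : type_of% (vqc0 _) := (let vqy3 : type_of% (vqc0 _) := (let vqy4 : type_of% (vqc0 _) := (vqc1 0 (vqc1 0 (vqc1 2 (vqc1 (-2) (vqc1 0 (vqc1 0 (vqc1 0 vqc2)))))));
    (vqc1 0
    (vqc1 0 (vqc1 0 (vqc1 0 (vqc1 0 (vqc1 0 vqy4)))))));
    (let vqy5 : type_of% vqy3 := (vqc1 (-2) (vqc1 (-2) (vqc1 2 (vqc1 2 (vqc1 (-2) (vqc1 0 vqy3))))));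
    (vqc1 0 (vqc1 0 (vqc1 0 (vqc1 (-1) (vqc1 (-2) (vqc1 (-2) vqy5))))))));
    (let vqy6 : type_of% vqy2 := (let vqy7 : type_of% vqy2 := (vqc1 2 (vqc1 2 (vqc1 2 (vqc1 0 (vqc1 0 (vqc1 0 (vqc1 0 vqy2)))))));
    (vqc1 0 (vqc1 0 (vqc1 0 (vqc1 0 (vqc1 0 (vqc1 0 vqy7)))))));
    (let vqy8 : type_of% vqy6 := (vqc1 2 (vqc1 2 (vqc1 (-2) (vqc1 0 (vqc1 0 (vqc1 0 vqy6))))));
    (vqc1 (-10) (vqc1 (-2) (vqc1 (-6)
    (vqc1 (-2) (vqc1 (-2) (vqc1 (-2) vqy8)))))))));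
    (let vqy9 : type_of% vqy1 := (let vqy10 : type_of% vqy1 := (let vqy11 : type_of% vqy1 := (vqc1 0 (vqc1 0 (vqc1 (-10) (vqc1 22 (vqc1 6 (vqc1 14 (vqc1 2 vqy1)))))));
    (vqc1 2 (vqc1 0 (vqc1 0 (vqc1 0 (vqc1 0 (vqc1 0 vqy11)))))));
    (let vqy12 : type_of% vqy10 := (vqc1 4 (vqc1 (-12) (vqc1 4 (vqc1 (-4) (vqc1 2 (vqc1 2 vqy10))))));
    (vqc1 10 (vqc1 (-6) (vqc1 0 (vqc1 0 (vqc1 (-20) (vqc1 (-4) vqy12))))))));
    (let vqy13 : type_of% vqy9 := (let vqy14 : type_of% vqy9 := (vqc1 70 (vqc1 (-10)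
    (vqc1 (-10) (vqc1 26 (vqc1 (-10) (vqc1 6 vqy9))))));
    (vqc1 (-28) (vqc1 20 (vqc1 0 (vqc1 0 (vqc1 0 (vqc1 (-10) vqy14)))))));
    (let vqy15 : type_of% vqy13 := (vqc1 470 (vqc1 (-70) (vqc1 140 (vqc1 76 (vqc1 (-20) (vqc1 (-36) vqy13))))));
    (vqc1 1347500 (vqc1 3500 (vqc1 700 (vqc1 (-660) (vqc1 (-3850) (vqc1 (-70) vqy15)))))))))))

/-- degree 4929498 -/
def r98 : List ℤ := (beta% delta% lq26bf99814e23 fun vqc0 vqc1 vqc2 _ _ _ _ _ _ _ _ =>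
    (let vqy1 : type_of% (vqc0 _) := (let vqy2 : type_of% (vqc0 _) := (let vqy3 : type_of% (vqc0 _) := (let vqy4 : type_of% (vqc0 _) := (vqc1 2 (vqc1 0 (vqc1 0 (vqc1 (-1) (vqc1 2 (vqc1 0 (vqc1 (-2) vqc2)))))));
    (vqc1 0 (vqc1 2 (vqc1 0 (vqc1 2
    (vqc1 0 (vqc1 0 vqy4)))))));
    (let vqy5 : type_of% vqy3 := (vqc1 0 (vqc1 (-2) (vqc1 0 (vqc1 0 (vqc1 2 (vqc1 0 vqy3))))));
    (vqc1 0 (vqc1 0 (vqc1 (-2) (vqc1 0 (vqc1 (-6) (vqc1 2 vqy5))))))));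
    (let vqy6 : type_of% vqy2 := (let vqy7 : type_of% vqy2 := (vqc1 0 (vqc1 0 (vqc1 0 (vqc1 (-2) (vqc1 0 (vqc1 0 (vqc1 0 vqy2)))))));
    (vqc1 (-6) (vqc1 0 (vqc1 0 (vqc1 0 (vqc1 (-2) (vqc1 (-2) vqy7)))))));
    (let vqy8 : type_of% vqy6 := (vqc1 0 (vqc1 0 (vqc1 2 (vqc1 0 (vqc1 0 (vqc1 (-6) vqy6))))));
    (vqc1 6 (vqc1 0 (vqc1 0 (vqc1 0 (vqc1 0
    (vqc1 0 vqy8)))))))));
    (let vqy9 : type_of% vqy1 := (let vqy10 : type_of% vqy1 := (let vqy11 : type_of% vqy1 := (vqc1 4 (vqc1 2 (vqc1 18 (vqc1 (-30) (vqc1 (-6) (vqc1 0 (vqc1 0 vqy1)))))));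
    (vqc1 0 (vqc1 (-10) (vqc1 (-4) (vqc1 6 (vqc1 0 (vqc1 0 vqy11)))))));
    (let vqy12 : type_of% vqy10 := (vqc1 2 (vqc1 (-14) (vqc1 10 (vqc1 (-6) (vqc1 0 (vqc1 0 vqy10))))));
    (vqc1 0 (vqc1 0 (vqc1 0 (vqc1 0 (vqc1 42 (vqc1 (-6) vqy12))))))));
    (let vqy13 : type_of% vqy9 := (let vqy14 : type_of% vqy9 := (vqc1 42 (vqc1 0
    (vqc1 0 (vqc1 0 (vqc1 0 (vqc1 0 vqy9))))));
    (vqc1 42 (vqc1 (-30) (vqc1 (-42) (vqc1 (-12) (vqc1 48 (vqc1 162 vqy14)))))));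
    (let vqy15 : type_of% vqy13 := (vqc1 0 (vqc1 0 (vqc1 378 (vqc1 186 (vqc1 90 (vqc1 42 vqy13))))));
    (vqc1 4929498 (vqc1 (-5670) (vqc1 (-1974) (vqc1 (-486) (vqc1 (-10206) (vqc1 0 vqy15)))))))))))

/-- the rows of norm one -/
def RA : List (List ℤ) := (beta% delta% lq26bf99814e23 fun _ vqc1 vqc2 vqc3 _ _ _ _ _ _ _ =>
    (let vqy1 : type_of% (vqc3 _) := (let vqy2 : type_of% (vqc3 _) := (let vqy3 : type_of% (vqc3 _) := (let vqy4 : type_of% (vqc3 _) := (vqc1 r90 (vqc1 r91 (vqc1 r92 (vqc1 r93 (vqc1 r94 (vqc1 r95 (vqc1 r96 vqc2)))))));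
    (vqc1 r84 (vqc1 r85 (vqc1 r86 (vqc1 r87 (vqc1 r88
    (vqc1 r89 vqy4)))))));
    (let vqy5 : type_of% vqy3 := (vqc1 r78 (vqc1 r79 (vqc1 r80 (vqc1 r81 (vqc1 r82 (vqc1 r83 vqy3))))));
    (vqc1 r72 (vqc1 r73 (vqc1 r74 (vqc1 r75 (vqc1 r76 (vqc1 r77 vqy5))))))));
    (let vqy6 : type_of% vqy2 := (let vqy7 : type_of% vqy2 := (vqc1 r66 (vqc1 r67 (vqc1 r68 (vqc1 r69 (vqc1 r70 (vqc1 r71 vqy2))))));
    (vqc1 r60 (vqc1 r61 (vqc1 r62 (vqc1 r63 (vqc1 r64 (vqc1 r65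
    vqy7)))))));
    (let vqy8 : type_of% vqy6 := (vqc1 r54 (vqc1 r55 (vqc1 r56 (vqc1 r57 (vqc1 r58 (vqc1 r59 vqy6))))));
    (vqc1 r48 (vqc1 r49 (vqc1 r50 (vqc1 r51 (vqc1 r52 (vqc1 r53 vqy8)))))))));
    (let vqy9 : type_of% vqy1 := (let vqy10 : type_of% vqy1 := (let vqy11 : type_of% vqy1 := (vqc1 r42
    (vqc1 r43 (vqc1 r44 (vqc1 r45 (vqc1 r46 (vqc1 r47 vqy1))))));
    (vqc1 r36 (vqc1 r37 (vqc1 r38 (vqc1 r39 (vqc1 r40 (vqc1 r41 vqy11)))))));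
    (let vqy12 : type_of% vqy10 := (vqc1 r30 (vqc1 r31 (vqc1 r32 (vqc1 r33 (vqc1 r34 (vqc1 r35 vqy10))))));
    (vqc1 r24 (vqc1 r25 (vqc1 r26 (vqc1 r27 (vqc1 r28 (vqc1 r29 vqy12))))))));
    (let vqy13 : type_of% vqy9 := (let vqy14 : type_of% vqy9 := (vqc1 r18 (vqc1 r19
    (vqc1 r20 (vqc1 r21 (vqc1 r22 (vqc1 r23 vqy9))))));
    (vqc1 r12 (vqc1 r13 (vqc1 r14 (vqc1 r15 (vqc1 r16 (vqc1 r17 vqy14)))))));
    (let vqy15 : type_of% vqy13 := (vqc1 r6 (vqc1 r7 (vqc1 r8 (vqc1 r9 (vqc1 r10 (vqc1 r11 vqy13))))));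
    (vqc1 r0 (vqc1 r1 (vqc1 r2 (vqc1 r3 (vqc1 r4 (vqc1 r5 vqy15)))))))))))

/-- the rows of norm two -/
def RB : List (List ℤ) := [r97, r98]

/-- the primes and the sections -/
def PL : List (ℕ × ℕ × List ℕ) :=
  (by
  refine (?fq9001 : ((pk61l (fun i1 => (_root_.Prod.mk (pk61d (nat_lit 5) 
    (nat_lit 0x5dab39462) i1) (_root_.Prod.mk (pk61d (nat_lit 5) 
    (nat_lit 0x42111135) i1) ((fun g1 : Nat → Nat => pk61l (fun i2 => (pk61d (nat_lit 7) 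
    (nat_lit 0x40400203004870c101c284040402c3868c14264888d14203860a10182020233a72ad4a84e992a14078e9c366880f1c3460b1424403040404980fdf3d78e55a44688d9a203c7070c14200) i2)) (g1 i1) (g1 (Nat.succ i1)) List.nil) fun j => (pk61d (nat_lit 7) 
    (nat_lit 0xad5694f8ac8a80) j))))) (nat_lit 0) (nat_lit 7) List.nil) : List (ℕ × ℕ × List ℕ))
    = ?xq9001 → (List (ℕ × ℕ × List ℕ))) ?hq9001; (case hq9001 => (set_option maxRecDepth 1000000 in set_option simprocs false in conv => lhs; reduce; dsimp only)); intro _; exact ?xq9001 : List (ℕ × ℕ × List ℕ))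

/-- certificates for the prime 3 -/
def C3 : List Cert :=
  (by
  refine (?fq9002 : ((pk61l (fun i1 => (_root_.Cfsg.Agent.TAB.Eng.Cert.mk (pk61d (nat_lit 7) 
    (nat_lit 0x4674e55a9509d3254280f1d386cd101e3868c16284880608080) i1) ((fun g1 : Nat → Nat => pk61l (fun i2 => (pk61f (pk61d (nat_lit 7) 
    (nat_lit 0x29d242028d040027ce3e026cc3c025ca3a024c838023c636022c434021c232020c03001fbe2e01ebc2c01dba2a01cb86e58a006cd498068cd91524018b022017ae5a5080058ad5131e014a81c013a64a48680488d11118010a03e405803c74e1b143c4803464c172c2070d0e00a942630300244480b0a0078e1a3058a122038a082440706182840400305080c101000c0820200000) i2) fun u13 => (pk61f (pk61d (nat_lit 2) 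
    (nat_lit 0xf4f4f4f4f4f4f4f4f4f4f4f4f4fe4f4fe4f4fe4fe4f4fe4fe4fe4ff64ffda4fe4fe4ffffe6a6a4fffe6a4) i2) fun t2_3 => (pk61c (Nat.div t2_3 (nat_lit 2)) (pk61c (Nat.div t2_3 (nat_lit 1)) _root_.Cfsg.Agent.TAB.Eng.Op.one fun _ => (_root_.Cfsg.Agent.TAB.Eng.Op.gen (pk61d (nat_lit 2) 
    (nat_lit 0x41101001430200098) u13) (pk61d (nat_lit 2) 
    (nat_lit 0x55555955559555555) u13) (pk61d (nat_lit 1) 
    (nat_lit 0x110) u13))) fun _ => (pk61c (Nat.div t2_3 (nat_lit 3)) (_root_.Cfsg.Agent.TAB.Eng.Op.mul (pk61d (nat_lit 4) 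
    (nat_lit 0x100082542104210) u13) (pk61d (nat_lit 2) 
    (nat_lit 0x80000) u13)) fun _ => (_root_.Cfsg.Agent.TAB.Eng.Op.lin ((fun g2 : Nat → Nat => pk61l (fun i3 => (_root_.Prod.mk (pk61d (nat_lit 15) 
    (nat_lit 0x1668266940008001000400059a080030002cd04cd2800119a0334c000b341334a000400080030002cd059a2000119a0334c000b341334a00053390002000233419a30001000200100008cd03347115e22d111e0002cd04001800140126695711199d0a5a0004000cce20002cd040032672199800240008afc250522a0000945c0006000499c933999c00005339000288ae88a955f800119a0668e22bc45a223c000466819a372f4c0fce539d22291e6574f7b80014ce4dfae41d9e0997eb2d143378b0b46871940000a0099412aaac0009339267333800008cd00006000667111932b34acd080e14079814c538a03a4d55b32d3d44248c7478708e04745238f186ccd220bd3b576f7ef350eac143f90c858121ab2ebf235b281034990fe8d185c450a9ac25510a32e0000a6723e9c99c23b644576690176892fca611340c842317ac16948925f4c6d959f)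 i3) (pk61d (nat_lit 5) 
    (nat_lit 0x200440088011002200440088011002200440088011002200482180221002410c011080120860088820044009040090430044410c011188508c8008868308a11900110c82004820064c8be06539e5425ae21d0b6344331d4b60c853212a58864298e84a98a2a547408e1214c010c85) i3))) (g2 u13) (g2 (Nat.succ u13)) List.nil) fun j => (pk61d (nat_lit 8) 
    (nat_lit 0xb1b0aeadabaaa8a7a5a4a2a19f9e9c9b999896959392908f8d8c8a8987848381807e7b7a7877757271706e6d6b6a6967666461605e5b5a585551504f4d4a4645444241403e3d3b3935302a231b1211100d0b090500) j)))))))) (g1 i1) (g1 (Nat.succ i1)) List.nil) fun j => (pk61d (nat_lit 8) 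
    (nat_lit 0xaaa6a29e9a96928e8a86827e7a76706c66625c56524c4640382e28220e00) j)) ((fun g1 : Nat → Nat => pk61l (fun i2 => (_root_.Prod.mk (pk61d (nat_lit 4) 
    (nat_lit 0x101010101010101010101010102101021010210102101022102103210203141021025321048760217654) i2) (pk61d (nat_lit 10) 
    (nat_lit 0x2d93cc5106c0900c01) (pk61d (nat_lit 3) 
    (nat_lit 0x2082082082082082082110422084432086422110891112190c8b1a4491a3488) i2)))) (g1 i1) (g1 (Nat.succ i1)) List.nil) fun j => (pk61d (nat_lit 7) 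
    (nat_lit 0x2a52a13a64a911a24280f9e3a6ed59305aa9425447cd962640380) j)))) (nat_lit 0) (nat_lit 29) List.nil) : List Cert)
    = ?xq9002 → (List Cert)) ?hq9002; (case hq9002 => (set_option maxRecDepth 1000000 in set_option simprocs false in conv => lhs; reduce; dsimp only)); intro _; exact ?xq9002 : List Cert)

/-- certificates for the prime 5 -/
def C5 : List Cert :=
  (by
  refine (?fq9003 : ((pk61l (fun i1 => (_root_.Cfsg.Agent.TAB.Eng.Cert.mk (pk61d (nat_lit 6) 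
    (nat_lit 0x2c71a6144d244d2881c61440c2040) i1) ((fun g1 : Nat → Nat => pk61l (fun i2 => (pk61f (pk61d (nat_lit 6) 
    (nat_lit 0xaa94c0a274809a54409234008a13c081f38079d34071b3006992c06172805952405132004911c040f18038d3031402ca1002481c20c0185103081040081000000) i2) fun u13 => (pk61f (pk61d (nat_lit 2) 
    (nat_lit 0xf4f4f4f4f4f4f4f4f4f4f4f4f4f4fe4f4fe4ff64fe4) i2) fun t2_3 => (pk61c (Nat.div t2_3 (nat_lit 2)) (pk61c (Nat.div t2_3 (nat_lit 1)) _root_.Cfsg.Agent.TAB.Eng.Op.one fun _ => (_root_.Cfsg.Agent.TAB.Eng.Op.gen (pk61d (nat_lit 2) 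
    (nat_lit 0x200c20410) u13) (nat_lit 1) (nat_lit 0))) fun _ => (pk61c (Nat.div t2_3 (nat_lit 3)) (_root_.Cfsg.Agent.TAB.Eng.Op.mul (nat_lit 0) (nat_lit 0)) fun _ => (_root_.Cfsg.Agent.TAB.Eng.Op.lin ((fun g2 : Nat → Nat => pk61l (fun i3 => (_root_.Prod.mk (pk61d (nat_lit 10) 
    (nat_lit 0x17cc83005f37e0016d4050041f0140153552005f301401004060054d548010a64d005f37e001788940056e680017cc830054d0140147e236844a8b4014e406005b55f5a1094850054d35dd51f00420a577e4690054d7edd515c5e) i3) (pk61d (nat_lit 3) 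
    (nat_lit 0x205028140a05028140a05028140a05031305206260ad297014e260a) i3))) (g2 u13) (g2 (Nat.succ u13)) List.nil) fun j => (pk61d (nat_lit 7) 
    (nat_lit 0x9322345870a03f7af1d396ed9a3362c172d56a94274a911213e78e193058a93203c68a0c14180) j)))))))) (g1 i1) (g1 (Nat.succ i1)) List.nil) fun j => (pk61d (nat_lit 7) 
    (nat_lit 0xad4a74a8d09f3a6cc972a4c88f182838300) j)) ((fun g1 : Nat → Nat => pk61l (fun i2 => (_root_.Prod.mk (pk61d (nat_lit 2) 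
    (nat_lit 0x1111111111111124493909) i2) (pk61d (nat_lit 5) 
    (nat_lit 0x14250942509425094250942509425094250e4a1287250e4a50e4a1) i2))) (g1 i1) (g1 (Nat.succ i1)) List.nil) fun j => (pk61d (nat_lit 6) 
    (nat_lit 0xae99e58e17dd6d95d54d13cc2870c0) j)))) (nat_lit 0) (nat_lit 19) List.nil) : List Cert)
    = ?xq9003 → (List Cert)) ?hq9003; (case hq9003 => (set_option maxRecDepth 1000000 in set_option simprocs false in conv => lhs; reduce; dsimp only)); intro _; exact ?xq9003 : List Cert)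

/-- certificates for the prime 7 -/
def C7 : List Cert :=
  (by
  refine (?fq9004 : ((pk61l (fun i1 => (_root_.Cfsg.Agent.TAB.Eng.Cert.mk (pk61d (nat_lit 5) 
    (nat_lit 0x24e620e520820) i1) (pk61l (fun i2 => (pk61f (pk61d (nat_lit 5) 
    (nat_lit 0x9c9208c1007b8e06b0c05a8a04a08039860290401882008000) i2) fun u13 => (pk61f (pk61d (nat_lit 2) 
    (nat_lit 0xa4a4a4a4a4a4a4a4a4a4) i2) fun t2_3 => (pk61c (Nat.div t2_3 (nat_lit 1)) _root_.Cfsg.Agent.TAB.Eng.Op.one fun _ => (pk61c (Nat.div t2_3 (nat_lit 2)) (_root_.Cfsg.Agent.TAB.Eng.Op.gen (pk61d (nat_lit 3) 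
    (nat_lit 0x620000) u13) (nat_lit 1) (nat_lit 0)) fun _ => (_root_.Cfsg.Agent.TAB.Eng.Op.lin ((fun g2 : Nat → Nat => pk61l (fun i3 => (_root_.Prod.mk (pk61d (nat_lit 6) 
    (nat_lit 0x4118194704118165f0597c12ae0615c129b065b0195d) i3) (pk61d (nat_lit 2) 
    (nat_lit 0x861861861861861) i3))) (g2 u13) (g2 (Nat.succ u13)) List.nil) fun j => (pk61d (nat_lit 5) 
    (nat_lit 0x1eeef58bd6928bdcc5a50628c40) j)))))))) (Nat.mul (nat_lit 4) i1) (Nat.mul (nat_lit 4) (Nat.succ i1)) List.nil) (pk61l (fun i2 => (_root_.Prod.mk (pk61d (nat_lit 1) 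
    (nat_lit 0xaaaaa) i2) (pk61d (nat_lit 3) 
    (nat_lit 0xe79e79e79e79e79) i2))) (Nat.mul (nat_lit 2) i1) (Nat.mul (nat_lit 2) (Nat.succ i1)) List.nil))) (nat_lit 0) (nat_lit 10) List.nil) : List Cert)
    = ?xq9004 → (List Cert)) ?hq9004; (case hq9004 => (set_option maxRecDepth 1000000 in set_option simprocs false in conv => lhs; reduce; dsimp only)); intro _; exact ?xq9004 : List Cert)

/-- certificates for the prime 11 -/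
def C11 : List Cert := (beta% delta% lq26bf99814e23 fun _ vqc1 vqc2 _ vqc4 vqc5 vqc6 _ _ vqc9 _ =>
    (vqc1 (vqc5 0 (vqc1 vqc6 (vqc1 (vqc9 (vqc1 (vqc4 1 0) vqc2)) vqc2)) (vqc1 (vqc4 0 1) vqc2))
    (vqc1 (vqc5 3 (vqc1 vqc6 (vqc1 (vqc9 (vqc1 (vqc4 1 0) vqc2)) vqc2)) (vqc1 (vqc4 0 1) vqc2))
    (vqc1 (vqc5 4 (vqc1 vqc6 (vqc1 (vqc9 (vqc1 (vqc4 1 0) vqc2)) vqc2)) (vqc1 (vqc4 0 1) vqc2)) vqc2))))

/-- certificates for the prime 13 -/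
def C13 : List Cert := (beta% delta% lq26bf99814e23 fun _ vqc1 vqc2 _ vqc4 vqc5 vqc6 _ _ vqc9 _ =>
    (vqc1 (vqc5 0 (vqc1 vqc6 (vqc1 (vqc9 (vqc1 (vqc4 1 0) vqc2)) vqc2)) (vqc1 (vqc4 0 1) vqc2))
    (vqc1 (vqc5 2 (vqc1 vqc6 (vqc1 (vqc9 (vqc1 (vqc4 1 0) vqc2)) vqc2)) (vqc1 (vqc4 0 1) vqc2))
    (vqc1 (vqc5 4 (vqc1 vqc6 (vqc1 (vqc9 (vqc1 (vqc4 1 0) vqc2)) vqc2)) (vqc1 (vqc4 0 1) vqc2)) vqc2))))

/-- certificates for the prime 23 -/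
def C23 : List Cert := (beta% delta% lq26bf99814e23 fun _ vqc1 vqc2 _ vqc4 vqc5 vqc6 _ _ vqc9 _ =>
    (vqc1 (vqc5 0 (vqc1 vqc6 (vqc1 (vqc9 (vqc1 (vqc4 1 0) vqc2)) vqc2)) (vqc1 (vqc4 0 1) vqc2)) vqc2))

/-- certificates for the prime 2, first pass -/
noncomputable def C2a : List Cert :=
  (by
  refine (?fq9005 : ((pk61l (fun i1 => (_root_.Cfsg.Agent.TAB.Eng.Cert.mk (pk61d (nat_lit 7) 
    (nat_lit 0x4980fdf3d78e55a44688d9a203c7070c14200) i1) ((fun g1 : Nat → Nat => pk61l (fun i2 => (pk61f (pk61d (nat_lit 7) 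
    (nat_lit 0x16aca40162ba3015aaa201529a1014a8a001427ce4a7c04d987804b012a49d012239c011a2c4486c043850519a0101fbe446403d78ed09800e9cb86ed8ba02c5403568cd931287cf1300c17ae5ab09113a4002b54a54274c9478e386cd0d00911a24280f9e3a70d991860b961654a131400d19305cb15284c91124248901e2070d0e0080f1c3460b14244070c142030404006181420b140c482101c30508041820200000) i2) fun u13 => (pk61f (pk61d (nat_lit 2) 
    (nat_lit 0x3d3d3d3d3d3f93d33d3d3f93f93f93f93ff653ff693ff593fff5a93ffffe6a6a4fffff9a9a4ffffffffd9699aa9aa4) i2) fun t2_3 => (pk61c (Nat.div t2_3 (nat_lit 2)) (pk61c (Nat.div t2_3 (nat_lit 1)) _root_.Cfsg.Agent.TAB.Eng.Op.one fun _ => (_root_.Cfsg.Agent.TAB.Eng.Op.gen (pk61d (nat_lit 3) 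
    (nat_lit 0x10100100004410a2040201005688) u13) (pk61d (nat_lit 2) 
    (nat_lit 0x1755555555555555555) u13) (pk61d (nat_lit 2) 
    (nat_lit 0x1041042400) u13))) fun _ => (pk61c (Nat.div t2_3 (nat_lit 3)) (_root_.Cfsg.Agent.TAB.Eng.Op.mul (pk61d (nat_lit 4) 
    (nat_lit 0x1100210825421072131041db437653210) u13) (pk61d (nat_lit 2) 
    (nat_lit 0x200050043c000) u13)) fun _ => (_root_.Cfsg.Agent.TAB.Eng.Op.lin ((fun g2 : Nat → Nat => pk61l (fun i3 => (_root_.Prod.mk (pk61d (nat_lit 21) 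
    (nat_lit 0xdffffc00008000017ffffc00004000025555500001000006ffffe0000400000dfffff000060000100000fffffc00003ffffc00001800006fffff800030000080000466666000020000080000400002aaaabdffffe000180000200001fffff800007ffff80000300000b3333555557555520000080000400002aaaabaaaaa800006ffffe0000400000dc5abe00011f553b00000bffffdffffe00001c11f70fb825f7048bca1bfda6845360601c37f48df04422800006fffff0000a66666d4ba14d29f4ad17b4fc127d7c2f46c59607dc0000080000400002fffff55555d5555a7fffa400014000130000cd555578e3920000671c732aaac05b50502daa767d27d25909830fd258000005fffff000017ffffc0000400002b3333d9999ccccce9999a4cccd7ffff3ffffbffffcffffb8000100001d9999b3333399999b3333440005dfffe9d5548c000d8aaafcfffdbe29b8d82dbb14dc8c537127d2dceb27b60b7ec0051fff075006c6d55438002a2ab171fff907fe8000010000080000dffffe00001555552aaaaeaaaacaaaabd555445555f00006a8f5cd1eb85e51efae148200009fffc2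1ff9fe002500006e0004100000e7d6aa43e173eb563b675bf40d1a670eaf10000006fffff000027ffffc0000400005bffffdfffee0000b0000c00002bfffffffffb155562aaaaaaaab05555a55551dffff8aaaaeaaaaeaaaadfb32fd5dc9c8ccd70d00fe5e54e658e0d01818872eaaaab100017bffff80008c87c4267ad9ef401ac957b8d2fd16382adfb1f26c3ac67607a5c373af58965016465289575508008eb9c970b02785f000b420961be007e909c1f96d0b1ad372a2279800021c228b6c5887d1471eec582a333cefcbec643dc4aa64ab06c2a460000fc06e67fb50f02f81fc905f947bf0cd896d4106234568f075cd42000009a1c9dc3086a398a46d711e7c068a8c126fc13a201f0920fc96a66e0d82f41e50000f88e96d01437b78501db497f6022bdf09b42192590589db177461af4208eb3dd0f7550436142f811aa005fa005a800118001c0000) i3) (pk61d (nat_lit 6) 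
    (nat_lit 0x800420010800420010800440830010820010020010801020011020c00421020011020c00881471410012061c20431050010831080c71421050420c43052c91c80c61c80841461c10831051934522112c518a38f10524c34e1c82cd18724a2cc0c518824a2c31051872092922513cb28c34424b30320928b0861c824a1051820c41648a372188f6e085a79f2cd65d79f5dc74a2cf5976dc7503d154828c3904d45d865a1c824b34f49359761924b30e4114945565c828b34f4114d45561c928b30e3d049351510620928b34e3d149350928b30d38f411493) i3))) (g2 u13) (g2 (Nat.succ u13)) List.nil) fun j => (pk61d (nat_lit 9) 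
    (nat_lit 0x9047e3b1c8d4662f168a44e23108742e150883c1a09038140600fe7ebedf0f77b3d1e6f177bb9d8eb753a1cee572381b6da6c35da8d067b3598ca6330576ba5c2d96ab055299409948a411c8d462250a803d1dce672381b4d26630174aa5428918742f120601600) j)))))))) (g1 i1) (g1 (Nat.succ i1)) List.nil) fun j => (pk61d (nat_lit 8) 
    (nat_lit 0xbbb7b3afaba7a19d9b97938d87817b71675d4f3a2600) j)) ((fun g1 : Nat → Nat => pk61l (fun i2 => (_root_.Prod.mk (pk61d (nat_lit 5) 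
    (nat_lit 0x4010040100401008200040100402080410082010c012082018882004830804520cc200c2521cc940404194483a4c019487119ac5a92f72230) i2) (pk61d (nat_lit 14) 
    (nat_lit 0x2000400040008001000200040008001000200040008001) (pk61d (nat_lit 4) 
    (nat_lit 0x2010102020310200101031031031031052120732106322074331108463322110c765432120cab98656553333120) i2)))) (g1 i1) (g1 (Nat.succ i1)) List.nil) fun j => (pk61d (nat_lit 7) 
    (nat_lit 0x2dd9af569d19d325c98f120be76d98ac4a6c880) j)))) (nat_lit 0) (nat_lit 21) List.nil) : List Cert)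
    = ?xq9005 → (List Cert)) ?hq9005; (case hq9005 => (set_option maxRecDepth 1000000 in set_option simprocs false in conv => lhs; reduce; dsimp only)); intro _; exact ?xq9005 : List Cert)

/-- certificates for the prime 2, second pass -/
noncomputable def C2b : List Cert :=
  (by
  refine (?fq9006 : ((pk61l (fun i1 => (_root_.Cfsg.Agent.TAB.Eng.Cert.mk (pk61d (nat_lit 7) 
    (nat_lit 0x4980fdf3d78e55a44688d9a203c7070c14200) i1) ((fun g1 : Nat → Nat => pk61l (fun i2 => (pk61f (pk61d (nat_lit 7) 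
    (nat_lit 0x2dda4a02cd84802bd64602ad444029d242028d09e990009d34f80992cf009524e80911ce008d1622536021c28290d0080fdf233201ebc7688c0074e5c376c5d0962a01ab466c9894407c98060bd72d584889e20015aa52a13a64a3c71d386c680488d121407cf1d386c60b3464c0a2e58a890068c982e58a942648894104c9110e4078e1a180101e3868c16284880e1828406080800a3020b140c482101c30508041820200000) i2) fun u13 => (pk61f (pk61d (nat_lit 2) 
    (nat_lit 0xf4f4f4f4f4fe4f4f4f4f4fe4fe4fe4fe4ffd94ffda4ffd64fffd6a4fffff5a9a93ffffe6a6a93ffffffff6699aa9aa4) i2) fun t2_3 => (pk61c (Nat.div t2_3 (nat_lit 2)) (pk61c (Nat.div t2_3 (nat_lit 1)) _root_.Cfsg.Agent.TAB.Eng.Op.one fun _ => (_root_.Cfsg.Agent.TAB.Eng.Op.gen (pk61d (nat_lit 3) 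
    (nat_lit 0x8c800100004411a2c40c46206688) u13) (nat_lit 1) (pk61d (nat_lit 1) 
    (nat_lit 0x1020) u13))) fun _ => (pk61c (Nat.div t2_3 (nat_lit 3)) (_root_.Cfsg.Agent.TAB.Eng.Op.mul (pk61d (nat_lit 5) 
    (nat_lit 0x2100041008a410409104a3104100b56419cc518820) u13) (pk61d (nat_lit 2) 
    (nat_lit 0x2000500043c000) u13)) fun _ => (_root_.Cfsg.Agent.TAB.Eng.Op.lin ((fun g2 : Nat → Nat => pk61l (fun i3 => (_root_.Prod.mk (pk61d (nat_lit 21) 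
    (nat_lit 0xdffffc00008000017ffffc0000400002fffff80000800006ffffe0000400000dfffff000060000100000fffffc00003ffffc00001800006fffff8000300000bffffe000020000119999800008000020000100000aaaaaf7ffff8000600000800007ffffe00001ffffe00000c00002ccccd55555d55548000020000100000aaaaaeaaaaa00001bffff80001000003716af800047d54ec00002fffff7ffff800007047dc3ee097dc122f286ff69a114d818070dfd237c1108a000017ffffc000059999b52e8534a7d2b45ed3f049f5f0bd1b16581f70000020000100000bffffd55557555569fffe90000500004c0003355555e38e4800019c71ccaaab016d4140b6a9d9f49f4964260c3f4960000017ffffc00005fffff000010000080000700003fffffffffffffff9ffffc00001000010000059999b3333399999b3333440005dfffe9d5548c000d8aaafcfffdbe29b8d82dbb14dc8c537127d2dceb27b60b7ec0051fff075006c6d55438002a2ab171fff907fe800001c0000c00009ffffe00001eaaaaaaaaaaaaaac8000100000992493249216edb78db6e2c925380010801db7fe254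00082dfffc1fff3e001615fad5f07c2afd6aa9b4eb4a018bace15fe2000000dffffe00004fffff8000080000b7fffe3fffde0001f0001c00003fffff4000000000400002ac4ea6b7cbdd89d8396fc89d8a8ec4dc55557555575555618741695ba31ecaf18743f95ba3873f31a911fcadd5555588000bdffffc00040c9c20d7f4383edc6d56b0d6af9d2e22df4d8b15a1fd0db23d8212d7f5a63e8da071f05482a85d96043e3cf93ed36cff1be880ed9c7b2cc906ae305498d69b95113cc00010e1145b62c43e8a38f762c15199e77e5f6321ee2553255836152300007e03733fda87817c0fe482fca3df866c4b6a08311a2b4783ae6a1000004d0e4ee184351cc5236b88f3e0345460937e09d100f84901dbe41a98e3fb3681bb2b337e8ec3960cfe882af9e70e7d23b39067dd0fec2518d7d130ec0eea6898b64977461af4208eb3dd0f7550436142f811aa005fa005a800118001c0000) i3) (pk61d (nat_lit 6) 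
    (nat_lit 0x800420010800420010800440830010820010800420010801020011020c00421020011020c00881471410012061c20431050010831080c71421050420c43052c91c80c61c80841461c10831051934521d12c628e3c524c34e1c82cd18724a2cc0c518824a2c310518720929425344b14a3c434320b30d0851872092c41460831058e189b8213da7e030e65e7cd41871d7966dc24b39559a6dc3ce4141882cd3d24d65d864518728c39149559760828b34f4114d45561c928c38f4124d454620928b34e3d149350310518720928c34e41149350824a2cc34e3d0452) i3))) (g2 u13) (g2 (Nat.succ u13)) List.nil) fun j => (pk61d (nat_lit 9) 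
    (nat_lit 0x12491c86411e8ec6e35188bc56291287c3a190b84c220d058240e05007fbf5f4f97c3d9eaf378bc1dced763a9d2e773389badc6d365acd268b3d9ccc6430d7abc5d2e16eb3572a9489d4aa5124914823516863f9f0f0773a9c8dc6931980b0572a1247a321386c1600) j)))))))) (g1 i1) (g1 (Nat.succ i1)) List.nil) fun j => (pk61d (nat_lit 8) 
    (nat_lit 0xbebab6b2aeaaa4a09c98948e88827c72685e503b2500) j)) ((fun g1 : Nat → Nat => pk61l (fun i2 => (_root_.Prod.mk (pk61d (nat_lit 5) 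
    (nat_lit 0x80200802008020104010040100402080410082010c012082018882004830804520cc200c2521cc940404194483a4c019487119ac5a92f72230) i2) (pk61d (nat_lit 14) 
    (nat_lit 0x2000400040008001000200040008001000200040008001) (pk61d (nat_lit 4) 
    (nat_lit 0x20101020203102010101031031031031052120732106321074331108463322110c765432120cab98656553323120) i2)))) (g1 i1) (g1 (Nat.succ i1)) List.nil) fun j => (pk61d (nat_lit 7) 
    (nat_lit 0x2e5ab15aa529f365c98f120be76d98ac4a6c880) j)))) (nat_lit 0) (nat_lit 21) List.nil) : List Cert)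
    = ?xq9006 → (List Cert)) ?hq9006; (case hq9006 => (set_option maxRecDepth 1000000 in set_option simprocs false in conv => lhs; reduce; dsimp only)); intro _; exact ?xq9006 : List Cert)

end Cfsg.Agent.TAB.Co1
end
end
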