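import Cfsg.Agent.DZ3.Spor.Co2
import Cfsg.Agent.DZ3.Spor.HN
import Cfsg.Agent.DZ3.Spor.Co1
import Cfsg.Agent.DZ3.Spor.Co3
import Cfsg.Agent.Prune
set_option linter.all false
prune_inst 0x7f00000000000000000000000000000000000000000000000000000000000000000000000000000000000000000000000000000000000000000000000000000000000000000000000000000000000000003fffffffffffffffffffffffffffbeffbdffffffff

/-!
# S4527: the row of the sporadic groups from `B/5`, `M/5`, `M/7` (helper11)
-/

set_option autoImplicit false

namespace Cfsg.Agent.DZ3.Spor

open Cfsg Cfsg.Agent.H665.NoPQ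

universe u

end Cfsg.Agent.DZ3.Spor
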